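import Cfsg.Agent.Lib.UniqueDegree79.Schur
import Mathlib.LinearAlgebra.Quotient.Basic
import Mathlib.LinearAlgebra.Trace

/-!
# Composition factors of a representation, through traces
-/

namespace Cfsg.Agent.Lib.UniqueDegree79

universe u v w

variable {G : Type u} [Group G] {k : Type v} [Field k]

/-- The trace splits along an invariant subspace. -/
theorem trace_eq_restrict_add_mapQ {V : Type w} [AddCommGroup V] [Module k V]
    [FiniteDimensional k V] (W : Submodule k V) (f : V →ₗ[k] V) (hf : W ≤ W.comap f) :
    LinearMap.trace k V f =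
      LinearMap.trace k W (f.restrict hf) + LinearMap.trace k (V ⧸ W) (W.mapQ W f hf) := by
  classical
  let bW := Module.Free.chooseBasis k W
  let bQ := Module.Free.chooseBasis k (V ⧸ W)
  let b := Module.Basis.sumQuot bW bQ
  rw [LinearMap.trace_eq_matrix_trace k b, LinearMap.trace_eq_matrix_trace k bW,
    LinearMap.trace_eq_matrix_trace k bQ, Matrix.trace, Matrix.trace, Matrix.trace,
    Fintype.sum_sum_type]
  simp only [Matrix.diag_apply]
  refine congrArg₂ (· + ·) (Finset.sum_congr rfl fun i _ => ?_) (Finset.sum_congr rfl fun i _ => ?_)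
  · simp only [b, LinearMap.toMatrix_apply, Module.Basis.sumQuot_inl]
    apply Module.Basis.sumQuot_repr_inl_of_mem
  · simp only [b, LinearMap.toMatrix_apply, Module.Basis.sumQuot_repr_inr]
    rw [← Module.Basis.sumQuot_inr bW bQ i, W.mapQ_apply]
    simp

/-- Transport of a representation along a linear equivalence. -/
def transport {V : Type w} [AddCommGroup V] [Module k V] {V' : Type*} [AddCommGroup V']
    [Module k V'] (e : V ≃ₗ[k] V') (ρ : G →* Module.End k V) : G →* Module.End k V' where
  toFun g := e.toLinearMap ∘ₗ ρ g ∘ₗ e.symm.toLinearMap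
  map_one' := LinearMap.ext fun v => by simp
  map_mul' a b := LinearMap.ext fun v => by simp

theorem irr_transport {V : Type w} [AddCommGroup V] [Module k V] {V' : Type*} [AddCommGroup V']
    [Module k V'] (e : V ≃ₗ[k] V') {ρ : G →* Module.End k V} (hρ : Irr ρ) :
    Irr (transport e ρ) := by
  refine ⟨by have := hρ.1; exact e.symm.toEquiv.nontrivial, fun W hW => ?_⟩
  rcases hρ.2 (W.comap e.toLinearMap) (fun g v hv => by
    have := hW g _ hv
    simpa [transport] using this) with h | h
  · refine Or.inl (Submodule.eq_bot_iff _ |>.2 fun v hv => ?_)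
    have : e.symm v ∈ W.comap e.toLinearMap := by simpa using hv
    rw [h, Submodule.mem_bot] at this
    exact e.symm.injective (this.trans (map_zero _).symm)
  · refine Or.inr (Submodule.eq_top_iff'.2 fun v => ?_)
    have : e.symm v ∈ W.comap e.toLinearMap := h ▸ Submodule.mem_top
    simpa using this

/-- Every representation has irreducible factors with the same trace. -/
theorem exists_factors : ∀ (d : ℕ) {V : Type w} [AddCommGroup V] [Module k V]
    [FiniteDimensional k V] (ρ : G →* Module.End k V), Module.finrank k V = d →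
    ∃ L : List (Σ n : ℕ, G →* Module.End k (Fin n → k)), (∀ s ∈ L, Irr s.2) ∧
      (L.map fun s => s.1).sum = d ∧
      (∀ g, LinearMap.trace k V (ρ g) =
        (L.map fun s => LinearMap.trace k (Fin s.1 → k) (s.2 g)).sum) ∧
      (¬ Irr ρ → ∀ s ∈ L, s.1 < d) := by
  intro d
  induction d using Nat.strong_induction_on with
  | _ d ih =>
    intro V _ _ _ ρ hd
    by_cases hirr : Irr ρ
    · let b := Module.finBasisOfFinrankEq k V hd
      refine ⟨[⟨d, transport b.equivFun ρ⟩], ?_, by simp, fun g => ?_, fun h => absurd hirr h⟩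
      · intro s hs
        rw [List.mem_singleton] at hs
        subst hs
        exact irr_transport _ hirr
      · simp only [List.map_cons, List.map_nil, List.sum_cons, List.sum_nil, add_zero]
        exact (LinearMap.trace_conj' (ρ g) b.equivFun).symm
    rcases subsingleton_or_nontrivial V with hV | hV
    · have h0 : d = 0 := hd ▸ Module.finrank_zero_of_subsingleton
      refine ⟨[], by simp, by simp [h0], fun g => ?_, fun _ => by simp⟩
      rw [show ρ g = 0 from LinearMap.ext fun v => Subsingleton.elim _ _, map_zero]
      simp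
    obtain ⟨W, hW, hWb, hWt⟩ : ∃ W : Submodule k V, (∀ g, ∀ v ∈ W, ρ g v ∈ W) ∧ W ≠ ⊥ ∧ W ≠ ⊤ := by
      by_contra! hc
      exact hirr ⟨hV, fun W hW => (em (W = ⊥)).imp id (fun h => hc W hW h)⟩
    have hc : ∀ g, W ≤ W.comap (ρ g) := fun g v hv => hW g v hv
    let ρW : G →* Module.End k W :=
      { toFun := fun g => (ρ g).restrict (hc g)
        map_one' := LinearMap.ext fun v => Subtype.ext (by simp)
        map_mul' := fun a b => LinearMap.ext fun v => Subtype.ext (by simp) }
    let ρQ : G →* Module.End k (V ⧸ W) :=
      { toFun := fun g => W.mapQ W (ρ g) (hc g)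
        map_one' := Submodule.linearMap_qext _ (LinearMap.ext fun v => by simp)
        map_mul' := fun a b => Submodule.linearMap_qext _ (LinearMap.ext fun v => by simp) }
    have hWpos : 0 < Module.finrank k W := by
      rw [Nat.pos_iff_ne_zero, Ne, Submodule.finrank_eq_zero]
      exact hWb
    have hWlt : Module.finrank k W < d := hd ▸ Submodule.finrank_lt hWt
    have hsum := Submodule.finrank_quotient_add_finrank W
    obtain ⟨L₁, h1, h1d, h1t, -⟩ := ih _ hWlt ρW rfl
    obtain ⟨L₂, h2, h2d, h2t, -⟩ := ih (Module.finrank k (V ⧸ W)) (by omega) ρQ rfl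
    have hmem : ∀ (L : List (Σ n : ℕ, G →* Module.End k (Fin n → k))), ∀ s ∈ L,
        s.1 ≤ (L.map fun s => s.1).sum := fun L s hs =>
      List.single_le_sum (fun _ _ => Nat.zero_le _) _ (List.mem_map_of_mem hs)
    refine ⟨L₁ ++ L₂, fun s hs => (List.mem_append.1 hs).elim (h1 s) (h2 s), ?_, fun g => ?_,
      fun _ s hs => ?_⟩
    · rw [List.map_append, List.sum_append, h1d, h2d]; omega
    · rw [List.map_append, List.sum_append, ← h1t, ← h2t, trace_eq_restrict_add_mapQ W _ (hc g)]
      rfl
    · rcases List.mem_append.1 hs with h | h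
      · have := hmem _ s h; omega
      · have := hmem _ s h; omega

end Cfsg.Agent.Lib.UniqueDegree79
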