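import Cfsg.Agent.Lib.UniqueDegree79.Block
import Mathlib.Algebra.BigOperators.Intervals
import Mathlib.Algebra.BigOperators.Field
import Mathlib.Data.Nat.Prime.Factorial
import Mathlib.Algebra.CharP.Basic
import Mathlib.Data.Nat.Choose.Sum

/-!
# A single chain is a module of binary forms

If `Y` has a single chain of length `n + 1 ≤ p` and `A Y = Y ^ m A` then `Y = exp D` for a single
nilpotent chain `D` with `A D = m D A`; `D` extends to a triple `D, H, U` with
`[H, D] = D`, `[D, U] = 2 H`, `[H, U] = -U`, whose span is stable under `Y` and `A`.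
-/

namespace Cfsg.Agent.Lib.UniqueDegree79

open Finset

universe v w

variable {k : Type v} [Field k] {V : Type w} [AddCommGroup V] [Module k V]

/-- The truncated exponential. -/
noncomputable def expD (D : Module.End k V) (L : ℕ) (t : k) : Module.End k V :=
  ∑ i ∈ Finset.range L, (t ^ i / (i.factorial : k)) • D ^ i

theorem factorial_ne_zero {p : ℕ} [CharP k p] (hp : p.Prime) {i : ℕ} (hi : i < p) :
    (i.factorial : k) ≠ 0 := by
  rw [Ne, CharP.cast_eq_zero_iff k p, hp.dvd_factorial]
  omega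

theorem expD_zero (D : Module.End k V) {L : ℕ} (hL : 0 < L) : expD D L 0 = 1 := by
  rw [expD, Finset.sum_eq_single 0]
  · simp
  · intro i _ hi; simp [zero_pow hi]
  · intro h; exact absurd (Finset.mem_range.2 hL) h

theorem expD_mul {p : ℕ} [CharP k p] (hp : p.Prime) {D : Module.End k V} {L : ℕ} (hD : D ^ L = 0)
    (hL : L ≤ p) (s t : k) : expD D L s * expD D L t = expD D L (s + t) := by
  have hterm : ∀ i ∈ Finset.Ico 0 L,
      (s ^ i / (i.factorial : k)) • D ^ i * expD D L t =
        ∑ N ∈ Finset.Ico i L,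
          (s ^ i / (i.factorial : k) * (t ^ (N - i) / ((N - i).factorial : k))) • D ^ N := by
    intro i _
    have h1 : ∑ N ∈ Finset.Ico i L,
          (s ^ i / (i.factorial : k) * (t ^ (N - i) / ((N - i).factorial : k))) • D ^ N =
        ∑ N ∈ Finset.Ico i (i + L),
          (s ^ i / (i.factorial : k) * (t ^ (N - i) / ((N - i).factorial : k))) • D ^ N := by
      refine Finset.sum_subset (Finset.Ico_subset_Ico_right (Nat.le_add_left L i)) fun N hN hN' => ?_
      rw [Finset.mem_Ico] at hN hN'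
      rw [pow_eq_zero_of_le (by omega : L ≤ N) hD, smul_zero]
    rw [h1, Finset.sum_Ico_eq_sum_range, Nat.add_sub_cancel_left, expD, Finset.mul_sum]
    refine Finset.sum_congr rfl fun j _ => ?_
    rw [Nat.add_sub_cancel_left, smul_mul_smul_comm, pow_add]
  conv_lhs => lhs; rw [expD, Finset.range_eq_Ico]
  rw [Finset.sum_mul, Finset.sum_congr rfl hterm, Finset.sum_Ico_Ico_comm, expD,
    Finset.range_eq_Ico]
  refine Finset.sum_congr rfl fun N hN => ?_
  rw [Finset.mem_Ico] at hN
  rw [← Finset.sum_smul]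
  congr 1
  rw [← Finset.range_eq_Ico, add_pow, Finset.sum_div]
  refine Finset.sum_congr rfl fun i hi => ?_
  rw [Finset.mem_range] at hi
  have hc : (N.choose i : k) * (i.factorial : k) * ((N - i).factorial : k) = (N.factorial : k) := by
    rw [← Nat.cast_mul, ← Nat.cast_mul, Nat.choose_mul_factorial_mul_factorial (by omega)]
  have h1 := factorial_ne_zero (k := k) hp (show N < p by omega)
  have h2 := factorial_ne_zero (k := k) hp (show i < p by omega)
  have h3 := factorial_ne_zero (k := k) hp (show N - i < p by omega)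
  field_simp
  rw [← hc]; ring

theorem expD_natCast {p : ℕ} [CharP k p] (hp : p.Prime) {D : Module.End k V} {L : ℕ}
    (hD : D ^ L = 0) (hL : L ≤ p) (hL0 : 0 < L) (j : ℕ) : expD D L (j : k) = expD D L 1 ^ j := by
  induction j with
  | zero => rw [Nat.cast_zero, expD_zero D hL0, pow_zero]
  | succ j ih => rw [pow_succ, ← ih, expD_mul hp hD hL, Nat.cast_succ]

theorem mul_pow_of_semiconj {A D : Module.End k V} {ζ : k} (h : A * D = ζ • (D * A)) (i : ℕ) :
    A * D ^ i = ζ ^ i • (D ^ i * A) := by
  induction i with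
  | zero => simp
  | succ i ih =>
    rw [pow_succ, ← mul_assoc, ih, smul_mul_assoc, mul_assoc, h, mul_smul_comm, smul_smul,
      ← pow_succ, ← mul_assoc]

theorem mul_expD {A D : Module.End k V} {ζ : k} (h : A * D = ζ • (D * A)) (L : ℕ) :
    A * expD D L 1 = expD D L ζ * A := by
  simp only [expD, Finset.mul_sum, Finset.sum_mul, mul_smul_comm, smul_mul_assoc, one_pow,
    mul_pow_of_semiconj h, smul_smul, div_mul_eq_mul_div, one_mul]

theorem expD_sub_one_pow (D : Module.End k V) {n : ℕ} (hn : 1 ≤ n) (hD : D ^ (n + 1) = 0) :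
    (expD D (n + 1) 1 - 1) ^ (n + 1) = 0 ∧ (expD D (n + 1) 1 - 1) ^ n = D ^ n := by
  obtain ⟨W, hW, hcW⟩ : ∃ W : Module.End k V,
      expD D (n + 1) 1 - 1 = D * (1 + D * W) ∧ Commute D W := by
    refine ⟨∑ i ∈ Finset.range (n - 1), (1 / ((i + 1 + 1).factorial : k)) • D ^ i, ?_,
      Commute.sum_right _ _ _ fun i _ => ((Commute.refl D).pow_right i).smul_right _⟩
    obtain ⟨n', rfl⟩ := Nat.exists_eq_add_of_le' hn
    rw [expD, Finset.sum_range_succ', Finset.sum_range_succ', Nat.add_sub_cancel]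
    simp only [pow_zero, one_pow, Nat.factorial_zero, Nat.cast_one, div_one, one_smul,
      Nat.factorial_one, zero_add, pow_one, add_sub_cancel_right, Finset.mul_sum, mul_add, mul_one,
      mul_smul_comm, ← pow_succ']
    abel
  have hc : Commute D (1 + D * W) :=
    (Commute.one_right D).add_right ((Commute.refl D).mul_right hcW)
  rw [hW, hc.mul_pow, hc.mul_pow]
  refine ⟨by rw [hD, zero_mul], ?_⟩
  have key : ∀ i, D ^ n * (1 + D * W) ^ i = D ^ n := by
    intro i
    induction i with
    | zero => simp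
    | succ i ih =>
      rw [pow_succ, ← mul_assoc, ih, mul_add, mul_one, ← mul_assoc, ← pow_succ, hD, zero_mul,
        add_zero]
  exact key n

variable [FiniteDimensional k V]

set_option maxHeartbeats 1000000 in
/-- A single chain carries the structure of binary forms. -/
theorem exists_model {p : ℕ} [CharP k p] (hp : p.Prime) {Y A : Module.End k V} {m n : ℕ} {v : V}
    {μ : k} (hn : 1 ≤ n) (hnp : n + 1 ≤ p) (hdim : Module.finrank k V = n + 1)
    (hn1 : (Y - 1) ^ (n + 1) = 0) (hvn : ((Y - 1) ^ n) v ≠ 0) (hAY : A * Y = Y ^ m * A)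
    (hv : A v = μ • v) :
    ∃ D : Module.End k V, D ^ (n + 1) = 0 ∧ (D ^ n) v ≠ 0 ∧ Y = expD D (n + 1) 1 ∧
      A * D = (m : k) • (D * A) := by
  obtain ⟨X, hX⟩ : ∃ X, X = Y - 1 := ⟨_, rfl⟩
  rw [← hX] at hn1 hvn
  let c := basisOfLinearIndependentOfCardEqFinrank (chain_linearIndependent hn1 hvn)
    (by rw [Fintype.card_fin, hdim])
  have hc : ∀ i : Fin (n + 1), c i = (X ^ (i : ℕ)) v := fun i => by simp [c]
  have hhigh : ∀ i, n + 1 ≤ i → (X ^ i) v = 0 := fun i hi => by
    rw [pow_eq_zero_of_le hi hn1, LinearMap.zero_apply]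
  let D₀ : Module.End k V := c.constr k fun i => (X ^ ((i : ℕ) + 1)) v
  let A₀ : Module.End k V := c.constr k fun i => (μ * (m : k) ^ (i : ℕ)) • c i
  have hD₀ : ∀ i, D₀ ((X ^ i) v) = (X ^ (i + 1)) v := by
    intro i
    by_cases hi : i < n + 1
    · rw [show (X ^ i) v = c ⟨i, hi⟩ from (hc ⟨i, hi⟩).symm]
      simp [D₀]
    · rw [hhigh i (not_lt.1 hi), hhigh (i + 1) (by omega), map_zero]
  have hA₀ : ∀ i, A₀ ((X ^ i) v) = (μ * (m : k) ^ i) • (X ^ i) v := by
    intro i
    by_cases hi : i < n + 1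
    · rw [show (X ^ i) v = c ⟨i, hi⟩ from (hc ⟨i, hi⟩).symm]
      simp [A₀]
    · rw [hhigh i (not_lt.1 hi), map_zero, smul_zero]
  have hD₀pow : ∀ j i, (D₀ ^ j) ((X ^ i) v) = (X ^ (i + j)) v := by
    intro j
    induction j with
    | zero => intro i; simp
    | succ j ih => intro i; rw [pow_succ', Module.End.mul_apply, ih, hD₀, add_assoc]
  have hD₀n : D₀ ^ (n + 1) = 0 := c.ext fun i => by
    rw [hc, hD₀pow, hhigh _ (by omega), LinearMap.zero_apply]
  have hAD₀ : A₀ * D₀ = (m : k) • (D₀ * A₀) := c.ext fun i => by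
    rw [Module.End.mul_apply, LinearMap.smul_apply, Module.End.mul_apply, hc, hD₀, hA₀, hA₀,
      map_smul, hD₀, smul_smul, pow_succ]
    ring_nf
  obtain ⟨Y₀, hY₀⟩ : ∃ Y₀, Y₀ = expD D₀ (n + 1) 1 := ⟨_, rfl⟩
  have hAY₀ : A₀ * Y₀ = Y₀ ^ m * A₀ := by
    rw [hY₀, mul_expD hAD₀, expD_natCast hp hD₀n hnp (Nat.succ_pos n)]
  obtain ⟨hX₀n1, hX₀n⟩ := expD_sub_one_pow D₀ hn hD₀n
  rw [← hY₀] at hX₀n1 hX₀n
  obtain ⟨X₀, hX₀⟩ : ∃ X₀, X₀ = Y₀ - 1 := ⟨_, rfl⟩
  rw [← hX₀] at hX₀n1 hX₀n
  have hD₀v : (D₀ ^ n) v = (X ^ n) v := by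
    have := hD₀pow n 0
    rwa [pow_zero, Module.End.one_apply, zero_add] at this
  have hX₀v : (X₀ ^ n) v ≠ 0 := by rw [hX₀n, hD₀v]; exact hvn
  let c' := basisOfLinearIndependentOfCardEqFinrank (chain_linearIndependent hX₀n1 hX₀v)
    (by rw [Fintype.card_fin, hdim])
  have hc' : ∀ i : Fin (n + 1), c' i = (X₀ ^ (i : ℕ)) v := fun i => by simp [c']
  let φ : V ≃ₗ[k] V := c.equiv c' (Equiv.refl _)
  have hφ : ∀ i, φ ((X ^ i) v) = (X₀ ^ i) v := by
    intro i
    by_cases hi : i < n + 1
    · rw [show (X ^ i) v = c ⟨i, hi⟩ from (hc ⟨i, hi⟩).symm,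
        show (X₀ ^ i) v = c' ⟨i, hi⟩ from (hc' ⟨i, hi⟩).symm]
      simp [φ]
    · rw [hhigh i (not_lt.1 hi), map_zero, pow_eq_zero_of_le (not_lt.1 hi) hX₀n1,
        LinearMap.zero_apply]
  have hφX : ∀ u, φ (X u) = X₀ (φ u) := by
    refine LinearMap.congr_fun (c.ext (f₁ := φ.toLinearMap.comp X) (f₂ := X₀.comp φ.toLinearMap)
      fun i => ?_)
    simp only [LinearMap.comp_apply, LinearEquiv.coe_coe, hc]
    rw [← Module.End.mul_apply, ← pow_succ', hφ, hφ, ← Module.End.mul_apply, ← pow_succ']
  have hφY : ∀ u, φ (Y u) = Y₀ (φ u) := fun u => by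
    have h1 := hφX u
    rw [hX, hX₀, LinearMap.sub_apply, LinearMap.sub_apply, Module.End.one_apply,
      Module.End.one_apply, map_sub] at h1
    exact sub_left_injective h1
  have hφg : ∀ i u, φ ((geo Y m ^ i) u) = (geo Y₀ m ^ i) (φ u) := by
    have hp' : ∀ j u, φ ((Y ^ j) u) = (Y₀ ^ j) (φ u) := by
      intro j
      induction j with
      | zero => intro u; simp
      | succ j ih =>
        intro u
        rw [pow_succ', Module.End.mul_apply, hφY, ih, ← Module.End.mul_apply, ← pow_succ']
    intro i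
    induction i with
    | zero => intro u; simp
    | succ i ih =>
      intro u
      rw [pow_succ', Module.End.mul_apply, pow_succ', Module.End.mul_apply, ← ih]
      simp only [geo, LinearMap.sum_apply, map_sum, hp']
  have hφXp : ∀ i u, φ ((X ^ i) u) = (X₀ ^ i) (φ u) := by
    intro i
    induction i with
    | zero => intro u; simp
    | succ i ih =>
      intro u
      rw [pow_succ', Module.End.mul_apply, hφX, ih, ← Module.End.mul_apply, ← pow_succ']
  have hφv : φ v = v := by
    have := hφ 0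
    rwa [pow_zero, pow_zero, Module.End.one_apply] at this
  have hA₀v : A₀ v = μ • v := by
    have := hA₀ 0
    rwa [pow_zero, pow_zero, Module.End.one_apply, mul_one] at this
  have hφA : ∀ u, φ (A u) = A₀ (φ u) := by
    refine LinearMap.congr_fun (c.ext (f₁ := φ.toLinearMap.comp A) (f₂ := A₀.comp φ.toLinearMap)
      fun i => ?_)
    simp only [LinearMap.comp_apply, LinearEquiv.coe_coe, hc]
    rw [hφ, ← Module.End.mul_apply, hX, mul_sub_one_pow hAY, Module.End.mul_apply, hv,
      ← Module.End.mul_apply A₀, hX₀, mul_sub_one_pow hAY₀]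
    simp only [Module.End.mul_apply, map_smul, hA₀v, ← hX, ← hX₀, hφXp, hφg, hφv]
  let D : Module.End k V := φ.symm.toLinearMap.comp (D₀.comp φ.toLinearMap)
  have hD : ∀ j u, (D ^ j) u = φ.symm ((D₀ ^ j) (φ u)) := by
    intro j
    induction j with
    | zero => intro u; simp
    | succ j ih =>
      intro u
      rw [pow_succ', Module.End.mul_apply, ih, pow_succ', Module.End.mul_apply]
      simp [D]
  refine ⟨D, LinearMap.ext fun u => by rw [hD, hD₀n]; simp, ?_, ?_, ?_⟩
  · rw [hD, hφv, hD₀v]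
    exact fun h0 => hvn (φ.symm.injective (h0.trans (map_zero _).symm))
  · refine LinearMap.ext fun u => φ.injective ?_
    rw [hφY, hY₀]
    simp [expD, hD]
  · refine LinearMap.ext fun u => φ.injective ?_
    simp only [Module.End.mul_apply, LinearMap.smul_apply, map_smul, D, LinearMap.comp_apply,
      LinearEquiv.coe_coe, hφA, LinearEquiv.apply_symm_apply]
    exact LinearMap.congr_fun hAD₀ (φ u)

set_option maxHeartbeats 2000000 in
/-- A single nilpotent chain extends to a triple. -/
theorem exists_triple {p : ℕ} [CharP k p] (hp : p.Prime) {D : Module.End k V} {n : ℕ} {v : V}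
    (hnp : n + 1 ≤ p) (hp2 : p ≠ 2) (hdim : Module.finrank k V = n + 1)
    (hD : D ^ (n + 1) = 0) (hv : (D ^ n) v ≠ 0) :
    ∃ H U : Module.End k V, H * D - D * H = D ∧ D * U - U * D = (2 : k) • H ∧
      H * U - U * H = -U ∧
      expD D (n + 1) 1 * H = (H - D) * expD D (n + 1) 1 ∧
      expD D (n + 1) 1 * U = (U + (2 : k) • H - D) * expD D (n + 1) 1 ∧
      6 * LinearMap.trace k V (D * U) = ((n * (n + 1) * (n + 2) : ℕ) : k) ∧
      (∀ i, LinearMap.trace k V (D * D ^ i) = 0) ∧
      (∀ i, LinearMap.trace k V (H * D ^ i) = 0) ∧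
      (∀ i, i ≠ 1 → LinearMap.trace k V (U * D ^ i) = 0) ∧
      ∀ (A : Module.End k V) (ζ μ : k), A * D = ζ • (D * A) → A v = μ • v →
        A * H = H * A ∧ ζ • (A * U) = U * A := by
  have h2 : (2 : k) ≠ 0 := by
    intro h0
    have := (CharP.cast_eq_zero_iff k p 2).1 (by exact_mod_cast h0)
    exact hp2 ((Nat.prime_dvd_prime_iff_eq hp Nat.prime_two).1 this)
  let b := basisOfLinearIndependentOfCardEqFinrank (chain_linearIndependent hD hv)
    (by rw [Fintype.card_fin, hdim])
  have hb : ∀ i : Fin (n + 1), b i = (D ^ (i : ℕ)) v := fun i => by simp [b]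
  have hhigh : ∀ i, n + 1 ≤ i → (D ^ i) v = 0 := fun i hi => by
    rw [pow_eq_zero_of_le hi hD, LinearMap.zero_apply]
  let H : Module.End k V := b.constr k fun i => (((i : ℕ) : k) - (n : k) / 2) • (D ^ (i : ℕ)) v
  let U : Module.End k V := b.constr k fun i =>
    (((i : ℕ) : k) * ((n : k) + 1 - (i : ℕ))) • (D ^ ((i : ℕ) - 1)) v
  have hH : ∀ i : ℕ, H ((D ^ i) v) = ((i : k) - (n : k) / 2) • (D ^ i) v := by
    intro i
    by_cases hi : i < n + 1
    · rw [show (D ^ i) v = b ⟨i, hi⟩ from (hb ⟨i, hi⟩).symm]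
      simp only [H]
      rw [Module.Basis.constr_basis, hb]
    · rw [hhigh i (not_lt.1 hi), map_zero, smul_zero]
  have hU : ∀ i : ℕ, U ((D ^ i) v) = ((i : k) * ((n : k) + 1 - i)) • (D ^ (i - 1)) v := by
    intro i
    by_cases hi : i < n + 1
    · rw [show (D ^ i) v = b ⟨i, hi⟩ from (hb ⟨i, hi⟩).symm]
      simp [U]
    · rw [hhigh i (not_lt.1 hi), map_zero]
      rcases Nat.eq_or_lt_of_le (not_lt.1 hi) with rfl | hlt
      · simp
      · rw [hhigh (i - 1) (by omega), smul_zero]
  have hDa : ∀ i, D ((D ^ i) v) = (D ^ (i + 1)) v := fun i => by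
    rw [pow_succ', Module.End.mul_apply]
  have hDj : ∀ j i, (D ^ j) ((D ^ i) v) = (D ^ (i + j)) v := fun j i => by
    rw [← Module.End.mul_apply, ← pow_add, add_comm]
  have hHD : H * D - D * H = D := b.ext fun i => by
    simp only [LinearMap.sub_apply, Module.End.mul_apply, hb, hDa, hH, map_smul, ← sub_smul]
    conv_rhs => rw [← one_smul k ((D ^ ((i : ℕ) + 1)) v)]
    congr 1
    push_cast
    ring
  have hDU : D * U - U * D = (2 : k) • H := b.ext fun i => by
    simp only [LinearMap.sub_apply, Module.End.mul_apply, hb, hDa, hU, hH, map_smul,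
      LinearMap.smul_apply, smul_smul, Nat.add_sub_cancel]
    rcases Nat.eq_zero_or_pos (i : ℕ) with h0 | h0
    · simp only [h0, Nat.cast_zero, zero_mul, zero_smul, zero_sub, ← neg_smul]
      congr 1
      field_simp
      ring
    · rw [Nat.sub_add_cancel h0, ← sub_smul]
      congr 1
      push_cast
      field_simp
      ring
  have hHU : H * U - U * H = -U := b.ext fun i => by
    simp only [LinearMap.sub_apply, Module.End.mul_apply, hb, hU, hH, map_smul, smul_smul,
      LinearMap.neg_apply, ← sub_smul, ← neg_smul]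
    rcases Nat.eq_zero_or_pos (i : ℕ) with h0 | h0
    · simp [h0]
    · congr 1
      rw [Nat.cast_sub h0, Nat.cast_one]
      ring
  have hHpow : ∀ i : ℕ, H * D ^ i = D ^ i * H + (i : k) • D ^ i := by
    intro i
    induction i with
    | zero => simp
    | succ i ih =>
      rw [pow_succ, ← mul_assoc, ih, add_mul, smul_mul_assoc, mul_assoc,
        show H * D = D * H + D by rw [← sub_eq_iff_eq_add', hHD], mul_add, ← mul_assoc,
        Nat.cast_succ, add_smul, one_smul]
      abel
  have hshift : ∀ i, D ^ (n + 1 + i) = 0 := fun i => pow_eq_zero_of_le (by omega) hD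
  have hfac : ∀ i < p, (i.factorial : k) ≠ 0 := fun i hi => factorial_ne_zero hp hi
  have hdY : ∑ i ∈ Finset.range (n + 1), ((i : k) / (i.factorial : k)) • D ^ i =
      D * expD D (n + 1) 1 := by
    rw [expD, Finset.mul_sum, Finset.sum_range_succ', Finset.sum_range_succ]
    simp only [Nat.cast_zero, zero_div, zero_smul, add_zero, one_pow, mul_smul_comm, ← pow_succ',
      hD, smul_zero]
    refine Finset.sum_congr rfl fun i hi => ?_
    congr 1
    have := Finset.mem_range.1 hi
    have h1 := hfac i (by omega)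
    have h3 : ((i + 1 : ℕ) : k) ≠ 0 := by
      have := hfac (i + 1) (by omega)
      rw [Nat.factorial_succ, Nat.cast_mul] at this
      exact left_ne_zero_of_mul this
    rw [Nat.factorial_succ, Nat.cast_mul, div_mul_cancel_left₀ h3, one_div]
  have hYH : expD D (n + 1) 1 * H = (H - D) * expD D (n + 1) 1 := by
    rw [sub_mul, eq_sub_iff_add_eq, ← hdY, expD, Finset.sum_mul, Finset.mul_sum,
      ← Finset.sum_add_distrib]
    refine Finset.sum_congr rfl fun i _ => ?_
    rw [mul_smul_comm, hHpow, smul_mul_assoc, smul_add, smul_smul, one_pow, div_mul_eq_mul_div,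
      one_mul]
  have hUpow : ∀ i : ℕ, D ^ (i + 1) * U = U * D ^ (i + 1) + ((2 : k) * (i + 1)) • (H * D ^ i) -
      (((i : k) + 1) * i) • D ^ i := by
    intro i
    induction i with
    | zero =>
      simp only [zero_add, pow_one, pow_zero, mul_one, Nat.cast_zero, mul_zero, zero_smul, sub_zero]
      rw [← hDU]; abel
    | succ i ih =>
      have hDH : D * (H * D ^ i) = H * D ^ (i + 1) - D ^ (i + 1) := by
        rw [← mul_assoc, show D * H = H * D - D from eq_sub_of_add_eq' (sub_eq_iff_eq_add.1 hHD).symm,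
          sub_mul, mul_assoc, ← pow_succ']
      rw [pow_succ' D (i + 1), mul_assoc, ih, mul_sub, mul_add, mul_smul_comm, mul_smul_comm, hDH,
        ← mul_assoc D U, show D * U = U * D + (2 : k) • H from sub_eq_iff_eq_add'.1 hDU, add_mul,
        smul_mul_assoc, mul_assoc, ← pow_succ', smul_sub, Nat.cast_succ]
      simp only [← pow_succ']
      module
  have hHn : H * D ^ n = ((n : k) / 2) • D ^ n := b.ext fun i => by
    simp only [Module.End.mul_apply, LinearMap.smul_apply, hb, hDj, hH]
    rcases Nat.eq_zero_or_pos (i : ℕ) with h0 | h0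
    · rw [h0, zero_add]
      congr 1
      field_simp
      ring
    · rw [hhigh _ (by omega), smul_zero, smul_zero]
  have hYU : expD D (n + 1) 1 * U = (U + (2 : k) • H - D) * expD D (n + 1) 1 := by
    obtain ⟨Z1, hZ1⟩ : ∃ Z : Module.End k V,
        Z = ∑ i ∈ Finset.range n, ((1 : k) / (i.factorial : k)) • D ^ i := ⟨_, rfl⟩
    obtain ⟨Z2, hZ2⟩ : ∃ Z : Module.End k V,
        Z = ∑ i ∈ Finset.range n, ((i : k) / (i.factorial : k)) • D ^ i := ⟨_, rfl⟩
    have e1 : expD D (n + 1) 1 * U = U * expD D (n + 1) 1 + (2 : k) • (H * Z1) - Z2 := by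
      rw [hZ1, hZ2, expD, Finset.sum_mul, Finset.mul_sum, Finset.mul_sum, Finset.smul_sum,
        Finset.sum_range_succ' (fun i => ((1 : k) ^ i / (i.factorial : k)) • D ^ i * U) n,
        Finset.sum_range_succ' (fun i => U * ((1 : k) ^ i / (i.factorial : k)) • D ^ i) n]
      rw [add_right_comm, ← Finset.sum_add_distrib, add_sub_right_comm, ← Finset.sum_sub_distrib]
      simp only [pow_zero, smul_mul_assoc, mul_smul_comm, one_mul, mul_one, one_pow,
        Nat.factorial_zero, Nat.cast_one, div_one, one_smul]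
      congr 1
      refine Finset.sum_congr rfl fun i hi => ?_
      have := Finset.mem_range.1 hi
      have h1 := hfac i (by omega)
      have h3 : ((i : k) + 1) ≠ 0 := by
        have := hfac (i + 1) (by omega)
        rw [Nat.factorial_succ, Nat.cast_mul, Nat.cast_succ] at this
        exact left_ne_zero_of_mul this
      rw [hUpow, smul_sub, smul_add, smul_smul, smul_smul, smul_smul, Nat.factorial_succ,
        Nat.cast_mul, Nat.cast_succ]
      congr 1
      · congr 1
        congr 1
        field_simp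
      · congr 1
        field_simp
    have e2 : Z1 = expD D (n + 1) 1 - ((1 : k) / (n.factorial : k)) • D ^ n := by
      rw [hZ1, expD, Finset.sum_range_succ]
      simp
    have e3 : Z2 = D * expD D (n + 1) 1 - ((n : k) / (n.factorial : k)) • D ^ n := by
      rw [hZ2, ← hdY, Finset.sum_range_succ]
      simp
    rw [e1, e2, e3, mul_sub, mul_smul_comm, hHn, sub_mul, add_mul, smul_mul_assoc, smul_sub,
      smul_smul, smul_smul]
    rw [show (2 : k) * (1 / (n.factorial : k)) * ((n : k) / 2) = (n : k) / (n.factorial : k) by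
      field_simp]
    abel
  have htrace : ∀ Z : Module.End k V,
      LinearMap.trace k V Z = ∑ i, b.repr (Z (b i)) i := fun Z => by
    rw [LinearMap.trace_eq_matrix_trace k b]
    simp [Matrix.trace, LinearMap.toMatrix_apply]
  have hne : ∀ (i : Fin (n + 1)) (j : ℕ), j ≠ (i : ℕ) → ∀ c : k,
      b.repr (c • (D ^ j) v) i = 0 := by
    intro i j hj c
    by_cases hjn : j < n + 1
    · rw [show (D ^ j) v = b ⟨j, hjn⟩ from (hb ⟨j, hjn⟩).symm, map_smul, Module.Basis.repr_self,
        Finsupp.smul_apply, Finsupp.single_apply, if_neg (fun e => hj (congrArg Fin.val e)),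
        smul_zero]
    · rw [hhigh j (not_lt.1 hjn), smul_zero, map_zero, Finsupp.zero_apply]
  refine ⟨H, U, hHD, hDU, hHU, hYH, hYU, ?_, fun j => ?_, fun j => ?_, fun j hj => ?_, ?_⟩
  · have hsum : ∀ (N : ℕ) (L : k), 6 * ∑ i ∈ Finset.range N, (i : k) * (L - i) =
        (N : k) * ((N : k) - 1) * (3 * L - 2 * N + 1) := by
      intro N L
      induction N with
      | zero => simp
      | succ N ih => rw [Finset.sum_range_succ, mul_add, ih]; push_cast; ring
    rw [htrace, Finset.sum_congr rfl (g := fun i : Fin (n + 1) =>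
      ((i : ℕ) : k) * (((n : k) + 1) - (i : ℕ))) fun i _ => ?_,
      ← Finset.sum_range fun i => (i : k) * (((n : k) + 1) - i), hsum]
    · push_cast; ring
    · rw [Module.End.mul_apply, hb, hU, map_smul, hDa]
      rcases Nat.eq_zero_or_pos (i : ℕ) with h0 | h0
      · simp [h0]
      · rw [Nat.sub_add_cancel h0, ← hb, map_smul, Module.Basis.repr_self, Finsupp.smul_apply,
          Finsupp.single_eq_same, smul_eq_mul, mul_one]
  · rw [htrace]
    refine Finset.sum_eq_zero fun i _ => ?_
    rw [Module.End.mul_apply, hb, hDj, hDa, ← one_smul k ((D ^ _) v)]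
    exact hne i _ (by omega) 1
  · rcases Nat.eq_zero_or_pos j with rfl | hj
    · rw [pow_zero, mul_one]
      have h1 := congrArg (LinearMap.trace k V) hDU
      rw [map_sub, LinearMap.trace_mul_comm, sub_self, map_smul, smul_eq_mul] at h1
      exact (mul_eq_zero.1 h1.symm).resolve_left h2
    · rw [htrace]
      refine Finset.sum_eq_zero fun i _ => ?_
      rw [Module.End.mul_apply, hb, hDj, hH]
      exact hne i _ (by omega) _
  · rw [htrace]
    refine Finset.sum_eq_zero fun i _ => ?_
    rw [Module.End.mul_apply, hb, hDj, hU]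
    by_cases h0 : (i : ℕ) + j = 0
    · rw [h0]; simp
    · exact hne i _ (by omega) _
  · intro A ζ μ hAD hAv
    have hAb : ∀ i : ℕ, A ((D ^ i) v) = (ζ ^ i * μ) • (D ^ i) v := fun i => by
      rw [← Module.End.mul_apply, mul_pow_of_semiconj hAD, LinearMap.smul_apply,
        Module.End.mul_apply, hAv, map_smul, smul_smul]
    refine ⟨b.ext fun i => ?_, b.ext fun i => ?_⟩
    · simp only [Module.End.mul_apply, hb, hAb, hH, map_smul, smul_smul, mul_comm]
    · simp only [Module.End.mul_apply, LinearMap.smul_apply, hb, hAb, hU, map_smul, smul_smul]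
      rcases Nat.eq_zero_or_pos (i : ℕ) with h0 | h0
      · simp [h0]
      · congr 1
        conv_rhs => rw [show (i : ℕ) = (i : ℕ) - 1 + 1 by omega, pow_succ]
        push_cast [Nat.sub_add_cancel h0]
        ring

end Cfsg.Agent.Lib.UniqueDegree79
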