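import Cfsg.Agent.Lib.UniqueDegree79.Green
import Cfsg.Agent.Lib.UniqueDegree79.Factors
import Cfsg.Agent.Lib.UniqueDegree79.SL2
import Mathlib.Algebra.Algebra.Bilinear
import Mathlib.RingTheory.Nilpotent.Basic
import Mathlib.LinearAlgebra.BilinearForm.Basic
import Mathlib.RingTheory.Artinian.Module

/-!
# A small irreducible module gives a three-dimensional orthogonal one

For an irreducible module of dimension `n + 1` with `2 (n + 1) < p` the conjugation action on
endomorphisms has, by the Green trick, a three-dimensional invariant subspace on which the trace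
form is non-degenerate.
-/

namespace Cfsg.Agent.Lib.UniqueDegree79

open Finset

universe u v w

variable {G : Type u} [Group G] {k : Type v} [Field k] {V : Type w} [AddCommGroup V] [Module k V]

/-- The conjugation action on endomorphisms. -/
def adRep (σ : G →* Module.End k V) : G →* Module.End k (Module.End k V) where
  toFun a := LinearMap.mulLeft k (σ a) * LinearMap.mulRight k (σ a⁻¹)
  map_one' := LinearMap.ext fun f => by
    rw [Module.End.mul_apply, LinearMap.mulLeft_apply, LinearMap.mulRight_apply, inv_one, map_one,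
      one_mul, mul_one, Module.End.one_apply]
  map_mul' a b := LinearMap.ext fun f => by
    simp only [Module.End.mul_apply, LinearMap.mulLeft_apply, LinearMap.mulRight_apply, map_mul,
      mul_inv_rev]
    simp only [mul_assoc]

theorem adRep_apply (σ : G →* Module.End k V) (a : G) (f : Module.End k V) :
    adRep σ a f = σ a * f * σ a⁻¹ := (mul_assoc _ _ _).symm

theorem adRep_mul (σ : G →* Module.End k V) (a : G) (f f' : Module.End k V) :
    adRep σ a f * adRep σ a f' = adRep σ a (f * f') := by
  have h : σ a⁻¹ * σ a = 1 := by rw [← map_mul, inv_mul_cancel, map_one]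
  simp only [adRep_apply, mul_assoc]
  rw [← mul_assoc (σ a⁻¹) (σ a), h, one_mul]

theorem adRep_eq_of_semiconj (σ : G →* Module.End k V) {a : G} {f f' : Module.End k V}
    (h : σ a * f = f' * σ a) : adRep σ a f = f' := by
  rw [adRep_apply, h, mul_assoc, ← map_mul, mul_inv_cancel, map_one, mul_one]

theorem adRep_trace (σ : G →* Module.End k V) (a : G) (f f' : Module.End k V) :
    LinearMap.trace k V (adRep σ a f * adRep σ a f') = LinearMap.trace k V (f * f') := by
  rw [adRep_mul, adRep_apply, LinearMap.trace_mul_comm, ← mul_assoc, ← map_mul, inv_mul_cancel,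
    map_one, one_mul]

/-- The trace form on endomorphisms is non-degenerate. -/
theorem eq_zero_of_trace_mul [FiniteDimensional k V] {f : Module.End k V}
    (h : ∀ f', LinearMap.trace k V (f * f') = 0) : f = 0 := by
  classical
  let b := Module.finBasis k V
  refine (LinearMap.toMatrix b b).injective (Matrix.ext fun i j => ?_)
  have h := h (Matrix.toLin b b (Matrix.single j i 1))
  rw [LinearMap.trace_eq_matrix_trace k b, LinearMap.toMatrix_mul, LinearMap.toMatrix_toLin] at h
  simpa [Matrix.trace, Matrix.mul_apply, Matrix.single_apply, ite_and, Finset.sum_ite_eq] using h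

variable {p : ℕ} [hp : Fact p.Prime] [Fintype G] {P : Sylow p G} {E : Subgroup G} {y x : G}
  {m M : ℕ} [CharP k p] [IsAlgClosed k] [FiniteDimensional k V]

set_option maxHeartbeats 2000000 in
/-- The three-dimensional orthogonal module. -/
theorem Gens.exists_three (g : Gens p P E y x m M) (h : Hyp p G P E)
    {σ : G →* Module.End k V} (hσ : Irr σ) (hl : 2 ≤ Module.finrank k V)
    (hl' : 2 * Module.finrank k V + 1 ≤ p) :
    ∃ (τ : G →* Module.End k (Fin 3 → k)) (B : LinearMap.BilinForm k (Fin 3 → k)),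
      (∀ a b, B a b = B b a) ∧ (∀ a, (∀ b, B a b = 0) → a = 0) ∧
      (∀ c a b, B (τ c a) (τ c b) = B a b) ∧ τ x ≠ 1 := by
  classical
  have h5 := h.five
  obtain ⟨v, a, hva, hX, hvn, -, -⟩ := g.single_block h hσ (by omega)
  obtain ⟨n, hn⟩ : ∃ n, Module.finrank k V = n + 1 := ⟨Module.finrank k V - 1, by omega⟩
  rw [hn] at hl hl' hX hvn
  rw [Nat.add_sub_cancel] at hvn
  have hAY : σ x * σ y = σ y ^ m * σ x := by
    have := g.map_AY σ 1; rwa [pow_one, pow_one] at this
  obtain ⟨D, hD, hDv, hYexp, hAD⟩ :=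
    exists_model hp.out (by omega) (by omega) hn hX hvn hAY hva
  obtain ⟨H, U, hHD, hDU, hHU, hYH, hYU, htrDU, htrD, htrH, htrU, hconj⟩ :=
    exists_triple hp.out (show n + 1 ≤ p by omega) (by omega) hn hD hDv
  obtain ⟨hAH, hAU⟩ := hconj (σ x) (m : k) ((m : k) ^ a) hAD hva
  rw [← hYexp] at hYH hYU
  have hζ := g.prim h k
  have hζ1 : (m : k) ≠ 1 := hζ.ne_one h.two_le
  have hζ0 : (m : k) ≠ 0 := hζ.ne_zero Nat.card_pos.ne'
  have h2 : (2 : k) ≠ 0 := by
    intro h0
    have := Nat.le_of_dvd two_pos ((CharP.cast_eq_zero_iff k p 2).1 (by exact_mod_cast h0))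
    omega
  obtain ⟨s, hs⟩ : ∃ s, s = LinearMap.trace k V (D * U) := ⟨_, rfl⟩
  have hs0 : s ≠ 0 := by
    intro h0
    rw [← hs, h0, mul_zero, eq_comm, CharP.cast_eq_zero_iff k p] at htrDU
    rcases hp.out.dvd_mul.1 htrDU with h1 | h1
    · rcases hp.out.dvd_mul.1 h1 with h3 | h3 <;> have := Nat.le_of_dvd (by omega) h3 <;> omega
    · have := Nat.le_of_dvd (by omega) h1; omega
  -- the pairings
  have tDD : LinearMap.trace k V (D * D) = 0 := by simpa using htrD 1
  have tHD : LinearMap.trace k V (H * D) = 0 := by simpa using htrH 1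
  have tUD : LinearMap.trace k V (U * D) = s := by rw [LinearMap.trace_mul_comm, hs]
  have tDH : LinearMap.trace k V (D * H) = 0 := by rw [LinearMap.trace_mul_comm, tHD]
  have tHH : 2 * LinearMap.trace k V (H * H) = s := by
    rw [← smul_eq_mul, ← map_smul, ← mul_smul_comm, ← hDU, mul_sub, map_sub, ← mul_assoc,
      ← mul_assoc, LinearMap.trace_mul_comm k (H * U) D, ← mul_assoc, ← map_sub, ← sub_mul, hHD, hs]
  have tHU : LinearMap.trace k V (H * U) = 0 := by
    have h1 := congrArg (fun z => LinearMap.trace k V (H * z)) hHU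
    simp only [mul_sub, map_sub, mul_neg, map_neg] at h1
    rw [LinearMap.trace_mul_comm k H (U * H), mul_assoc U H H, LinearMap.trace_mul_comm k U (H * H),
      mul_assoc, sub_self] at h1
    exact neg_eq_zero.1 h1.symm
  have tUH : LinearMap.trace k V (U * H) = 0 := by rw [LinearMap.trace_mul_comm, tHU]
  have tUU : LinearMap.trace k V (U * U) = 0 := by
    have h1 := congrArg (fun z => LinearMap.trace k V (U * z)) hHU
    simp only [mul_sub, map_sub, mul_neg, map_neg] at h1
    rw [LinearMap.trace_mul_comm k U (H * U), mul_assoc H U U, LinearMap.trace_mul_comm k H (U * U),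
      mul_assoc, sub_self] at h1
    exact neg_eq_zero.1 h1.symm
  -- the images of the triple
  have hYD : adRep σ y D = D := by
    refine adRep_eq_of_semiconj σ ?_
    rw [hYexp, expD]
    exact ((Commute.sum_left _ _ _ fun i _ =>
      ((Commute.refl D).pow_left i).smul_left _)).eq
  have hYH' : adRep σ y H = H - D := adRep_eq_of_semiconj σ hYH
  have hYU' : adRep σ y U = U + (2 : k) • H - D := adRep_eq_of_semiconj σ hYU
  have hXD : adRep σ x D = (m : k) • D :=
    adRep_eq_of_semiconj σ (by rw [hAD, smul_mul_assoc])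
  have hXH : adRep σ x H = H := adRep_eq_of_semiconj σ hAH
  have hXU : adRep σ x U = (m : k)⁻¹ • U :=
    adRep_eq_of_semiconj σ (by rw [smul_mul_assoc, ← hAU, smul_smul, inv_mul_cancel₀ hζ0, one_smul])
  -- the orthogonal projection
  let f : Module.End k (Module.End k V) :=
    s⁻¹ • (((LinearMap.trace k V).comp (LinearMap.mulLeft k U)).smulRight D +
      (2 : k) • ((LinearMap.trace k V).comp (LinearMap.mulLeft k H)).smulRight H +
      ((LinearMap.trace k V).comp (LinearMap.mulLeft k D)).smulRight U)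
  have hf : ∀ Z, f Z = s⁻¹ • (LinearMap.trace k V (U * Z) • D +
      (2 : k) • LinearMap.trace k V (H * Z) • H + LinearMap.trace k V (D * Z) • U) := fun Z => rfl
  have hfD : f D = D := by
    rw [hf, tUD, tHD, tDD]; simp [smul_smul, inv_mul_cancel₀ hs0]
  have hfH : f H = H := by
    rw [hf, tUH, tDH, smul_smul (2 : k), tHH]; simp [smul_smul, inv_mul_cancel₀ hs0]
  have hfU : f U = U := by
    rw [hf, tUU, tHU, ← hs]; simp [smul_smul, inv_mul_cancel₀ hs0]
  have hfperp : ∀ Z, LinearMap.trace k V (U * Z) = 0 → LinearMap.trace k V (H * Z) = 0 →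
      LinearMap.trace k V (D * Z) = 0 → f Z = 0 := fun Z a b c => by
    rw [hf, a, b, c]; simp
  have hperp : ∀ Z, LinearMap.trace k V (U * (Z - f Z)) = 0 ∧
      LinearMap.trace k V (H * (Z - f Z)) = 0 ∧ LinearMap.trace k V (D * (Z - f Z)) = 0 := by
    intro Z
    simp only [mul_sub, map_sub, hf, mul_smul_comm, mul_add, map_smul, map_add, smul_eq_mul, tUD,
      tUH, tUU, tHD, tHU, tDD, tDH, ← hs, mul_zero, add_zero, zero_add]
    refine ⟨by field_simp; ring, ?_, by field_simp; ring⟩
    rw [show (2 : k) * (LinearMap.trace k V (H * Z) * LinearMap.trace k V (H * H)) =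
      LinearMap.trace k V (H * Z) * (2 * LinearMap.trace k V (H * H)) by ring, tHH]
    field_simp
    ring
  have hcommon : ∀ c : G, f (adRep σ c D) = adRep σ c D → f (adRep σ c H) = adRep σ c H →
      f (adRep σ c U) = adRep σ c U →
      (∀ Z, LinearMap.trace k V (U * Z) = 0 → LinearMap.trace k V (H * Z) = 0 →
        LinearMap.trace k V (D * Z) = 0 → f (adRep σ c Z) = 0) → Commute f (adRep σ c) := by
    intro c cD cH cU cperp
    refine LinearMap.ext fun Z => ?_
    rw [Module.End.mul_apply, Module.End.mul_apply]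
    obtain ⟨a', b', c'⟩ := hperp Z
    conv_lhs => rw [show Z = f Z + (Z - f Z) by abel, map_add, map_add, cperp _ a' b' c', add_zero]
    rw [hf Z]
    simp only [map_smul, map_add, cD, cH, cU]
  have htc : ∀ (c : G) (W Z : Module.End k V), LinearMap.trace k V (adRep σ c W * adRep σ c Z) =
      LinearMap.trace k V (W * Z) := adRep_trace σ
  have hcy : Commute f (adRep σ y) := by
    refine hcommon y (by rw [hYD, hfD]) (by rw [hYH', map_sub, hfH, hfD]) (by
      rw [hYU', map_sub, map_add, map_smul, hfU, hfH, hfD]) fun Z a' b' c' => ?_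
    have eD : LinearMap.trace k V (D * adRep σ y Z) = 0 := by
      rw [← hYD, htc, c']
    have eH : LinearMap.trace k V (H * adRep σ y Z) = 0 := by
      have h1 := htc y H Z
      rw [hYH', sub_mul, map_sub, eD, sub_zero, b'] at h1
      exact h1
    refine hfperp _ ?_ eH eD
    have h1 := htc y U Z
    rw [hYU', sub_mul, map_sub, eD, sub_zero, add_mul, map_add, smul_mul_assoc, map_smul, eH,
      smul_zero, add_zero, a'] at h1
    exact h1
  have hcx : Commute f (adRep σ x) := by
    refine hcommon x (by rw [hXD, map_smul, hfD]) (by rw [hXH, hfH])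
      (by rw [hXU, map_smul, hfU]) fun Z a' b' c' => hfperp _ ?_ ?_ ?_
    · have h1 := htc x U Z
      rw [hXU, smul_mul_assoc, map_smul, smul_eq_mul, a'] at h1
      exact (mul_eq_zero.1 h1).resolve_left (inv_ne_zero hζ0)
    · have h1 := htc x H Z
      rwa [hXH, b'] at h1
    · have h1 := htc x D Z
      rw [hXD, smul_mul_assoc, map_smul, smul_eq_mul, c'] at h1
      exact (mul_eq_zero.1 h1).resolve_left hζ0
  -- nilpotency
  have hnil : (adRep σ y - 1) ^ (2 * n + 1) = 0 := by
    have hXl : LinearMap.mulLeft k (σ y - 1) ^ (n + 1) = 0 := by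
      rw [LinearMap.pow_mulLeft, hX]; simp
    have hinv : σ y⁻¹ - 1 = -((σ y - 1) * σ y⁻¹) := by
      rw [sub_mul, ← map_mul, mul_inv_cancel, map_one, one_mul, neg_sub]
    have hc' : Commute (σ y - 1) (σ y⁻¹) := by
      show (σ y - 1) * σ y⁻¹ = σ y⁻¹ * (σ y - 1)
      rw [sub_mul, mul_sub, ← map_mul, ← map_mul, mul_inv_cancel, inv_mul_cancel, one_mul, mul_one]
    have hXr : LinearMap.mulRight k (σ y⁻¹ - 1) ^ (n + 1) = 0 := by
      rw [LinearMap.pow_mulRight, hinv, neg_pow, hc'.mul_pow, hX, zero_mul, mul_zero]; simp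
    have e : adRep σ y - 1 = LinearMap.mulLeft k (σ y - 1) * LinearMap.mulRight k (σ y⁻¹) +
        LinearMap.mulRight k (σ y⁻¹ - 1) := by
      refine LinearMap.ext fun Z => ?_
      simp only [LinearMap.sub_apply, LinearMap.add_apply, Module.End.mul_apply,
        Module.End.one_apply, adRep_apply, LinearMap.mulLeft_apply, LinearMap.mulRight_apply,
        sub_mul, mul_sub, one_mul, mul_one, mul_assoc]
      abel
    rw [e]
    have hc1 : Commute (LinearMap.mulLeft k (σ y - 1) * LinearMap.mulRight k (σ y⁻¹))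
        (LinearMap.mulRight k (σ y⁻¹ - 1)) := by
      refine (LinearMap.commute_mulLeft_right _ _).mul_left ?_
      refine LinearMap.ext fun Z => ?_
      simp only [Module.End.mul_apply, LinearMap.mulRight_apply, mul_assoc, mul_sub, sub_mul,
        one_mul, mul_one]
    refine hc1.add_pow_eq_zero_of_add_le_succ_of_pow_eq_zero ?_ hXr
      (show n + 1 + (n + 1) ≤ 2 * n + 1 + 1 by omega)
    rw [(LinearMap.commute_mulLeft_right _ _).mul_pow, hXl, zero_mul]
  obtain ⟨F, hF, hFspan, hF'⟩ := g.green h (adRep σ) f hcy hcx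
  have hT0 : (adRep σ y - 1) ^ (p - 1) = 0 := pow_eq_zero_of_le (by omega) hnil
  -- fixed elements
  have hfix : ∀ Z, adRep σ y Z = Z → ∃ c : k, F Z = c • D := by
    intro Z hZ
    obtain ⟨z, hz⟩ := hF' Z hZ
    rw [hT0, LinearMap.zero_apply, sub_eq_zero] at hz
    have hcomm : σ y * Z = Z * σ y := by
      rw [adRep_apply] at hZ
      calc σ y * Z = σ y * Z * σ y⁻¹ * σ y := by
            rw [mul_assoc, ← map_mul, inv_mul_cancel, map_one, mul_one]
        _ = Z * σ y := by rw [hZ]
    let bD := basisOfLinearIndependentOfCardEqFinrank (chain_linearIndependent hD hDv)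
      (by rw [Fintype.card_fin, hn])
    obtain ⟨c, hc⟩ : ∃ c : Fin (n + 1) → k, ∑ i, c i • (D ^ (i : ℕ)) v = Z v := by
      refine ⟨fun i => bD.repr (Z v) i, ?_⟩
      conv_rhs => rw [← bD.sum_repr (Z v)]
      exact Finset.sum_congr rfl fun i _ => by simp [bD]
    have hZeq : Z = ∑ i, c i • D ^ (i : ℕ) := by
      let bX := basisOfLinearIndependentOfCardEqFinrank (chain_linearIndependent hX hvn)
        (by rw [Fintype.card_fin, hn])
      have hcomm2 : ∀ (W : Module.End k V), σ y * W = W * σ y → ∀ (i : ℕ) (u : V),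
          W (((σ y - 1) ^ i) u) = ((σ y - 1) ^ i) (W u) := by
        intro W hW i u
        have : Commute W (σ y - 1) :=
          Commute.sub_right (show Commute W (σ y) from hW.symm) (Commute.one_right _)
        rw [← Module.End.mul_apply, (this.pow_right i).eq, Module.End.mul_apply]
      refine bX.ext fun i => ?_
      have hb : bX i = ((σ y - 1) ^ (i : ℕ)) v := by simp [bX]
      rw [hb, hcomm2 Z hcomm, hcomm2 _ (by
        rw [hYexp, expD]
        exact (Commute.sum_left _ _ _ fun j _ => Commute.sum_right _ _ _ fun (l : Fin (n + 1)) _ =>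
          (((Commute.refl D).pow_pow j (l : ℕ)).smul_left ((1 : k) ^ j / (j.factorial : k))).smul_right (c l)).eq), LinearMap.sum_apply]
      simp only [LinearMap.smul_apply, hc]
    have hfi : ∀ i, ∃ c : k, f (D ^ i) = c • D := by
      intro i
      by_cases hi : i = 1
      · exact ⟨1, by rw [hi, pow_one, hfD, one_smul]⟩
      · exact ⟨0, by rw [zero_smul]; exact hfperp _ (htrU i hi) (htrH i) (htrD i)⟩
    choose d hd using hfi
    refine ⟨∑ i : Fin (n + 1), c i * d i, ?_⟩
    rw [hz, hZeq, map_sum, Finset.sum_smul]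
    exact Finset.sum_congr rfl fun i _ => by rw [map_smul, hd, smul_smul]
  have hFD : F D = D := by
    obtain ⟨z, hz⟩ := hF' D hYD
    rw [hT0, LinearMap.zero_apply, sub_eq_zero] at hz
    rw [hz, hfD]
  -- self-adjointness
  have hfsa : ∀ W Z, LinearMap.trace k V (f W * Z) = LinearMap.trace k V (W * f Z) := by
    intro W Z
    simp only [hf, smul_mul_assoc, mul_smul_comm, add_mul, mul_add, map_smul, map_add, smul_eq_mul,
      LinearMap.trace_mul_comm k W]
    ring
  have hFsa : ∀ W Z, LinearMap.trace k V (F W * Z) = LinearMap.trace k V (W * F Z) := by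
    clear hF hF' hfix hFD
    induction hFspan using Submodule.span_induction with
    | mem F' hF'' =>
      obtain ⟨c, rfl⟩ := hF''
      intro W Z
      simp only [Module.End.mul_apply]
      have hcc : ∀ Q, adRep σ c (adRep σ c⁻¹ Q) = Q := fun Q => by
        rw [← Module.End.mul_apply, ← map_mul, mul_inv_cancel, map_one, Module.End.one_apply]
      conv_lhs => rw [← hcc Z, htc, hfsa]
      conv_rhs => rw [← hcc W, htc]
    | zero => simp
    | add F₁ F₂ _ _ h₁ h₂ =>
      intro W Z; simp only [LinearMap.add_apply, add_mul, mul_add, map_add, h₁, h₂]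
    | smul c F₁ _ h₁ =>
      intro W Z; simp only [LinearMap.smul_apply, smul_mul_assoc, mul_smul_comm, map_smul, h₁]
  obtain ⟨N₀, hN₀⟩ := Filter.eventually_atTop.1 F.eventually_isCompl_ker_pow_range_pow
  obtain ⟨N, hN⟩ : ∃ N, N = N₀ + 1 := ⟨_, rfl⟩
  have hcompl := hN₀ N (by omega)
  obtain ⟨K, hK⟩ : ∃ K, K = F ^ N := ⟨_, rfl⟩
  rw [← hK] at hcompl
  have hKcomm : ∀ c, adRep σ c * K = K * adRep σ c := fun c => by
    rw [hK]; exact ((show Commute (adRep σ c) F from hF c).pow_right N).eq
  have hKsa : ∀ W Z, LinearMap.trace k V (K W * Z) = LinearMap.trace k V (W * K Z) := by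
    rw [hK]
    clear hK hcompl hKcomm hN
    induction N with
    | zero => simp
    | succ N ih =>
      intro W Z
      conv_lhs => rw [pow_succ', Module.End.mul_apply, hFsa, ih, ← Module.End.mul_apply, ← pow_succ]
  have hKD : K D = D := by
    rw [hK]
    clear hK hcompl hKcomm hKsa hN
    induction N with
    | zero => simp
    | succ N ih => rw [pow_succ', Module.End.mul_apply, ih, hFD]
  obtain ⟨R, hR⟩ : ∃ R, R = LinearMap.range K := ⟨_, rfl⟩
  have hRmem : ∀ Z, K Z ∈ R := fun Z => hR ▸ LinearMap.mem_range_self _ _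
  have hRinv : ∀ c, ∀ Z ∈ R, adRep σ c Z ∈ R := by
    intro c Z hZ
    rw [hR] at hZ
    obtain ⟨W, rfl⟩ := hZ
    rw [← Module.End.mul_apply, hKcomm, Module.End.mul_apply]
    exact hRmem _
  have hker : ∀ Z ∈ R, K Z = 0 → Z = 0 := fun Z hZ h0 =>
    (Submodule.disjoint_def.1 hcompl.disjoint) Z (LinearMap.mem_ker.2 h0) (hR ▸ hZ)
  have hRnd : ∀ Z ∈ R, (∀ W ∈ R, LinearMap.trace k V (Z * W) = 0) → Z = 0 := fun Z hZ h0 =>
    hker Z hZ (eq_zero_of_trace_mul fun W => by rw [hKsa]; exact h0 _ (hRmem W))
  have hDR : D ∈ R := hKD ▸ hRmem D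
  have hfixR : ∀ Z ∈ R, adRep σ y Z = Z → ∃ c : k, Z = c • D := by
    intro Z hZ hZy
    obtain ⟨c, hc⟩ := hfix Z hZy
    refine ⟨c, sub_eq_zero.1 (hker _ (R.sub_mem hZ (R.smul_mem c hDR)) ?_)⟩
    rw [hK, hN, pow_succ, Module.End.mul_apply, map_sub, map_smul, hc, hFD, sub_self, map_zero]
  -- the operator `X` on `R`
  obtain ⟨X, hXdef⟩ : ∃ X, X = adRep σ y - 1 := ⟨_, rfl⟩
  have hXap : ∀ Z, X Z = adRep σ y Z - Z := fun Z => by rw [hXdef]; rfl
  have hXR : ∀ Z ∈ R, X Z ∈ R := fun Z hZ => by rw [hXap]; exact R.sub_mem (hRinv y Z hZ) hZ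
  obtain ⟨U', hU'⟩ : ∃ U', U' = K U := ⟨_, rfl⟩
  have hXK : ∀ Z, X (K Z) = K (X Z) := fun Z => by
    rw [hXap, hXap, map_sub, ← Module.End.mul_apply, hKcomm, Module.End.mul_apply]
  have hXU : X U = (2 : k) • H - D := by rw [hXap, hYU']; abel
  have hXXU : X (X U) = (-2 : k) • D := by
    rw [hXU, map_sub, map_smul, hXap, hXap, hYH', hYD]
    rw [sub_self, sub_zero, sub_sub_cancel_left, smul_neg, neg_smul]
  have hXXU' : X (X U') = (-2 : k) • D := by rw [hU', hXK, hXK, hXXU, map_smul, hKD]
  have hXDz : X D = 0 := by rw [hXap, hYD, sub_self]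
  have hU'R : U' ∈ R := hU' ▸ hRmem U
  have htDU' : LinearMap.trace k V (D * U') = s := by rw [hU', ← hKsa, hKD, hs]
  obtain ⟨S, hS⟩ : ∃ S : Submodule k (Module.End k V),
      S = Submodule.span k (Set.range ![U', X U', X (X U')]) := ⟨_, rfl⟩
  have hSR : S ≤ R := by
    rw [hS, Submodule.span_le]
    rintro _ ⟨i, rfl⟩
    fin_cases i
    · exact hU'R
    · exact hXR _ hU'R
    · exact hXR _ (hXR _ hU'R)
  have hXRle : ∀ Z ∈ R, LinearMap.trace k V (D * X Z) = 0 := fun Z _ => by
    rw [hXap, mul_sub, map_sub]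
    conv_lhs => lhs; rw [← hYD, htc]
    exact sub_self _
  have hhyp : ∀ Z ∈ R, LinearMap.trace k V (D * Z) = 0 → ∃ W ∈ R, X W = Z := by
    let δ : R →ₗ[k] k := ((LinearMap.trace k V).comp (LinearMap.mulLeft k D)).comp R.subtype
    let XR : R →ₗ[k] R := X.restrict hXR
    have hle : LinearMap.range XR ≤ LinearMap.ker δ := by
      rintro _ ⟨Z, rfl⟩
      exact hXRle _ Z.2
    have hkerX : LinearMap.ker XR ≤ Submodule.span k {(⟨D, hDR⟩ : R)} := by
      intro Z hZ
      rw [LinearMap.mem_ker] at hZ
      have h1 : X (Z : Module.End k V) = 0 := congrArg Subtype.val hZ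
      rw [hXap, sub_eq_zero] at h1
      obtain ⟨c, hc⟩ := hfixR _ Z.2 h1
      exact Submodule.mem_span_singleton.2 ⟨c, Subtype.ext hc.symm⟩
    have hne : LinearMap.ker δ < ⊤ := lt_top_iff_ne_top.2 fun htop => hs0 (by
      have : (⟨U', hU'R⟩ : R) ∈ LinearMap.ker δ := htop ▸ Submodule.mem_top
      rw [← htDU']
      exact this)
    have heq : LinearMap.range XR = LinearMap.ker δ := by
      refine Submodule.eq_of_le_of_finrank_le hle ?_
      have h1 := XR.finrank_range_add_finrank_ker
      have h3 := (Submodule.finrank_mono hkerX).trans (finrank_span_le_card _)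
      rw [Set.toFinset_singleton, Finset.card_singleton] at h3
      have h4 := Submodule.finrank_lt hne.ne
      omega
    intro Z hZ h0
    have : (⟨Z, hZ⟩ : R) ∈ LinearMap.range XR := heq ▸ (h0 : δ ⟨Z, hZ⟩ = 0)
    obtain ⟨W, hW⟩ := this
    exact ⟨W, W.2, congrArg Subtype.val hW⟩
  have hXS : ∀ Z ∈ S, X Z ∈ S := by
    intro Z hZ
    rw [hS] at hZ
    induction hZ using Submodule.span_induction with
    | mem z hz =>
      obtain ⟨i, rfl⟩ := hz
      fin_cases i
      · rw [hS]; exact Submodule.subset_span ⟨1, rfl⟩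
      · rw [hS]; exact Submodule.subset_span ⟨2, rfl⟩
      · show X (X (X U')) ∈ S
        rw [hXXU', map_smul, hXDz, smul_zero]; exact zero_mem _
    | zero => rw [map_zero]; exact zero_mem _
    | add a b _ _ ha hb => rw [map_add]; exact add_mem ha hb
    | smul c a _ ha => rw [map_smul]; exact Submodule.smul_mem _ c ha
  have hRS : ∀ j : ℕ, ∀ Z ∈ R, ∃ W ∈ R, Z - (X ^ j) W ∈ S := by
    intro j
    induction j with
    | zero => intro Z hZ; exact ⟨Z, hZ, by simp⟩
    | succ j ih =>
      intro Z hZ
      obtain ⟨W, hW, hWS⟩ := ih Z hZ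
      obtain ⟨c, hc⟩ : ∃ c : k, c = LinearMap.trace k V (D * W) / s := ⟨_, rfl⟩
      obtain ⟨W', hW', hW'eq⟩ := hhyp (W - c • U') (R.sub_mem hW (R.smul_mem c hU'R)) (by
        rw [mul_sub, map_sub, mul_smul_comm, map_smul, htDU', smul_eq_mul, hc,
          div_mul_cancel₀ _ hs0, sub_self])
      refine ⟨W', hW', ?_⟩
      have hpow : ∀ i, ∀ u ∈ S, (X ^ i) u ∈ S := by
        intro i
        induction i with
        | zero => exact fun u hu => by simpa using hu
        | succ i ihi =>
          intro u hu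
          rw [pow_succ', Module.End.mul_apply]
          exact hXS _ (ihi u hu)
      rw [pow_succ, Module.End.mul_apply, hW'eq, map_sub, map_smul, sub_sub_eq_add_sub, add_comm,
        add_sub_assoc, add_comm]
      exact add_mem hWS (Submodule.smul_mem _ c (hpow j _
        (hS ▸ Submodule.subset_span ⟨0, rfl⟩)))
  have hRS' : R = S := le_antisymm (fun Z hZ => by
    obtain ⟨W, -, hW⟩ := hRS (2 * n + 1) Z hZ
    rwa [hXdef, hnil, LinearMap.zero_apply, sub_zero] at hW) hSR
  have hli : LinearIndependent k ![U', X U', X (X U')] := by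
    rw [Fintype.linearIndependent_iff]
    intro c hc
    simp only [Fin.sum_univ_three, Matrix.cons_val_zero, Matrix.cons_val_one, Matrix.cons_val_two,
      Matrix.tail_cons, Matrix.head_cons] at hc
    have hne : (-2 : k) • D ≠ 0 := by
      refine smul_ne_zero (neg_ne_zero.2 h2) fun h0 => hs0 ?_
      rw [hs, h0, zero_mul, map_zero]
    have hX3 : X (X (X U')) = 0 := by rw [hXXU', map_smul, hXDz, smul_zero]
    have e0 : c 0 = 0 := by
      have h1 := congrArg (fun z => X (X z)) hc
      simp only [map_add, map_smul, map_zero, hX3, smul_zero, add_zero] at h1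
      rw [hXXU'] at h1
      exact (smul_eq_zero.1 h1).resolve_right hne
    rw [e0, zero_smul, zero_add] at hc
    have e1 : c 1 = 0 := by
      have h1 := congrArg (fun z => X z) hc
      simp only [map_add, map_smul, map_zero, hX3, smul_zero, add_zero] at h1
      rw [hXXU'] at h1
      exact (smul_eq_zero.1 h1).resolve_right hne
    rw [e1, zero_smul, zero_add, hXXU'] at hc
    have e2 : c 2 = 0 := (smul_eq_zero.1 hc).resolve_right hne
    intro i
    fin_cases i <;> assumption
  have hdim : Module.finrank k R = 3 := by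
    rw [hRS', hS, finrank_span_eq_card hli, Fintype.card_fin]
  let e := (Module.finBasisOfFinrankEq k R hdim).equivFun
  let ρR : G →* Module.End k R :=
    { toFun := fun c => (adRep σ c).restrict (hRinv c)
      map_one' := LinearMap.ext fun Z => Subtype.ext (by simp)
      map_mul' := fun c d => LinearMap.ext fun Z => Subtype.ext (by simp) }
  let B : LinearMap.BilinForm k (Fin 3 → k) :=
    LinearMap.mk₂ k (fun a b => LinearMap.trace k V ((e.symm a : Module.End k V) * (e.symm b : Module.End k V)))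
      (fun a a' b => by simp [add_mul]) (fun c a b => by simp)
      (fun a b b' => by simp [mul_add]) (fun c a b => by simp)
  have hB : ∀ a b, B a b =
      LinearMap.trace k V ((e.symm a : Module.End k V) * (e.symm b : Module.End k V)) := fun a b => rfl
  have hτ : ∀ c a, (e.symm (transport e ρR c a) : Module.End k V) =
      adRep σ c (e.symm a : Module.End k V) := fun c a => by
    simp [transport, ρR]
  refine ⟨transport e ρR, B, fun a b => ?_, fun a ha => ?_, fun c a b => ?_, fun h1 => ?_⟩
  · rw [hB, hB, LinearMap.trace_mul_comm]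
  · refine e.symm.injective ((Subtype.ext ?_).trans (map_zero _).symm)
    refine hRnd _ (e.symm a).2 fun W hW => ?_
    have := ha (e ⟨W, hW⟩)
    rwa [hB, LinearEquiv.symm_apply_apply] at this
  · rw [hB, hB, hτ, hτ, htc]
  · have h3 := hτ x (e ⟨D, hDR⟩)
    rw [h1, Module.End.one_apply, LinearEquiv.symm_apply_apply, hXD] at h3
    have h4 : ((m : k) - 1) • D = 0 := by rw [sub_smul, one_smul, ← h3, sub_self]
    refine hs0 ?_
    rw [hs, (smul_eq_zero.1 h4).resolve_left (sub_ne_zero.2 hζ1), zero_mul, map_zero]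

end Cfsg.Agent.Lib.UniqueDegree79
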