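import Mathlib.LinearAlgebra.Trace
import Mathlib.LinearAlgebra.Determinant
import Mathlib.LinearAlgebra.Dual.Lemmas
import Mathlib.LinearAlgebra.Matrix.Block
import Mathlib.RingTheory.RootsOfUnity.PrimitiveRoots
import Mathlib.LinearAlgebra.FiniteDimensional.Basic
import Mathlib.Algebra.Field.GeomSum
import Mathlib.Tactic.NoncommRing

/-!
# Modules of a group `⟨Y⟩ ⋊ ⟨A⟩` with `A Y = Y ^ m A`: Jordan chains of `Y - 1`

A longest chain spans a summand stable under `A`, on which `A` is triangular with eigenvalues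
`μ m ^ i`.
-/

namespace Cfsg.Agent.Lib.UniqueDegree79

open Finset

universe v w

variable {k : Type v} [Field k] {V : Type w} [AddCommGroup V] [Module k V]

/-- `1 + Y + ⋯ + Y ^ (m - 1)`. -/
def geo (Y : Module.End k V) (m : ℕ) : Module.End k V := ∑ i ∈ Finset.range m, Y ^ i

theorem sub_one_mul_geo (Y : Module.End k V) (m : ℕ) : (Y - 1) * geo Y m = Y ^ m - 1 :=
  mul_geom_sum Y m

theorem geo_comm (Y : Module.End k V) (m : ℕ) : Commute (geo Y m) (Y - 1) :=
  Commute.sum_left _ _ _ fun i _ => ((Commute.refl Y).pow_left i).sub_right (Commute.one_right _)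

theorem geo_pow (Y : Module.End k V) (m i : ℕ) :
    ∃ W, geo Y m ^ i = ((m : k) ^ i) • (1 : Module.End k V) + (Y - 1) * W := by
  have h0 : ∃ W, geo Y m = (m : k) • (1 : Module.End k V) + (Y - 1) * W := by
    refine ⟨∑ j ∈ Finset.range m, geo Y j, ?_⟩
    rw [Finset.mul_sum]
    simp only [sub_one_mul_geo, Finset.sum_sub_distrib, Finset.sum_const, Finset.card_range,
      Nat.cast_smul_eq_nsmul k]
    rw [geo]; abel
  obtain ⟨W₀, hW₀⟩ := h0
  induction i with
  | zero => exact ⟨0, by simp⟩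
  | succ i ih =>
    obtain ⟨W, hW⟩ := ih
    refine ⟨((m : k) ^ i) • W₀ + (m : k) • W + W * ((Y - 1) * W₀), ?_⟩
    rw [pow_succ, hW, hW₀]
    simp only [add_mul, mul_add, smul_mul_assoc, mul_smul_comm, one_mul, mul_one, smul_add,
      smul_smul, pow_succ, mul_assoc]
    rw [mul_comm (m : k) ((m : k) ^ i)]
    abel

theorem mul_sub_one_pow {Y A : Module.End k V} {m : ℕ} (hAY : A * Y = Y ^ m * A) (i : ℕ) :
    A * (Y - 1) ^ i = (Y - 1) ^ i * geo Y m ^ i * A := by
  induction i with
  | zero => simp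
  | succ i ih =>
    have h1 : A * (Y - 1) = (Y - 1) * geo Y m * A := by
      rw [sub_one_mul_geo, mul_sub, mul_one, hAY, sub_mul, one_mul]
    rw [pow_succ (Y - 1) i, ← mul_assoc, ih, mul_assoc ((Y - 1) ^ i * geo Y m ^ i) A, h1,
      pow_succ (geo Y m) i]
    simp only [← mul_assoc]
    rw [mul_assoc ((Y - 1) ^ i) (geo Y m ^ i) (Y - 1), ((geo_comm Y m).pow_left i).eq,
      ← mul_assoc]

theorem sub_one_pow_mul {Y A : Module.End k V} {M : ℕ} (hYA : Y * A = A * Y ^ M) (i : ℕ) :
    (Y - 1) ^ i * A = A * (Y - 1) ^ i * geo Y M ^ i := by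
  induction i with
  | zero => simp
  | succ i ih =>
    have h1 : (Y - 1) * A = A * (Y - 1) * geo Y M := by
      rw [mul_assoc, sub_one_mul_geo, mul_sub, mul_one, ← hYA, sub_mul, one_mul]
    rw [pow_succ' (Y - 1) i, mul_assoc, ih, ← mul_assoc, ← mul_assoc, h1, pow_succ' (geo Y M) i]
    simp only [mul_assoc]
    rw [← mul_assoc (geo Y M) ((Y - 1) ^ i), ((geo_comm Y M).pow_right i).eq, mul_assoc]

/-- The action on a chain generated by an eigenvector. -/
theorem apply_chain {Y A : Module.End k V} {m : ℕ} (hAY : A * Y = Y ^ m * A) {v : V} {μ : k}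
    (hv : A v = μ • v) (i : ℕ) :
    ∃ z, A (((Y - 1) ^ i) v) = (μ * (m : k) ^ i) • ((Y - 1) ^ i) v + ((Y - 1) ^ (i + 1)) z := by
  obtain ⟨W, hW⟩ := geo_pow Y m i
  refine ⟨μ • W v, ?_⟩
  rw [← Module.End.mul_apply, mul_sub_one_pow hAY, Module.End.mul_apply, hv, map_smul,
    Module.End.mul_apply, hW, LinearMap.add_apply, LinearMap.smul_apply, Module.End.one_apply,
    Module.End.mul_apply, map_add, map_smul, smul_add, smul_smul, map_smul, pow_succ,
    Module.End.mul_apply]

theorem chain_linearIndependent {X : Module.End k V} {n : ℕ} (hn1 : X ^ (n + 1) = 0) {v : V}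
    (hv : (X ^ n) v ≠ 0) : LinearIndependent k fun i : Fin (n + 1) => (X ^ (i : ℕ)) v := by
  rw [Fintype.linearIndependent_iff]
  intro c hc
  suffices ∀ N, ∀ i : Fin (n + 1), (i : ℕ) = N → c i = 0 from fun i => this _ i rfl
  intro N
  induction N using Nat.strong_induction_on with
  | _ N ih =>
    intro i hi
    have h := congrArg (X ^ (n - (i : ℕ))) hc
    rw [map_sum, map_zero, Finset.sum_eq_single i (fun j _ hji => ?_) (by simp)] at h
    · rw [map_smul, ← Module.End.mul_apply, ← pow_add, Nat.sub_add_cancel (by omega)] at h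
      exact (smul_eq_zero.1 h).resolve_right hv
    · rcases Nat.lt_or_ge (j : ℕ) (i : ℕ) with hlt | hge
      · rw [ih j (hi ▸ hlt) j rfl, zero_smul, map_zero]
      · have : (i : ℕ) < j := lt_of_le_of_ne hge fun e => hji (Fin.ext e.symm)
        rw [map_smul, ← Module.End.mul_apply, ← pow_add,
          pow_eq_zero_of_le (by omega) hn1, LinearMap.zero_apply, smul_zero]

variable [FiniteDimensional k V]

set_option maxHeartbeats 1000000 in
/-- A longest chain spans a summand; it can be generated by an eigenvector of `A`, and the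
complement can be chosen stable. -/
theorem exists_block {Y A : Module.End k V} {m M e n : ℕ} (hAY : A * Y = Y ^ m * A)
    (hYA : Y * A = A * Y ^ M) (hAe : A ^ e = 1) (hζ : IsPrimitiveRoot (m : k) e)
    (he : (e : k) ≠ 0) (hn1 : (Y - 1) ^ (n + 1) = 0) (hn : (Y - 1) ^ n ≠ 0) :
    ∃ (v : V) (a : ℕ) (C : Submodule k V), A v = ((m : k) ^ a) • v ∧ ((Y - 1) ^ n) v ≠ 0 ∧
      IsCompl (Submodule.span k (Set.range fun i : Fin (n + 1) => ((Y - 1) ^ (i : ℕ)) v)) C ∧
      (∀ u ∈ C, Y u ∈ C) ∧ (∀ u ∈ C, A u ∈ C) := by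
  classical
  set ζ : k := (m : k)
  have hζe : ζ ^ e = 1 := hζ.pow_eq_one
  let π : ℕ → Module.End k V := fun j =>
    (e : k)⁻¹ • ∑ i ∈ Finset.range e, (ζ ^ j) ^ i • A ^ i
  have he0 : e ≠ 0 := fun h => he (by rw [h, Nat.cast_zero])
  have hinv : ∀ j, ζ ^ j * ζ ^ (j * (e - 1)) = 1 := fun j => by
    rw [← pow_add, show j + j * (e - 1) = e * j by
      obtain ⟨e', rfl⟩ := Nat.exists_eq_succ_of_ne_zero he0
      simp; ring, pow_mul, hζe, one_pow]
  have hπA : ∀ j, A * π j = (ζ ^ (j * (e - 1))) • π j := by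
    intro j
    have h1 := mul_geom_sum (ζ ^ j • A) e
    simp only [smul_pow, hAe, sub_mul, one_mul] at h1
    rw [← pow_mul, mul_comm j e, pow_mul, hζe, one_pow, one_smul, sub_self, sub_eq_zero,
      smul_mul_assoc] at h1
    simp only [π, mul_smul_comm]
    rw [smul_comm]
    congr 1
    conv_rhs => rw [← h1, smul_smul, mul_comm, hinv, one_smul]
  have hAπ : ∀ j, π j * A = A * π j := fun j => by
    simp only [π, Finset.smul_sum, Finset.sum_mul, Finset.mul_sum, smul_mul_assoc, mul_smul_comm,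
      ← pow_succ, ← pow_succ']
  have hsum : ∑ j ∈ Finset.range e, π j = 1 := by
    simp only [π, ← Finset.smul_sum]
    rw [Finset.sum_comm]
    simp only [← Finset.sum_smul, ← pow_mul, mul_comm _ (_ : ℕ)]
    rw [Finset.sum_eq_single 0]
    · simp [smul_smul, inv_mul_cancel₀ he]
    · intro i hi hi0
      have hne : ζ ^ i ≠ 1 := hζ.pow_ne_one_of_pos_of_lt hi0 (Finset.mem_range.1 hi)
      simp only [mul_comm i, pow_mul']
      rw [geom_sum_eq hne, ← pow_mul, mul_comm, pow_mul, hζe, one_pow, sub_self, zero_div,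
        zero_smul]
    · intro h; exact absurd (Finset.mem_range.2 (Nat.pos_of_ne_zero he0)) h
  obtain ⟨v, a, hva, hvn⟩ : ∃ v a, A v = (ζ ^ a) • v ∧ ((Y - 1) ^ n) v ≠ 0 := by
    by_contra! hc
    refine hn (LinearMap.ext fun x => ?_)
    rw [LinearMap.zero_apply, show x = ∑ j ∈ Finset.range e, π j x by
      rw [← LinearMap.sum_apply, hsum, Module.End.one_apply], map_sum]
    refine Finset.sum_eq_zero fun j _ => hc (π j x) (j * (e - 1)) ?_
    rw [← Module.End.mul_apply, hπA, LinearMap.smul_apply]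
  set X := Y - 1 with hX
  obtain ⟨wv, hwv⟩ : ∃ wv, wv = (X ^ n) v := ⟨_, rfl⟩
  have hw : A wv = (ζ ^ (a + n)) • wv := by
    obtain ⟨z, hz⟩ := apply_chain hAY hva n
    rw [← hX, hn1, LinearMap.zero_apply, add_zero] at hz
    rw [hwv, hz, pow_add]
  obtain ⟨ψ, hψ⟩ : ∃ ψ : Module.Dual k V, ψ wv = 1 := by
    obtain ⟨f, hf⟩ := Module.Projective.exists_dual_ne_zero k (hwv ▸ hvn)
    exact ⟨(f wv)⁻¹ • f, by simp [inv_mul_cancel₀ hf]⟩
  have hApow : ∀ i, (A ^ i) wv = ((ζ ^ (a + n)) ^ i) • wv := by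
    intro i
    induction i with
    | zero => simp
    | succ i ih => rw [pow_succ', Module.End.mul_apply, ih, map_smul, hw, smul_smul, ← pow_succ]
  obtain ⟨b, hb⟩ : ∃ b, b = (a + n) * (e - 1) := ⟨_, rfl⟩
  have hπw : π b wv = wv := by
    simp only [π, LinearMap.smul_apply, LinearMap.sum_apply, hApow, smul_smul, ← mul_pow]
    rw [hb, mul_comm (ζ ^ _), hinv]
    simp only [one_pow, one_smul, Finset.sum_const, Finset.card_range]
    rw [← Nat.cast_smul_eq_nsmul k, smul_smul, inv_mul_cancel₀ he, one_smul]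
  let φ : Module.Dual k V := ψ.comp (π b)
  have hφw : φ wv = 1 := by simp only [φ, LinearMap.comp_apply, hπw, hψ]
  have hφA : ∀ u, φ (A u) = ζ ^ (b * (e - 1)) * φ u := fun u => by
    simp only [φ, LinearMap.comp_apply]
    rw [← Module.End.mul_apply, hAπ, hπA, LinearMap.smul_apply, map_smul, smul_eq_mul]
  let Φ : V →ₗ[k] (Fin (n + 1) → k) := LinearMap.pi fun i => φ.comp (X ^ (i : ℕ))
  have hmem : ∀ u, u ∈ LinearMap.ker Φ ↔ ∀ i, φ ((X ^ i) u) = 0 := by
    intro u
    rw [LinearMap.mem_ker, funext_iff]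
    refine ⟨fun hu i => ?_, fun hu i => hu i⟩
    by_cases hi : i < n + 1
    · exact hu ⟨i, hi⟩
    · rw [pow_eq_zero_of_le (not_lt.1 hi) hn1, LinearMap.zero_apply, map_zero]
  have hYC : ∀ u ∈ LinearMap.ker Φ, Y u ∈ LinearMap.ker Φ := by
    intro u hu
    rw [hmem] at hu ⊢
    intro i
    rw [show Y = X + 1 by rw [hX, sub_add_cancel], LinearMap.add_apply, Module.End.one_apply,
      map_add, map_add, hu i, add_zero, ← Module.End.mul_apply, ← pow_succ]
    exact hu _
  have hgC : ∀ i, ∀ u ∈ LinearMap.ker Φ, (geo Y M ^ i) u ∈ LinearMap.ker Φ := by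
    have hp : ∀ i, ∀ u ∈ LinearMap.ker Φ, (Y ^ i) u ∈ LinearMap.ker Φ := by
      intro i
      induction i with
      | zero => exact fun u hu => by simpa using hu
      | succ i ih =>
        intro u hu
        rw [pow_succ', Module.End.mul_apply]
        exact hYC _ (ih u hu)
    intro i
    induction i with
    | zero => exact fun u hu => by simpa using hu
    | succ i ih =>
      intro u hu
      rw [pow_succ', Module.End.mul_apply, geo, LinearMap.sum_apply]
      exact Submodule.sum_mem _ fun j _ => hp j _ (ih u hu)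
  refine ⟨v, a, LinearMap.ker Φ, hva, hvn, ?_, hYC, fun u hu => ?_⟩
  · have hli := chain_linearIndependent hn1 hvn
    have hdisj : Disjoint (Submodule.span k (Set.range fun i : Fin (n + 1) => (X ^ (i : ℕ)) v))
        (LinearMap.ker Φ) := by
      rw [Submodule.disjoint_def]
      intro u hu hu'
      rw [Submodule.mem_span_range_iff_exists_fun] at hu
      obtain ⟨c, rfl⟩ := hu
      rw [hmem] at hu'
      suffices hz : ∀ N, ∀ i : Fin (n + 1), (i : ℕ) = N → c i = 0 by
        exact Finset.sum_eq_zero fun i _ => by rw [hz _ i rfl, zero_smul]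
      intro N
      induction N using Nat.strong_induction_on with
      | _ N ih =>
        intro i hi
        have h := hu' (n - (i : ℕ))
        rw [map_sum, map_sum, Finset.sum_eq_single i (fun j _ hji => ?_) (by simp)] at h
        · rwa [map_smul, map_smul, ← Module.End.mul_apply, ← pow_add,
            Nat.sub_add_cancel (by omega), ← hwv, hφw, smul_eq_mul, mul_one] at h
        · rcases Nat.lt_or_ge (j : ℕ) (i : ℕ) with hlt | hge
          · rw [ih j (hi ▸ hlt) j rfl, zero_smul, map_zero, map_zero]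
          · have : (i : ℕ) < j := lt_of_le_of_ne hge fun e => hji (Fin.ext e.symm)
            rw [map_smul, ← Module.End.mul_apply, ← pow_add,
              pow_eq_zero_of_le (by omega) hn1, LinearMap.zero_apply, smul_zero, map_zero]
    refine ⟨hdisj, codisjoint_iff.2 (Submodule.eq_top_of_disjoint _ _ ?_ hdisj)⟩
    rw [finrank_span_eq_card hli, Fintype.card_fin]
    have h1 := Φ.finrank_range_add_finrank_ker
    have h2 := Submodule.finrank_le (LinearMap.range Φ)
    rw [Module.finrank_fin_fun] at h2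
    omega
  · rw [hmem] at hu ⊢
    intro i
    rw [← Module.End.mul_apply, hX, sub_one_pow_mul hYA, ← hX, Module.End.mul_apply,
      Module.End.mul_apply, hφA, (hmem _).1 (hgC i u ((hmem u).2 hu)) i, mul_zero]

section Triangular

variable {ι : Type*} [Fintype ι] [DecidableEq ι] {Y A : Module.End k V} {m n : ℕ} {v : V} {μ : k}

theorem repr_high (b : Module.Basis (Fin (n + 1) ⊕ ι) k V)
    (hb : ∀ i : Fin (n + 1), b (Sum.inl i) = ((Y - 1) ^ (i : ℕ)) v)
    (hbr : ∀ l, (Y - 1) (b (Sum.inr l)) = 0) (hn1 : (Y - 1) ^ (n + 1) = 0) (t : ℕ) (z : V)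
    (j : Fin (n + 1)) (hj : (j : ℕ) ≤ t) : b.repr (((Y - 1) ^ (t + 1)) z) (Sum.inl j) = 0 := by
  conv_lhs => rw [← b.sum_repr z]
  rw [map_sum, map_sum, Finsupp.finsetSum_apply]
  refine Finset.sum_eq_zero fun i _ => ?_
  rw [map_smul, map_smul, Finsupp.smul_apply]
  refine smul_eq_zero.2 (Or.inr ?_)
  rcases i with i | l
  · rw [hb, ← Module.End.mul_apply, ← pow_add]
    by_cases hlt : t + 1 + (i : ℕ) < n + 1
    · rw [show ((Y - 1) ^ (t + 1 + (i : ℕ))) v = b (Sum.inl ⟨t + 1 + (i : ℕ), hlt⟩) from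
          (hb ⟨t + 1 + (i : ℕ), hlt⟩).symm,
        Module.Basis.repr_self, Finsupp.single_apply, if_neg]
      intro h
      have := congrArg Fin.val (Sum.inl_injective h)
      simp only at this
      omega
    · rw [pow_eq_zero_of_le (not_lt.1 hlt) hn1, LinearMap.zero_apply, map_zero,
        Finsupp.zero_apply]
  · rw [pow_succ, Module.End.mul_apply, hbr, map_zero, map_zero, Finsupp.zero_apply]

theorem repr_chain (b : Module.Basis (Fin (n + 1) ⊕ ι) k V)
    (hb : ∀ i : Fin (n + 1), b (Sum.inl i) = ((Y - 1) ^ (i : ℕ)) v)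
    (hbr : ∀ l, (Y - 1) (b (Sum.inr l)) = 0) (hn1 : (Y - 1) ^ (n + 1) = 0)
    (hAY : A * Y = Y ^ m * A) (hv : A v = μ • v) (i j : Fin (n + 1)) (hji : (j : ℕ) ≤ i) :
    b.repr (A (b (Sum.inl i))) (Sum.inl j) = if j = i then μ * (m : k) ^ (i : ℕ) else 0 := by
  obtain ⟨z, hz⟩ := apply_chain hAY hv (i : ℕ)
  rw [hb, hz, map_add, Finsupp.add_apply, repr_high b hb hbr hn1 _ z j hji, add_zero, map_smul,
    ← hb, Module.Basis.repr_self, Finsupp.smul_apply, Finsupp.single_apply]
  by_cases h : j = i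
  · subst h; simp
  · rw [if_neg (fun e => h (Sum.inl_injective e).symm), if_neg h, smul_zero]

theorem trace_chain (b : Module.Basis (Fin (n + 1) ⊕ ι) k V)
    (hb : ∀ i : Fin (n + 1), b (Sum.inl i) = ((Y - 1) ^ (i : ℕ)) v)
    (hbr : ∀ l, (Y - 1) (b (Sum.inr l)) = 0) (hn1 : (Y - 1) ^ (n + 1) = 0)
    (hAY : A * Y = Y ^ m * A) (hv : A v = μ • v) (κ : ι → k)
    (hκ : ∀ l, A (b (Sum.inr l)) = κ l • b (Sum.inr l)) :
    LinearMap.trace k V A = (∑ i ∈ Finset.range (n + 1), μ * (m : k) ^ i) + ∑ l, κ l := by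
  rw [LinearMap.trace_eq_matrix_trace k b, Matrix.trace, Fintype.sum_sum_type,
    Finset.sum_range]
  simp only [Matrix.diag_apply, LinearMap.toMatrix_apply]
  refine congrArg₂ (· + ·) (Finset.sum_congr rfl fun i _ => ?_) (Finset.sum_congr rfl fun l _ => ?_)
  · rw [repr_chain b hb hbr hn1 hAY hv i i le_rfl, if_pos rfl]
  · rw [hκ, map_smul, Module.Basis.repr_self, Finsupp.smul_apply, Finsupp.single_eq_same,
      smul_eq_mul, mul_one]

theorem det_chain (b : Module.Basis (Fin (n + 1)) k V)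
    (hb : ∀ i : Fin (n + 1), b i = ((Y - 1) ^ (i : ℕ)) v) (hn1 : (Y - 1) ^ (n + 1) = 0)
    (hAY : A * Y = Y ^ m * A) (hv : A v = μ • v) :
    LinearMap.det A = ∏ i ∈ Finset.range (n + 1), μ * (m : k) ^ i := by
  let b' : Module.Basis (Fin (n + 1) ⊕ Empty) k V := b.reindex (Equiv.sumEmpty _ _).symm
  have hrep : ∀ i j : Fin (n + 1), (j : ℕ) ≤ i →
      b.repr (A (b i)) j = if j = i then μ * (m : k) ^ (i : ℕ) else 0 := fun i j hji => by
    have h := repr_chain b' (fun i => by simp [b', hb]) (fun l => l.elim) hn1 hAY hv i j hji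
    simpa [b'] using h
  rw [← LinearMap.det_toMatrix b, Matrix.det_of_isLowerTriangular, Finset.prod_range]
  · refine Finset.prod_congr rfl fun i _ => ?_
    rw [LinearMap.toMatrix_apply, hrep i i le_rfl, if_pos rfl]
  · intro i j hij
    simp only [OrderDual.toDual_lt_toDual] at hij
    rw [LinearMap.toMatrix_apply, hrep j i hij.le, if_neg hij.ne]

end Triangular

end Cfsg.Agent.Lib.UniqueDegree79
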