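import Cfsg.Agent.Lib.UniqueDegree79.Invol
import Cfsg.Agent.Lib.Characters.TI
import Mathlib.RingTheory.IntegralDomain
import Mathlib.RingTheory.RootsOfUnity.Complex

/-!
# Exceptional characters for odd `#E`

For a nontrivial linear character `λ` of `E` the class function `2 - λ - λ⁻¹` on `E`, extended by
zero to `N(E)` and induced to `G`, has norm three, contains the trivial character once and
vanishes at `1`.  The character of degree `p` occurs in all of them, and one obtains an irreducible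
character of degree `p + 1` taking the value `λ + λ⁻¹` on `E \ {1}`.
-/

namespace Cfsg.Agent.Lib.UniqueDegree79

open Subgroup Finset
open Cfsg.Agent.Lib.Characters.Basic Cfsg.Agent.Lib.Characters.Complete
open Cfsg.Agent.Lib.Induced.Basic
open scoped ComplexConjugate

universe u

variable {G : Type u} [Group G]

/-- An integral vector of norm one is a signed unit vector. -/
theorem exists_unit_vector {ι : Type*} [DecidableEq ι] (s : Finset ι) (f : ι → ℤ)
    (h : ∑ i ∈ s, f i ^ 2 = 1) :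
    ∃ b ∈ s, (f b = 1 ∨ f b = -1) ∧ ∀ i ∈ s, i ≠ b → f i = 0 := by
  obtain ⟨b, hb, hfb⟩ : ∃ b ∈ s, f b ≠ 0 := by
    by_contra! hc
    rw [Finset.sum_eq_zero fun i hi => by rw [hc i hi, zero_pow two_ne_zero]] at h
    exact zero_ne_one h
  rw [← Finset.add_sum_erase s _ hb] at h
  have h0 : 0 ≤ ∑ i ∈ s.erase b, f i ^ 2 := Finset.sum_nonneg fun i _ => sq_nonneg _
  have h1 : 0 < f b ^ 2 := by positivity
  refine ⟨b, hb, sq_eq_one_iff.1 (by omega), fun i hi hib => ?_⟩
  have h2 : ∑ i ∈ s.erase b, f i ^ 2 = 0 := by omega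
  exact pow_eq_zero_iff two_ne_zero |>.1
    ((Finset.sum_eq_zero_iff_of_nonneg fun j _ => sq_nonneg (f j)).1 h2 i
      (Finset.mem_erase.2 ⟨hib, hi⟩))

variable {p : ℕ} [hp : Fact p.Prime] [Fintype G] {P : Sylow p G} {E : Subgroup G}

open scoped Classical in
/-- The function `2 - λ - λ⁻¹` on `E`, extended by zero to `N(E)`. -/
noncomputable def alpha (E : Subgroup G) (lam : E →* ℂˣ)
    (n : Subgroup.normalizer (E : Set G)) : ℂ :=
  if hn : (n : G) ∈ E then 2 - (lam ⟨n, hn⟩ : ℂ) - (lam⁻¹ ⟨n, hn⟩ : ℂˣ) else 0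

/-- The induced class function. -/
noncomputable def indAlpha (E : Subgroup G) (lam : E →* ℂˣ) : G → ℂ :=
  Cfsg.indFun (Subgroup.normalizer (E : Set G)) (alpha E lam)

omit hp [Fintype G] in
theorem conj_lam [Finite E] (lam : E →* ℂˣ) (x : E) : conj (lam x : ℂ) = (lam⁻¹ x : ℂˣ) := by
  rw [← apply_inv (Induced.Character.isCharacter_hom lam) x]
  simp

omit hp [Fintype G] in
theorem sum_lam [Fintype E] (lam : E →* ℂˣ) (h : lam ≠ 1) : ∑ x : E, (lam x : ℂ) = 0 := by
  refine sum_hom_units_eq_zero ((Units.coeHom ℂ).comp lam) fun h1 => h ?_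
  exact MonoidHom.ext fun x => Units.ext (DFunLike.congr_fun h1 x)

theorem sum_normalizer [Fintype E] [Fintype (Subgroup.normalizer (E : Set G))]
    (f : Subgroup.normalizer (E : Set G) → ℂ) (hf : ∀ n : Subgroup.normalizer (E : Set G), (n : G) ∉ E → f n = 0) :
    ∑ n, f n = ∑ x : E, f ⟨x, Subgroup.le_normalizer x.2⟩ := by
  symm
  refine Finset.sum_of_injOn (fun x : E => ⟨(x : G), Subgroup.le_normalizer x.2⟩)
    (fun a _ b _ hab => Subtype.ext (congrArg (fun n : Subgroup.normalizer (E : Set G) => (n : G)) hab))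
    (fun _ _ => Finset.mem_univ _) (fun (n : Subgroup.normalizer (E : Set G)) _ hn => hf n fun hE => hn ⟨⟨(n : G), hE⟩, Finset.mem_univ _, rfl⟩)
    (fun x _ => rfl)

namespace Hyp

omit [Fintype G] in
theorem three_le (h : Hyp p G P E) (hodd : Odd (Nat.card E)) : 3 ≤ Nat.card E := by
  have := h.two_le
  obtain ⟨k, hk⟩ := hodd
  omega

omit hp [Fintype G] in
theorem lam_sq [Finite G] (hodd : Odd (Nat.card E)) (lam : E →* ℂˣ) (h1 : lam * lam = 1) :
    lam = 1 := by
  refine MonoidHom.ext fun x => ?_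
  have h2 : lam x ^ 2 = 1 := by rw [pow_two, ← MonoidHom.mul_apply, h1, MonoidHom.one_apply]
  have h3 : lam x ^ Nat.card E = 1 := by rw [← map_pow, pow_card_eq_one', map_one]
  have h4 : lam x ^ Nat.gcd 2 (Nat.card E) = 1 := pow_gcd_eq_one.2 ⟨h2, h3⟩
  rwa [(Nat.coprime_two_left.2 hodd).gcd_eq_one, pow_one] at h4

/-- Conjugation by `N(E)` fixes or inverts each element of `E`. -/
theorem conj_cases (h : Hyp p G P E) (hodd : Odd (Nat.card E)) {g x : G}
    (hg : g ∈ normalizer (E : Set G)) (hx : x ∈ E) : g * x * g⁻¹ = x ∨ g * x * g⁻¹ = x⁻¹ := by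
  by_cases hgE : g ∈ E
  · exact Or.inl (by rw [h.comm hgE hx, mul_inv_cancel_right])
  · exact Or.inr (h.inverts_odd hg hgE hx
      (hodd.of_dvd_nat (Subgroup.orderOf_dvd_natCard _ hx)))

theorem isClassFunction_alpha (h : Hyp p G P E) (hodd : Odd (Nat.card E)) (lam : E →* ℂˣ) :
    Cfsg.IsClassFunction (normalizer (E : Set G)) (alpha E lam) := by
  intro n m
  have hiff : ((m * n * m⁻¹ : normalizer (E : Set G)) : G) ∈ E ↔ (n : G) ∈ E :=
    (Subgroup.mem_normalizer_iff.1 m.2 (n : G)).symm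
  unfold alpha
  by_cases hn : (n : G) ∈ E
  · rw [dif_pos (hiff.2 hn), dif_pos hn]
    rcases h.conj_cases hodd m.2 hn with e | e
    · rw [show (⟨_, hiff.2 hn⟩ : E) = ⟨n, hn⟩ from Subtype.ext e]
    · rw [show (⟨_, hiff.2 hn⟩ : E) = (⟨n, hn⟩ : E)⁻¹ from Subtype.ext e]
      simp only [MonoidHom.inv_apply, map_inv, inv_inv]
      ring
  · rw [dif_neg (fun hh => hn (hiff.1 hh)), dif_neg hn]

theorem indAlpha_apply (h : Hyp p G P E) (hodd : Odd (Nat.card E)) (lam : E →* ℂˣ) {x : G}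
    (hx : x ∈ E) (hx1 : x ≠ 1) :
    indAlpha E lam x = 2 - (lam ⟨x, hx⟩ : ℂ) - (lam⁻¹ ⟨x, hx⟩ : ℂˣ) := by
  have key := Characters.TI.indFun_apply_TI (E : Set G)
    (fun g hg t ht htc => by
      by_contra ht1
      exact hg (h.conj_mem ht ht1 htc))
    (alpha E lam) (h.isClassFunction_alpha hodd lam)
    (fun n hn => dif_neg hn) ⟨x, Subgroup.le_normalizer hx⟩ hx
    (fun e => hx1 (congrArg Subtype.val e))
  rw [indAlpha]
  exact key.trans (dif_pos hx)

omit hp in
theorem alpha_one (lam : E →* ℂˣ) : alpha E lam 1 = 0 := by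
  unfold alpha
  rw [dif_pos (show ((1 : normalizer (E : Set G)) : G) ∈ E from one_mem E)]
  rw [show (⟨((1 : normalizer (E : Set G)) : G), one_mem E⟩ : E) = 1 from rfl, map_one, map_one,
    Units.val_one]
  norm_num

omit hp in
theorem indAlpha_one (lam : E →* ℂˣ) : indAlpha E lam 1 = 0 := by
  rw [indAlpha, indFun_one, alpha_one, mul_zero]

omit hp in
theorem indAlpha_inv (lam : E →* ℂˣ) : indAlpha E lam⁻¹ = indAlpha E lam := by
  have : alpha E lam⁻¹ = alpha E lam := by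
    funext n
    unfold alpha
    split_ifs with hn
    · rw [inv_inv lam]; ring
    · rfl
  rw [indAlpha, indAlpha, this]

omit hp in
theorem conj_indAlpha (lam : E →* ℂˣ) (g : G) : conj (indAlpha E lam g) = indAlpha E lam g := by
  rw [indAlpha, indFun_conj_fun]
  congr 1
  funext n
  unfold alpha
  split_ifs with hn
  · rw [map_sub, map_sub, conj_lam, conj_lam, inv_inv lam, map_ofNat]; ring
  · simp

theorem inner_indAlpha (h : Hyp p G P E) (hodd : Odd (Nat.card E)) (lam mu : E →* ℂˣ) :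
    Cfsg.classInner (indAlpha E lam) (indAlpha E mu) =
      (2 * Nat.card E : ℂ)⁻¹ * ∑ᶠ x : E,
        (2 - (lam x : ℂ) - (lam⁻¹ x : ℂˣ)) * (2 - (mu x : ℂ) - (mu⁻¹ x : ℂˣ)) := by
  classical
  have := Fintype.ofFinite E
  rw [indAlpha, indAlpha, Characters.TI.classInner_indFun_TI (E : Set G)
    (fun g hg t ht htc => by
      by_contra ht1
      exact hg (h.conj_mem ht ht1 htc))
    _ _ (h.isClassFunction_alpha hodd mu) (fun n (hn : ¬ (n : G) ∈ E) => show alpha E lam n = 0 from dif_neg hn)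
    (fun n (hn : ¬ (n : G) ∈ E) => show alpha E mu n = 0 from dif_neg hn) (alpha_one lam)]
  rw [Cfsg.classInner, h.nE, Nat.cast_mul, Nat.cast_ofNat, finsum_eq_sum_of_fintype,
    sum_normalizer _ (fun n hn => by rw [alpha, dif_neg hn, zero_mul])]
  congr 1
  refine Finset.sum_congr rfl fun x _ => ?_
  simp only [alpha, dif_pos x.2, Subtype.coe_eta]
  rw [map_sub, map_sub, conj_lam, conj_lam, inv_inv mu, map_ofNat]
  ring

theorem inner_indAlpha_eq (h : Hyp p G P E) (hodd : Odd (Nat.card E)) (lam mu : E →* ℂˣ)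
    (hl : lam ≠ 1) (hm : mu ≠ 1) :
    Cfsg.classInner (indAlpha E lam) (indAlpha E mu) =
      2 + (open Classical in if lam * mu = 1 then 1 else 0) +
        (open Classical in if lam = mu then 1 else 0) := by
  classical
  have := Fintype.ofFinite E
  rw [h.inner_indAlpha hodd, finsum_eq_sum_of_fintype]
  have hsum : ∀ f : E →* ℂˣ, ∑ x : E, (f x : ℂ) = if f = 1 then (Nat.card E : ℂ) else 0 := by
    intro f
    split_ifs with hf
    · simp [hf, Nat.card_eq_fintype_card]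
    · exact sum_lam f hf
  have hexp : ∀ x : E, (2 - (lam x : ℂ) - (lam⁻¹ x : ℂˣ)) * (2 - (mu x : ℂ) - (mu⁻¹ x : ℂˣ)) =
      4 - 2 * (lam x : ℂ) - 2 * (lam⁻¹ x : ℂˣ) - 2 * (mu x : ℂ) - 2 * (mu⁻¹ x : ℂˣ)
        + ((lam * mu) x : ℂˣ) + ((lam⁻¹ * mu⁻¹) x : ℂˣ) + ((lam * mu⁻¹) x : ℂˣ)
        + ((lam⁻¹ * mu) x : ℂˣ) := by
    intro x
    simp only [MonoidHom.mul_apply, Units.val_mul]
    ring
  simp only [hexp, Finset.sum_add_distrib, Finset.sum_sub_distrib, ← Finset.mul_sum]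
  rw [hsum, hsum, hsum, hsum, hsum, hsum, hsum, hsum]
  have h1 : (lam⁻¹ * mu⁻¹ = 1) ↔ lam * mu = 1 := by
    rw [← mul_inv lam mu]; exact inv_eq_one (a := lam * mu)
  have h2 : (lam * mu⁻¹ = 1) ↔ lam = mu := mul_inv_eq_one (a := lam) (b := mu)
  have h3 : (lam⁻¹ * mu = 1) ↔ lam = mu := inv_mul_eq_one (a := lam) (b := mu)
  have h4 : lam⁻¹ = 1 ↔ lam = 1 := inv_eq_one (a := lam)
  have h5 : mu⁻¹ = 1 ↔ mu = 1 := inv_eq_one (a := mu)
  simp only [h1, h2, h3, h4, h5, if_neg hl, if_neg hm, Finset.sum_const, Finset.card_univ, ← Nat.card_eq_fintype_card,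
    nsmul_eq_mul]
  have hne : (Nat.card E : ℂ) ≠ 0 := Nat.cast_ne_zero.2 Nat.card_pos.ne'
  split_ifs <;> field_simp <;> ring

/-- The multiplicity of a linear character of `E` in a restricted character. -/
noncomputable def mult (h : Hyp p G P E) (χ : Cfsg.IrrCharacter G) (lam : E →* ℂˣ) : ℕ :=
  letI := Fintype.ofFinite E
  (exists_classInner_nat (isCharacter_comp E.subtype (isCharacter_irr χ))
    (Induced.Character.isCharacter_hom lam)).choose

omit hp in
theorem mult_spec [Fintype E] (h : Hyp p G P E) (χ : Cfsg.IrrCharacter G) (lam : E →* ℂˣ) :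
    (Nat.card E : ℂ)⁻¹ * ∑ x : E, (χ : G → ℂ) x * conj (lam x : ℂ) = h.mult χ lam := by
  unfold mult
  generalize_proofs _ hk
  have h2 := hk.choose_spec
  unfold Cfsg.classInner at h2
  convert h2 using 1
  · congr 1
    exact Finset.sum_congr (by ext; simp) fun _ _ => rfl
  · rfl

theorem mult_inv (h : Hyp p G P E) (hodd : Odd (Nat.card E)) (χ : Cfsg.IrrCharacter G)
    (lam : E →* ℂˣ) : h.mult χ lam⁻¹ = h.mult χ lam := by
  have := Fintype.ofFinite E
  refine Nat.cast_injective (R := ℂ) ?_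
  rw [← h.mult_spec, ← h.mult_spec]
  congr 1
  refine Fintype.sum_equiv (Equiv.inv E) _ _ fun x => ?_
  obtain ⟨w, hw⟩ := h.exists_not_mem
  have e := h.inverts_odd hw.1 hw.2 x.2 (hodd.of_dvd_nat (Subgroup.orderOf_dvd_natCard _ x.2))
  have hc := isClassFunction_irr χ (x : G) w
  rw [e] at hc
  simp only [Equiv.inv_apply, Subgroup.coe_inv, hc, MonoidHom.inv_apply, map_inv]

theorem inner_indAlpha_irr (h : Hyp p G P E) (hodd : Odd (Nat.card E)) (χ : Cfsg.IrrCharacter G)
    (lam : E →* ℂˣ) :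
    Cfsg.classInner (indAlpha E lam) χ = (((h.mult χ 1 : ℤ) - h.mult χ lam : ℤ) : ℂ) := by
  classical
  have := Fintype.ofFinite E
  obtain ⟨w, hw⟩ := h.exists_not_mem
  rw [indAlpha, frobenius_reciprocity _ _ (isClassFunction_irr χ), Cfsg.classInner, h.nE,
    Nat.cast_mul, Nat.cast_ofNat, sum_normalizer _ (fun n hn => by rw [alpha, dif_neg hn, zero_mul])]
  push_cast
  have h2 : (h.mult χ lam : ℂ) = ((h.mult χ lam : ℂ) + h.mult χ lam⁻¹) / 2 := by
    rw [h.mult_inv hodd]; ring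
  rw [h2, ← h.mult_spec, ← h.mult_spec, ← h.mult_spec]
  have hreal : ∀ x : E, conj ((χ : G → ℂ) x) = (χ : G → ℂ) x := by
    intro x
    have e := h.inverts_odd hw.1 hw.2 x.2 (hodd.of_dvd_nat (Subgroup.orderOf_dvd_natCard _ x.2))
    have hc := isClassFunction_irr χ (x : G) w
    rw [e] at hc
    rw [← apply_inv (isCharacter_irr χ), hc]
  simp only [alpha, Subtype.coe_eta, dif_pos (SetLike.coe_mem _), hreal, MonoidHom.one_apply,
    Units.val_one, map_one, mul_one, conj_lam, inv_inv]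
  rw [inv_inv lam]
  simp only [Finset.mul_sum, sub_mul, Finset.sum_sub_distrib]
  simp only [← Finset.mul_sum, mul_comm (lam _ : ℂ), mul_comm ((lam⁻¹ _ : ℂˣ) : ℂ)]
  have hne : (Nat.card E : ℂ) ≠ 0 := Nat.cast_ne_zero.2 Nat.card_pos.ne'
  field_simp
  ring

omit hp in
/-- Fourier inversion on `E`. -/
theorem sum_mult (h : Hyp p G P E) (χ : Cfsg.IrrCharacter G) (ψ : E →* ℂˣ)
    (hψ : Function.Injective ψ) (y : E) :
    ∑ i ∈ Finset.range (Nat.card E), (h.mult χ (ψ ^ i) : ℂ) * ((ψ y : ℂ) ^ i) =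
      (χ : G → ℂ) y := by
  classical
  have := Fintype.ofFinite E
  simp only [← h.mult_spec, Finset.mul_sum, Finset.sum_mul]
  rw [Finset.sum_comm]
  rw [Finset.sum_eq_single y]
  · have hterm : ∀ i ∈ Finset.range (Nat.card E),
        (Nat.card E : ℂ)⁻¹ * ((χ : G → ℂ) y * conj ((ψ ^ i) y : ℂ)) * (ψ y : ℂ) ^ i =
          (Nat.card E : ℂ)⁻¹ * (χ : G → ℂ) y := by
      intro i _
      rw [conj_lam, MonoidHom.inv_apply, MonoidHom.pow_apply, ← inv_pow, Units.val_pow_eq_pow_val,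
        mul_assoc, mul_assoc, ← mul_pow, ← Units.val_mul, inv_mul_cancel, Units.val_one, one_pow,
        mul_one]
    rw [Finset.sum_congr rfl hterm, Finset.sum_const, Finset.card_range, nsmul_eq_mul, ← mul_assoc,
      mul_inv_cancel₀ (Nat.cast_ne_zero.2 Nat.card_pos.ne'), one_mul]
  · intro x _ hxy
    have hq : (((ψ x)⁻¹ * ψ y : ℂˣ) : ℂ) ≠ 1 := fun h1 =>
      hxy (hψ (inv_mul_eq_one.1 (Units.ext h1)))
    have hqe : (((ψ x)⁻¹ * ψ y : ℂˣ) : ℂ) ^ Nat.card E = 1 := by
      rw [← Units.val_pow_eq_pow_val, ← map_inv, ← map_mul, ← map_pow, pow_card_eq_one', map_one,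
        Units.val_one]
    have hterm : ∀ i ∈ Finset.range (Nat.card E),
        (Nat.card E : ℂ)⁻¹ * ((χ : G → ℂ) x * conj ((ψ ^ i) x : ℂ)) * (ψ y : ℂ) ^ i =
          (Nat.card E : ℂ)⁻¹ * (χ : G → ℂ) x * (((ψ x)⁻¹ * ψ y : ℂˣ) : ℂ) ^ i := by
      intro i _
      rw [conj_lam, MonoidHom.inv_apply, MonoidHom.pow_apply, ← inv_pow, Units.val_pow_eq_pow_val,
        Units.val_mul, mul_pow]
      ring
    rw [Finset.sum_congr rfl hterm, ← Finset.mul_sum, geom_sum_eq hq, hqe, sub_self, zero_div,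
      mul_zero]
  · simp

/-- There is an irreducible character of degree `p + 1` with values `ψ + ψ⁻¹` on `E \ {1}`,
for a faithful linear character `ψ` of `E`; it is real. -/
theorem exists_exceptional (h : Hyp p G P E) (hodd : Odd (Nat.card E)) :
    ∃ (ψ : E →* ℂˣ) (Φ : Cfsg.IrrCharacter G), Function.Injective ψ ∧
      (Φ : G → ℂ) 1 = (p : ℂ) + 1 ∧
      (∀ (x : G) (hx : x ∈ E), x ≠ 1 →
        (Φ : G → ℂ) x = (ψ ⟨x, hx⟩ : ℂ) + (ψ⁻¹ ⟨x, hx⟩ : ℂˣ)) ∧
      ∀ g : G, (Φ : G → ℂ) g⁻¹ = (Φ : G → ℂ) g := by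
  classical
  have := Fintype.ofFinite (Cfsg.IrrCharacter G)
  have := Fintype.ofFinite E
  have := h.cyclic
  have he3 := h.three_le hodd
  have : NeZero (Nat.card E) := ⟨by omega⟩
  obtain ⟨ψ, hψ⟩ : ∃ ψ : E →* ℂˣ, Function.Injective ψ := by
    have hc : Nat.card (rootsOfUnity (Nat.card E) ℂ) = Nat.card E := by
      exact HasEnoughRootsOfUnity.natCard_rootsOfUnity ℂ _
    exact ⟨(rootsOfUnity (Nat.card E) ℂ).subtype.comp (mulEquivOfCyclicCardEq hc.symm).toMonoidHom,
      Subtype.val_injective.comp (MulEquiv.injective _)⟩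
  have hψ1 : ∀ i, 0 < i → i < Nat.card E → ψ ^ i ≠ 1 := by
    intro i hi hie h1
    obtain ⟨g, hg⟩ := IsCyclic.exists_ofOrder_eq_natCard (α := E)
    have h2 : g ^ i = 1 := hψ (by rw [map_pow, map_one, ← MonoidHom.pow_apply, h1]; rfl)
    have := Nat.le_of_dvd hi (hg ▸ orderOf_dvd_of_pow_eq_one h2)
    omega
  obtain ⟨σ, hσ, hσu⟩ := h.uniq
  have hσ1 : (σ : G → ℂ) 1 = p := by
    rw [DegreeBounds.Basic.charDegree_irr σ, hσ]
  have hσuniq : ∀ χ : Cfsg.IrrCharacter G, (χ : G → ℂ) 1 = p → χ = σ := fun χ hχ =>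
    hσu χ (by
      show Cfsg.charDegree _ = p
      rw [Cfsg.charDegree, hχ, Complex.natCast_re, Nat.floor_natCast])
  obtain ⟨f, hf⟩ : ∃ f : (E →* ℂˣ) → Cfsg.IrrCharacter G → ℤ, ∀ lam χ,
      f lam χ = (h.mult χ 1 : ℤ) - h.mult χ lam := ⟨_, fun _ _ => rfl⟩
  have hfc : ∀ lam (χ : Cfsg.IrrCharacter G), Cfsg.classInner (indAlpha E lam) χ = (f lam χ : ℂ) := fun lam χ => by
    rw [hf, h.inner_indAlpha_irr hodd]
  have hexp : ∀ lam, indAlpha E lam = ∑ χ, (f lam χ : ℂ) • (χ : G → ℂ) := fun lam => by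
    conv_lhs => rw [classFunction_eq_sum
      (θ := indAlpha E lam) (isClassFunction_indFun _ _)]
    exact Finset.sum_congr rfl fun χ _ => by rw [hfc]
  have hinner : ∀ lam mu, Cfsg.classInner (indAlpha E lam) (indAlpha E mu) =
      ((∑ χ, f lam χ * f mu χ : ℤ) : ℂ) := by
    intro lam mu
    conv_lhs => arg 2; rw [hexp mu]
    rw [classInner_sum_right, Int.cast_sum]
    refine Finset.sum_congr rfl fun χ _ => ?_
    rw [classInner_smul_right, hfc, Int.cast_mul, map_intCast]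
    ring
  have hone : ∀ lam, lam ≠ 1 → f lam (oneChar G) = 1 := by
    intro lam hl
    have h1 : h.mult (oneChar G) 1 = 1 := Nat.cast_injective (R := ℂ) (by
      rw [← h.mult_spec]
      simp [oneChar_apply, Nat.card_eq_fintype_card])
    have h0 : h.mult (oneChar G) lam = 0 := Nat.cast_injective (R := ℂ) (by
      rw [← h.mult_spec]
      simp only [oneChar_apply, one_mul, conj_lam]
      rw [sum_lam _ (fun e => hl ((inv_eq_one (a := lam)).1 e)), mul_zero, Nat.cast_zero])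
    rw [hf, h1, h0]; rfl
  have hσ0 : σ ≠ oneChar G := fun e => by
    rw [e, oneChar_apply] at hσ1
    have : (p : ℂ) = ((1 : ℕ) : ℂ) := by rw [Nat.cast_one, hσ1]
    exact hp.out.one_lt.ne' (Nat.cast_injective this)
  have hdeg : ∀ χ : Cfsg.IrrCharacter G, ∃ d : ℕ, 0 < d ∧ (χ : G → ℂ) 1 = d := fun χ => by
    obtain ⟨n, hn, hd⟩ := exists_degree_pos χ
    exact ⟨n, hn, hd⟩
  choose d hd0 hd using hdeg
  have hzero : ∀ lam, ∑ χ, f lam χ * (d χ : ℤ) = 0 := by
    intro lam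
    have := congrFun (hexp lam) 1
    rw [indAlpha_one, Finset.sum_apply] at this
    refine Int.cast_injective (α := ℂ) ?_
    push_cast
    rw [this]
    exact Finset.sum_congr rfl fun χ _ => by rw [Pi.smul_apply, hd, smul_eq_mul]
  obtain ⟨R, hR⟩ : ∃ R, R = (Finset.univ.erase (oneChar G)).erase σ := ⟨_, rfl⟩
  have hsplit : ∀ u : Cfsg.IrrCharacter G → ℤ, ∑ χ, u χ = u (oneChar G) + (u σ + ∑ χ ∈ R, u χ) :=
    fun u => by
      rw [hR, ← Finset.add_sum_erase _ u (Finset.mem_univ (oneChar G)),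
        ← Finset.add_sum_erase _ u (Finset.mem_erase.2 ⟨hσ0, Finset.mem_univ σ⟩)]
  have hd1 : d (oneChar G) = 1 := Nat.cast_injective (R := ℂ) (by rw [← hd, oneChar_apply]; simp)
  have hdσ : d σ = p := Nat.cast_injective (R := ℂ) (by rw [← hd, hσ1])
  have hnorm : ∀ lam, lam ≠ 1 → f lam σ ^ 2 + ∑ χ ∈ R, f lam χ ^ 2 = 2 := by
    intro lam hl
    have h1 := hinner lam lam
    rw [h.inner_indAlpha_eq hodd lam lam hl hl, if_pos rfl,
      if_neg (fun e => hl (lam_sq hodd lam e))] at h1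
    have h2 : ∑ χ, f lam χ * f lam χ = 3 := Int.cast_injective (α := ℂ) (by rw [← h1]; norm_num)
    rw [hsplit, hone lam hl] at h2
    simp only [← pow_two] at h2
    linarith
  have hpair : ∀ lam mu, lam ≠ 1 → mu ≠ 1 → lam * mu ≠ 1 → lam ≠ mu →
      f lam σ * f mu σ + ∑ χ ∈ R, f lam χ * f mu χ = 1 := by
    intro lam mu hl hm h12 hne
    have h1 := hinner lam mu
    rw [h.inner_indAlpha_eq hodd lam mu hl hm, if_neg h12, if_neg hne] at h1
    have h2 : ∑ χ, f lam χ * f mu χ = 2 := Int.cast_injective (α := ℂ) (by rw [← h1]; norm_num)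
    rw [hsplit, hone lam hl, hone mu hm] at h2
    linarith
  have hzero' : ∀ lam, lam ≠ 1 → 1 + f lam σ * p + ∑ χ ∈ R, f lam χ * (d χ : ℤ) = 0 := by
    intro lam hl
    have := hzero lam
    rw [hsplit, hone lam hl, hd1, hdσ] at this
    push_cast at this
    linarith
  have hsum : ∀ y : E, ∑ i ∈ Finset.range (Nat.card E), (h.mult σ (ψ ^ i) : ℂ) * ((ψ y : ℂ) ^ i) =
      (σ : G → ℂ) y := fun y => h.sum_mult σ ψ hψ y
  have hp0 : ¬ Nat.card E ∣ p := fun hd' => by
    rcases hp.out.eq_one_or_self_of_dvd _ hd' with e | e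
    · omega
    · have := Nat.le_of_dvd (by have := h.five; omega) h.dvd
      omega
  obtain ⟨lam, hl, hlσ⟩ : ∃ lam, lam ≠ 1 ∧ f lam σ ≠ 0 := by
    by_contra! hc
    refine hp0 ⟨h.mult σ 1, Nat.cast_injective (R := ℂ) ?_⟩
    rw [← hσ1, ← OneMemClass.coe_one E, ← hsum 1]
    rw [Finset.sum_congr rfl (g := fun _ => (h.mult σ 1 : ℂ)) fun i hi => ?_]
    · simp
    · rw [map_one, Units.val_one, one_pow, mul_one]
      by_cases hi0 : i = 0
      · rw [hi0, pow_zero ψ]
      · have := hc _ (hψ1 i (by omega) (Finset.mem_range.1 hi))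
        rw [hf, sub_eq_zero, Nat.cast_inj] at this
        rw [this]
  have hsq : ∀ mu, mu ≠ 1 → f mu σ ^ 2 ≤ 2 := fun mu hm => by
    have := hnorm mu hm
    have h0 : 0 ≤ ∑ χ ∈ R, f mu χ ^ 2 := Finset.sum_nonneg fun i _ => sq_nonneg _
    linarith
  have hε : f lam σ = 1 ∨ f lam σ = -1 := by
    have := hsq lam hl
    have h1 : -1 ≤ f lam σ := by nlinarith
    have h2 : f lam σ ≤ 1 := by nlinarith
    omega
  have hε2 : f lam σ ^ 2 = 1 := sq_eq_one_iff.2 hε
  obtain ⟨β, hβ, hβ1, hβ0⟩ := exists_unit_vector R (f lam) (by linarith [hnorm lam hl])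
  have hdegβ : 1 + f lam σ * p + f lam β * d β = 0 := by
    have := hzero' lam hl
    rwa [Finset.sum_eq_single β (fun χ hχ hne => by rw [hβ0 χ hχ hne, zero_mul])
      (fun hh => absurd hβ hh)] at this
  have hall : ∀ mu, mu ≠ 1 → f mu σ = f lam σ := by
    intro mu hm
    by_cases h12 : lam * mu = 1
    · have e : mu = lam⁻¹ := eq_inv_of_mul_eq_one_right (a := lam) (b := mu) h12
      rw [hf, hf, e, h.mult_inv hodd]
    by_cases hne : lam = mu
    · rw [hne]
    have hp1 := hpair lam mu hl hm h12 hne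
    rw [Finset.sum_eq_single β (fun χ hχ hne => by rw [hβ0 χ hχ hne, zero_mul])
      (fun hh => absurd hβ hh)] at hp1
    have hn := hnorm mu hm
    have hs := hsq mu hm
    have hb2 : f mu β ^ 2 ≤ ∑ χ ∈ R, f mu χ ^ 2 :=
      Finset.single_le_sum (fun i _ => sq_nonneg (f mu i)) hβ
    have h1 : -1 ≤ f mu σ := by nlinarith
    have h2 : f mu σ ≤ 1 := by nlinarith
    have h3 : -1 ≤ f mu β := by nlinarith [sq_nonneg (f mu σ)]
    have h4 : f mu β ≤ 1 := by nlinarith [sq_nonneg (f mu σ)]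
    by_cases h0 : f mu σ = 0
    · exfalso
      have hβm : f mu β = f lam β := by
        rw [h0, mul_zero, zero_add] at hp1
        rcases hβ1 with e | e <;> rw [e] at hp1 ⊢ <;> omega
      have h5 : ∑ χ ∈ R.erase β, f mu χ ^ 2 = 1 := by
        rw [← Finset.add_sum_erase R _ hβ, h0] at hn
        have : f mu β ^ 2 = 1 := by rw [hβm]; exact sq_eq_one_iff.2 hβ1
        linarith
      obtain ⟨γ, hγ, hγ1, hγ0⟩ := exists_unit_vector _ _ h5
      have h6 := hzero' mu hm
      rw [h0, ← Finset.add_sum_erase R _ hβ, Finset.sum_eq_single γ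
        (fun χ hχ hne => by rw [hγ0 χ hχ hne, zero_mul]) (fun hh => absurd hγ hh), hβm] at h6
      have h7 : d γ = p := by
        have : f mu γ * d γ = f lam σ * p := by linarith
        have hcase : (d γ : ℤ) = p ∨ (d γ : ℤ) = -p := by
          rcases hγ1 with e | e <;> rcases hε with e' | e' <;> rw [e, e'] at this <;> omega
        omega
      have := hσuniq γ (by rw [hd, h7])
      rw [this, hR] at hγ
      simp at hγ
    · rcases hβ1 with e | e <;> rw [e] at hp1 <;> rcases hε with e' | e' <;> rw [e'] at hp1 ⊢ <;> omega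
  -- the sign is positive
  have hmult : ∀ i ∈ Finset.range (Nat.card E), i ≠ 0 →
      (h.mult σ (ψ ^ i) : ℤ) = (h.mult σ 1 : ℤ) - f lam σ := by
    intro i hi hi0
    have := hall _ (hψ1 i (by omega) (Finset.mem_range.1 hi))
    rw [hf] at this
    linarith
  have hval : ∀ y : E, (σ : G → ℂ) y = (f lam σ : ℂ) +
      ((h.mult σ 1 : ℂ) - f lam σ) * ∑ i ∈ Finset.range (Nat.card E), (ψ y : ℂ) ^ i := by
    intro y
    rw [← hsum y, ← Finset.add_sum_erase _ _ (Finset.mem_range.2 (show 0 < Nat.card E by omega)),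
      ← Finset.add_sum_erase _ (fun i => (ψ y : ℂ) ^ i)
        (Finset.mem_range.2 (show 0 < Nat.card E by omega)), mul_add, Finset.mul_sum,
      Finset.sum_congr rfl (g := fun i => ((h.mult σ 1 : ℂ) - f lam σ) * (ψ y : ℂ) ^ i) fun i hi => ?_]
    · rw [pow_zero ψ]; simp only [pow_zero]; ring
    · have := congrArg (Int.cast : ℤ → ℂ)
        (hmult i (Finset.mem_of_mem_erase hi) (Finset.ne_of_mem_erase hi))
      push_cast at this
      rw [this]
  have hpos : f lam σ = 1 := by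
    refine hε.resolve_right fun e => ?_
    have h1 := hval 1
    rw [e, OneMemClass.coe_one, hσ1, map_one, Units.val_one] at h1
    simp only [one_pow, Finset.sum_const, Finset.card_range, nsmul_eq_mul, mul_one] at h1
    have h2 : (p : ℤ) = -1 + ((h.mult σ 1 : ℤ) - -1) * Nat.card E :=
      Int.cast_injective (α := ℂ) (by push_cast at h1 ⊢; exact h1)
    have h3 : (Nat.card E : ℤ) ∣ (p : ℤ) - 1 := by
      have := Int.natCast_dvd_natCast.2 h.dvd
      rwa [Nat.cast_sub hp.out.pos, Nat.cast_one] at this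
    have h4 : (Nat.card E : ℤ) ∣ 2 := by
      have h5 : (Nat.card E : ℤ) ∣ (p : ℤ) + 1 := ⟨(h.mult σ 1 : ℤ) + 1, by linarith⟩
      have := dvd_sub h5 h3
      rwa [show (p : ℤ) + 1 - ((p : ℤ) - 1) = 2 by ring] at this
    have := Int.le_of_dvd two_pos h4
    omega
  have hψne : ψ ≠ 1 := by
    have := hψ1 1 one_pos (by omega)
    rwa [pow_one ψ] at this
  have hψσ : f ψ σ = 1 := (hall ψ hψne).trans hpos
  obtain ⟨Φ, hΦ, hΦ1, hΦ0⟩ := exists_unit_vector R (f ψ) (by
    have := hnorm ψ hψne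
    rw [hψσ] at this
    linarith)
  have hdΦ : 1 + (p : ℤ) + f ψ Φ * d Φ = 0 := by
    have := hzero' ψ hψne
    rwa [hψσ, one_mul, Finset.sum_eq_single Φ (fun χ hχ hne => by rw [hΦ0 χ hχ hne, zero_mul])
      (fun hh => absurd hΦ hh)] at this
  have hΦneg : f ψ Φ = -1 := by
    refine hΦ1.resolve_left fun e => ?_
    rw [e] at hdΦ
    omega
  have hA : ∀ g, indAlpha E ψ g = 1 + (σ : G → ℂ) g - (Φ : G → ℂ) g := by
    intro g
    rw [hexp ψ, Finset.sum_apply]
    simp only [Pi.smul_apply, smul_eq_mul]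
    rw [← Finset.add_sum_erase _ _ (Finset.mem_univ (oneChar G)),
      ← Finset.add_sum_erase _ _ (Finset.mem_erase.2 ⟨hσ0, Finset.mem_univ σ⟩), ← hR,
      Finset.sum_eq_single Φ (fun χ hχ hne => by rw [hΦ0 χ hχ hne, Int.cast_zero, zero_mul])
        (fun hh => absurd hΦ hh), hone ψ hψne, hψσ, hΦneg, oneChar_apply]
    push_cast
    ring
  have hσreal : ∀ g : G, conj ((σ : G → ℂ) g) = (σ : G → ℂ) g := by
    intro g
    have := hσuniq (Characters.Linear.conjChar σ) (by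
      rw [Characters.Linear.conjChar_apply, hσ1, map_natCast])
    rw [← Characters.Linear.conjChar_apply, this]
  refine ⟨ψ, Φ, hψ, ?_, fun x hx hx1 => ?_, fun g => ?_⟩
  · rw [hd, ← Int.cast_natCast (R := ℂ), show (d Φ : ℤ) = p + 1 by rw [hΦneg] at hdΦ; linarith]
    push_cast
    rfl
  · have h1 := hA x
    rw [h.indAlpha_apply hodd ψ hx hx1] at h1
    have h2 : (σ : G → ℂ) x = 1 := by
      rw [show x = ((⟨x, hx⟩ : E) : G) from rfl, hval, hpos]
      have hq : (ψ ⟨x, hx⟩ : ℂ) ≠ 1 := fun h1 => hx1 (congrArg Subtype.val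
        (hψ ((Units.ext h1).trans (map_one ψ).symm)))
      rw [geom_sum_eq hq, ← Units.val_pow_eq_pow_val, ← map_pow, pow_card_eq_one', map_one,
        Units.val_one, sub_self, zero_div, mul_zero, Int.cast_one, add_zero]
    linear_combination h1 + h2
  · rw [apply_inv (isCharacter_irr Φ)]
    have h1 := congrArg conj (hA g)
    rw [conj_indAlpha, map_sub, map_add, map_one, hσreal] at h1
    linear_combination (h1 - hA g)

end Hyp

end Cfsg.Agent.Lib.UniqueDegree79
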