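import Mathlib.LinearAlgebra.Matrix.ToLin
import Mathlib.LinearAlgebra.Eigenspace.Triangularizable
import Mathlib.LinearAlgebra.Trace
import Mathlib.RingTheory.SimpleModule.Basic
import Mathlib.RepresentationTheory.AlgebraRepresentation.Basic
import Mathlib.RingTheory.Artinian.Module

/-!
# Irreducible operator families: Schur, density, and the inverse relation

`Irr ρ` says that the operators have no common invariant subspace other than `⊥` and `⊤`.
-/

namespace Cfsg.Agent.Lib.UniqueDegree79

universe u v w

variable {G : Type u} [Group G] {k : Type v} [Field k] {V : Type w} [AddCommGroup V] [Module k V]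

/-- No proper invariant subspace. -/
def Irr (ρ : G →* Module.End k V) : Prop :=
  Nontrivial V ∧ ∀ W : Submodule k V, (∀ g, ∀ v ∈ W, ρ g v ∈ W) → W = ⊥ ∨ W = ⊤

variable [IsAlgClosed k] [FiniteDimensional k V]

theorem Irr.exists_scalar {ρ : G →* Module.End k V} (hρ : Irr ρ) {F : Module.End k V}
    (hF : ∀ g, ρ g * F = F * ρ g) : ∃ c : k, ∀ v, F v = c • v := by
  have := hρ.1
  obtain ⟨c, hc⟩ := Module.End.exists_eigenvalue F
  refine ⟨c, fun v => ?_⟩
  have hinv : ∀ g, ∀ w ∈ F.eigenspace c, ρ g w ∈ F.eigenspace c := fun g w hw => by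
    rw [Module.End.mem_eigenspace_iff] at hw ⊢
    rw [← Module.End.mul_apply, ← hF g, Module.End.mul_apply, hw, map_smul]
  rcases hρ.2 (F.eigenspace c) hinv with h | h
  · exact absurd h hc
  · exact Module.End.mem_eigenspace_iff.1 (h ▸ Submodule.mem_top : v ∈ F.eigenspace c)

/-- Burnside: the operators span the whole endomorphism algebra. -/
theorem Irr.span_eq_top {ρ : G →* Module.End k V} (hρ : Irr ρ) :
    Submodule.span k (Set.range ρ) = ⊤ := by
  classical
  have := hρ.1
  let B : Subalgebra k (Module.End k V) :=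
    (Submodule.span k (Set.range ρ)).toSubalgebra
      (Submodule.subset_span ⟨1, map_one ρ⟩) (fun a b ha hb => by
        have h := Submodule.mul_mem_mul ha hb
        rw [Submodule.span_mul_span] at h
        refine Submodule.span_mono ?_ h
        rintro _ ⟨_, ⟨x, rfl⟩, _, ⟨y, rfl⟩, rfl⟩
        exact ⟨x * y, map_mul ρ x y⟩)
  have : IsSimpleModule B V := by
    rw [isSimpleModule_iff]
    refine { exists_pair_ne := ⟨⊥, ⊤, bot_ne_top⟩, eq_bot_or_eq_top := fun W => ?_ }
    let W' : Submodule k V :=
      { carrier := W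
        add_mem' := W.add_mem
        zero_mem' := W.zero_mem
        smul_mem' := fun c x hx => by
          have h := W.smul_mem (algebraMap k B c) hx
          rwa [Algebra.algebraMap_eq_smul_one, smul_assoc, one_smul] at h }
    rcases hρ.2 W' (fun g x hx => W.smul_mem (⟨ρ g, Submodule.subset_span ⟨g, rfl⟩⟩ : B) hx)
      with h | h
    · exact Or.inl (SetLike.ext fun x => (SetLike.ext_iff.1 h x : _))
    · exact Or.inr (SetLike.ext fun x => (SetLike.ext_iff.1 h x : _))
  rw [eq_top_iff]
  rintro f -
  let F : Module.End (Module.End B V) V :=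
    { toFun := f
      map_add' := map_add f
      map_smul' := fun φ w => by
        obtain ⟨c, rfl⟩ :=
          (IsSimpleModule.algebraMap_end_bijective_of_isAlgClosed (A := B) (V := V) k).2 φ
        simp [Module.algebraMap_end_apply] }
  let b := Module.finBasis k V
  obtain ⟨r, hr⟩ := jacobson_density F (Finset.univ.image b)
  have : f = (r : Module.End k V) :=
    b.ext fun i => hr (b i) (Finset.mem_image_of_mem _ (Finset.mem_univ i))
  rw [this]
  exact r.2

/-- If the trace function is invariant under inversion, a linear relation among the operators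
holds for the inverses as well. -/
theorem Irr.inv_relation {ρ : G →* Module.End k V} (hρ : Irr ρ)
    (htr : ∀ g, LinearMap.trace k V (ρ g⁻¹) = LinearMap.trace k V (ρ g))
    {ι : Type*} (s : Finset ι) (c : ι → k) (g : ι → G) (h0 : ∑ i ∈ s, c i • ρ (g i) = 0) :
    ∑ i ∈ s, c i • ρ (g i)⁻¹ = 0 := by
  classical
  have hkey : ∀ f : Module.End k V, LinearMap.trace k V ((∑ i ∈ s, c i • ρ (g i)⁻¹) * f) = 0 := by
    intro f
    have hf : f ∈ Submodule.span k (Set.range ρ) := by rw [hρ.span_eq_top]; exact Submodule.mem_top
    induction hf using Submodule.span_induction with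
    | mem x hx =>
      obtain ⟨a, rfl⟩ := hx
      have h1 : ∀ i, LinearMap.trace k V (ρ (g i)⁻¹ * ρ a) =
          LinearMap.trace k V (ρ (g i) * ρ a⁻¹) := fun i => by
        rw [← map_mul, ← htr ((g i)⁻¹ * a), mul_inv_rev, inv_inv, map_mul, LinearMap.trace_mul_comm]
      have h2 := congrArg (fun z => LinearMap.trace k V (z * ρ a⁻¹)) h0
      simp only [Finset.sum_mul, smul_mul_assoc, map_sum, map_smul, zero_mul, map_zero] at h2 ⊢
      simp only [h1]
      exact h2
    | zero => simp
    | add x y _ _ hx hy => rw [mul_add, map_add, hx, hy, add_zero]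
    | smul a x _ hx => rw [mul_smul_comm, map_smul, hx, smul_zero]
  generalize (∑ i ∈ s, c i • ρ (g i)⁻¹) = Z at hkey ⊢
  let b := Module.finBasis k V
  refine (LinearMap.toMatrix b b).injective (Matrix.ext fun i j => ?_)
  have h := hkey (Matrix.toLin b b (Matrix.single j i 1))
  rw [LinearMap.trace_eq_matrix_trace k b, LinearMap.toMatrix_mul, LinearMap.toMatrix_toLin] at h
  simpa [Matrix.trace, Matrix.mul_apply, Matrix.single_apply, ite_and, Finset.sum_ite_eq] using h

end Cfsg.Agent.Lib.UniqueDegree79
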