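import Cfsg.Agent.Lib.UniqueDegree79.Invol
import Cfsg.Agent.Lib.UniqueDegree79.Schur
import Cfsg.Agent.Lib.UniqueDegree79.Block
import Mathlib.LinearAlgebra.Projection
import Mathlib.GroupTheory.GroupAction.Quotient
import Mathlib.Algebra.CharP.Basic
import Mathlib.Algebra.Polynomial.AlgebraMap

/-!
# Green correspondence by hand

`P` meets its conjugates trivially, so an endomorphism commuting with `N(P)`, summed over the
cosets of `N(P)`, changes on fixed vectors of `P` only by sums over `P`.  An irreducible module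
then is a single Jordan block as soon as the sum over `P` vanishes.
-/

namespace Cfsg.Agent.Lib.UniqueDegree79

open Subgroup Finset

universe u v w

variable {G : Type u} [Group G] {p : ℕ} [hp : Fact p.Prime] [Fintype G] {P : Sylow p G}
  {E : Subgroup G}

/-- Generators of `P` and `E`, with the exponents of the action. -/
structure Gens (p : ℕ) (P : Sylow p G) (E : Subgroup G) (y x : G) (m M : ℕ) : Prop where
  zP : Subgroup.zpowers y = (P : Subgroup G)
  ord_y : orderOf y = p
  zE : Subgroup.zpowers x = E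
  ord_x : orderOf x = Nat.card E
  conj : x * y * x⁻¹ = y ^ m
  conj' : x⁻¹ * y * x = y ^ M

theorem Hyp.exists_gens (h : Hyp p G P E) : ∃ (y x : G) (m M : ℕ), Gens p P E y x m M := by
  have := isCyclic_of_prime_card h.card_P
  obtain ⟨y₀, hy₀⟩ := IsCyclic.exists_ofOrder_eq_natCard (α := (P : Subgroup G))
  have := h.cyclic
  obtain ⟨x₀, hx₀⟩ := IsCyclic.exists_ofOrder_eq_natCard (α := E)
  have hy : orderOf (y₀ : G) = p := by rw [Subgroup.orderOf_coe, hy₀, h.card_P]
  have hx : orderOf (x₀ : G) = Nat.card E := by rw [Subgroup.orderOf_coe, hx₀]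
  have hzP : Subgroup.zpowers (y₀ : G) = (P : Subgroup G) :=
    Subgroup.eq_of_le_of_card_ge (Subgroup.zpowers_le.2 y₀.2) (by rw [h.card_P, Nat.card_zpowers, hy])
  have hzE : Subgroup.zpowers (x₀ : G) = E :=
    Subgroup.eq_of_le_of_card_ge (Subgroup.zpowers_le.2 x₀.2) (by rw [Nat.card_zpowers, hx])
  have hxN : (x₀ : G) ∈ normalizer ((P : Subgroup G) : Set G) :=
    h.sup ▸ Subgroup.mem_sup_right x₀.2
  have hpow : ∀ g ∈ (P : Subgroup G), ∃ n : ℕ, g = (y₀ : G) ^ n := fun g hg => by
    rw [← hzP, ← mem_powers_iff_mem_zpowers] at hg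
    obtain ⟨n, hn⟩ := hg
    exact ⟨n, hn.symm⟩
  obtain ⟨m, hm⟩ := hpow _ ((Subgroup.mem_normalizer_iff.1 hxN _).1 y₀.2)
  obtain ⟨M, hM⟩ := hpow _ ((Subgroup.mem_normalizer_iff.1 (inv_mem hxN) _).1 y₀.2)
  rw [inv_inv] at hM
  exact ⟨y₀, x₀, m, M, hzP, hy, hzE, hx, hm, hM⟩

namespace Gens

variable {y x : G} {m M : ℕ}

theorem mem_y (g : Gens p P E y x m M) : y ∈ (P : Subgroup G) := g.zP ▸ Subgroup.mem_zpowers y

theorem mem_x (g : Gens p P E y x m M) : x ∈ E := g.zE ▸ Subgroup.mem_zpowers x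

theorem x_pow_ne_one (g : Gens p P E y x m M) {j : ℕ} (hj : j ≠ 0) (hje : j < Nat.card E) :
    x ^ j ≠ 1 := fun h => by
  have := Nat.le_of_dvd (Nat.pos_of_ne_zero hj) (g.ord_x ▸ orderOf_dvd_of_pow_eq_one h)
  omega

theorem conj_pow (g : Gens p P E y x m M) (j : ℕ) : x ^ j * y * (x ^ j)⁻¹ = y ^ m ^ j := by
  induction j with
  | zero => simp
  | succ j ih =>
    rw [pow_succ' x, mul_inv_rev, show x * x ^ j * y * ((x ^ j)⁻¹ * x⁻¹) =
      x * (x ^ j * y * (x ^ j)⁻¹) * x⁻¹ by group, ih, ← _root_.conj_pow, g.conj, ← pow_mul,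
      ← pow_succ']

theorem prim (g : Gens p P E y x m M) (h : Hyp p G P E) (k : Type v) [Field k] [CharP k p] :
    IsPrimitiveRoot (m : k) (Nat.card E) := by
  have hy1 : y ≠ 1 := fun h1 => by
    have := g.ord_y
    rw [h1, orderOf_one] at this
    exact hp.out.one_lt.ne this
  have hiff : ∀ j, (m : k) ^ j = 1 ↔ x ^ j * y * (x ^ j)⁻¹ = y := by
    intro j
    rw [g.conj_pow]
    conv_rhs => rhs; rw [← pow_one y]
    rw [pow_eq_pow_iff_modEq, g.ord_y, ← Nat.cast_pow, ← Nat.cast_one (R := k),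
      CharP.natCast_eq_natCast k p]
  refine IsPrimitiveRoot.mk_of_lt _ Nat.card_pos ?_ fun j hj hje hj1 => ?_
  · rw [hiff, ← g.ord_x, pow_orderOf_eq_one, one_mul, inv_one, mul_one]
  · exact hy1 (h.fpf (pow_mem g.mem_x j) (g.x_pow_ne_one (by omega) hje) g.mem_y
      (mul_inv_eq_iff_eq_mul.1 ((hiff j).1 hj1)))

theorem card_ne_zero (g : Gens p P E y x m M) (h : Hyp p G P E) (k : Type v) [Field k]
    [CharP k p] : ((Nat.card E : ℕ) : k) ≠ 0 := by
  rw [Ne, CharP.cast_eq_zero_iff k p]
  intro hd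
  have := Nat.le_of_dvd (by have := h.five; omega) (hd.trans h.dvd)
  have := h.five
  omega

variable {k : Type v} [Field k] {V : Type w} [AddCommGroup V] [Module k V]

theorem map_AY (g : Gens p P E y x m M) (ρ : G →* Module.End k V) (j : ℕ) :
    ρ (x ^ j) * ρ y = ρ y ^ m ^ j * ρ (x ^ j) := by
  rw [← map_pow, ← map_mul, ← map_mul, ← g.conj_pow, inv_mul_cancel_right]

theorem map_YA (g : Gens p P E y x m M) (ρ : G →* Module.End k V) :
    ρ y * ρ x = ρ x * ρ y ^ M := by
  rw [← map_pow, ← map_mul, ← map_mul, ← g.conj']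
  group

theorem map_x_pow (g : Gens p P E y x m M) (ρ : G →* Module.End k V) :
    ρ x ^ Nat.card E = 1 := by rw [← map_pow, ← g.ord_x, pow_orderOf_eq_one, map_one]

theorem sub_one_pow_p (g : Gens p P E y x m M) [CharP k p] (ρ : G →* Module.End k V) :
    (ρ y - 1) ^ p = 0 := by
  have h1 : (Polynomial.X - 1 : Polynomial k) ^ p = Polynomial.X ^ p - 1 := by
    rw [sub_pow_char, one_pow]
  have := congrArg (Polynomial.aeval (ρ y)) h1
  simp only [map_pow, map_sub, Polynomial.aeval_X, map_one] at this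
  rw [this, ← map_pow, ← g.ord_y, pow_orderOf_eq_one, map_one, sub_self]

theorem geo_eq (g : Gens p P E y x m M) [CharP k p] (ρ : G →* Module.End k V) :
    geo (ρ y) p = (ρ y - 1) ^ (p - 1) := by
  have h1 : (Polynomial.X - 1 : Polynomial k) * ∑ i ∈ Finset.range p, Polynomial.X ^ i =
      (Polynomial.X - 1) * (Polynomial.X - 1) ^ (p - 1) := by
    rw [mul_geom_sum, ← pow_succ', Nat.sub_add_cancel hp.out.pos, sub_pow_char, one_pow]
  have h2 := mul_left_cancel₀ (Polynomial.X_sub_C_ne_zero (1 : k) : _) (by simpa using h1)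
  have := congrArg (Polynomial.aeval (ρ y)) h2
  simpa [geo, map_sum] using this

theorem sum_P (g : Gens p P E y x m M) [CharP k p] (ρ : G →* Module.End k V)
    [Fintype (P : Subgroup G)] :
    ∑ u : (P : Subgroup G), ρ (u : G) = (ρ y - 1) ^ (p - 1) := by
  classical
  rw [← g.geo_eq ρ, geo]
  refine (Finset.sum_nbij (fun i => (⟨y ^ i, pow_mem g.mem_y i⟩ : (P : Subgroup G)))
    (fun _ _ => Finset.mem_univ _) ?_ ?_ fun i _ => by rw [map_pow]).symm
  · intro i hi j hj hij
    rw [Finset.coe_range, ← g.ord_y] at hi hj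
    exact pow_injOn_Iio_orderOf hi hj (congrArg Subtype.val hij)
  · rintro ⟨u, hu⟩ -
    rw [← g.zP, ← mem_powers_iff_mem_zpowers, mem_powers_iff_mem_range_orderOf, g.ord_y,
      Finset.mem_image] at hu
    obtain ⟨i, hi, hi'⟩ := hu
    exact ⟨i, hi, Subtype.ext hi'⟩

set_option maxHeartbeats 1000000 in
/-- An endomorphism commuting with `P` and `E`, averaged over the cosets of the normalizer. -/
theorem green (g : Gens p P E y x m M) (h : Hyp p G P E) [CharP k p] (ρ : G →* Module.End k V)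
    (f : Module.End k V) (hfy : Commute f (ρ y)) (hfx : Commute f (ρ x)) :
    ∃ F : Module.End k V, (∀ a, ρ a * F = F * ρ a) ∧
      F ∈ Submodule.span k (Set.range fun a => ρ a * f * ρ a⁻¹) ∧
      ∀ u, ρ y u = u → ∃ z, F u - f u = ((ρ y - 1) ^ (p - 1)) z := by
  classical
  let K : Subgroup G :=
    { carrier := {a | Commute f (ρ a)}
      one_mem' := by simp
      mul_mem' := fun {a b} ha hb => by
        simp only [Set.mem_setOf_eq, map_mul] at *; exact ha.mul_right hb
      inv_mem' := fun {a} ha => by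
        simp only [Set.mem_setOf_eq] at *
        show f * ρ a⁻¹ = ρ a⁻¹ * f
        calc f * ρ a⁻¹ = ρ a⁻¹ * (ρ a * f) * ρ a⁻¹ := by
              rw [← mul_assoc, ← map_mul, inv_mul_cancel, map_one, one_mul]
          _ = ρ a⁻¹ * (f * ρ a) * ρ a⁻¹ := by rw [ha.eq]
          _ = ρ a⁻¹ * f := by
              rw [mul_assoc, mul_assoc f, ← map_mul, mul_inv_cancel, map_one, mul_one] }
  let N := normalizer ((P : Subgroup G) : Set G)
  have hNK : N ≤ K := by
    show normalizer ((P : Subgroup G) : Set G) ≤ K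
    rw [← h.sup, sup_le_iff, ← g.zP, ← g.zE, Subgroup.zpowers_le, Subgroup.zpowers_le]
    exact ⟨hfy, hfx⟩
  let c : G → Module.End k V := fun a => ρ a * f * ρ a⁻¹
  have hc : ∀ a n, n ∈ N → c (a * n) = c a := fun a n hn => by
    have hn' : ρ n * f = f * ρ n := (hNK hn : Commute f (ρ n)).eq.symm
    simp only [c, map_mul, mul_inv_rev]
    rw [mul_assoc (ρ a) (ρ n) f, hn', ← mul_assoc (ρ a) f (ρ n), mul_assoc (ρ a * f) (ρ n),
      ← mul_assoc (ρ n), ← map_mul, mul_inv_cancel, map_one, one_mul]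
  let H : G ⧸ N → Module.End k V := fun q => c q.out
  have hH : ∀ a : G, H (a : G ⧸ N) = c a := fun a => by
    obtain ⟨n, hn⟩ := QuotientGroup.mk_out_eq_mul N a
    show c _ = _
    rw [hn, hc a n n.2]
  have hHsmul : ∀ (a : G) (q : G ⧸ N), H (a • q) = ρ a * H q * ρ a⁻¹ := by
    intro a q
    induction q using QuotientGroup.induction_on with
    | H b =>
      rw [MulAction.Quotient.smul_mk, hH, smul_eq_mul, hH]
      simp only [c, map_mul, mul_inv_rev, mul_assoc]
  refine ⟨∑ q, H q, fun a => ?_,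
    Submodule.sum_mem _ fun q _ => Submodule.subset_span ⟨q.out, rfl⟩, fun u hu => ?_⟩
  · rw [Finset.mul_sum, Finset.sum_mul]
    refine Fintype.sum_equiv (MulAction.toPerm a) _ _ fun q => ?_
    rw [MulAction.toPerm_apply, hHsmul, mul_assoc, ← map_mul, inv_mul_cancel, map_one, mul_one]
  · have hfix : ∀ w ∈ (P : Subgroup G), ρ w u = u := by
      intro w hw
      rw [← g.zP, ← mem_powers_iff_mem_zpowers] at hw
      obtain ⟨i, rfl⟩ := hw
      show ρ (y ^ i) u = u
      induction i with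
      | zero => simp
      | succ i ih => rw [pow_succ, map_mul, Module.End.mul_apply, hu, ih]
    obtain ⟨q₀, hq₀⟩ : ∃ q₀, q₀ = ((1 : G) : G ⧸ N) := ⟨_, rfl⟩
    have hfree : ∀ (w : (P : Subgroup G)) (q : G ⧸ N), q ≠ q₀ → w • q = q → w = 1 := by
      intro w q
      induction q using QuotientGroup.induction_on with
      | H b =>
        intro hb hw
        by_contra hw1
        refine hb ?_
        rw [hq₀, QuotientGroup.eq, mul_one, inv_mem_iff]
        have hw' : ((w : G) • (b : G ⧸ N)) = (b : G ⧸ N) := hw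
        rw [MulAction.Quotient.smul_mk, QuotientGroup.eq, smul_eq_mul] at hw'
        have hmem : b⁻¹ * (w : G) * b ∈ N := by
          simpa [mul_assoc] using inv_mem hw'
        have hwp : orderOf (w : G) = p := by
          have hd := h.card_P ▸ Subgroup.orderOf_dvd_natCard _ w.2
          exact (hp.out.eq_one_or_self_of_dvd _ hd).resolve_left fun h1 =>
            hw1 (Subtype.ext (orderOf_eq_one_iff.1 h1))
        have hP' : IsPGroup p (Subgroup.zpowers (b⁻¹ * (w : G) * b)) := by
          refine IsPGroup.of_card (n := 1) ?_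
          have h2 := Involutions.Basic.orderOf_conj_eq b⁻¹ (w : G)
          rw [inv_inv] at h2
          rw [Nat.card_zpowers, pow_one]
          exact h2.trans hwp
        have hle : Subgroup.zpowers (b⁻¹ * (w : G) * b) ≤ (P : Subgroup G) := by
          have hsup := P.is_maximal' (IsPGroup.to_sup_of_normal_right' hP' P.2
            (Subgroup.zpowers_le.2 hmem)) le_sup_right
          exact le_sup_left.trans hsup.le
        have hwz : Subgroup.zpowers (w : G) = (P : Subgroup G) :=
          Subgroup.eq_of_le_of_card_ge (Subgroup.zpowers_le.2 w.2)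
            (by rw [h.card_P, Nat.card_zpowers, hwp])
        have hmap : (P : Subgroup G).map (MulAut.conj b⁻¹).toMonoidHom ≤ (P : Subgroup G) := by
          rw [← hwz, MonoidHom.map_zpowers]
          refine Subgroup.zpowers_le.2 (hwz.symm ▸ hle ?_)
          simpa using Subgroup.mem_zpowers (b⁻¹ * (w : G) * b)
        have heq := Subgroup.eq_of_le_of_card_ge hmap
          (by rw [Subgroup.card_map_of_injective (MulAut.conj b⁻¹).injective])
        rw [← inv_mem_iff]
        refine Subgroup.mem_normalizer_iff.2 fun a => ⟨fun ha => heq ▸ ⟨a, ha, rfl⟩, fun ha => ?_⟩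
        obtain ⟨a', ha', e⟩ := heq.ge ha
        exact ((MulAut.conj b⁻¹).injective e) ▸ ha'
    let ind : G ⧸ N → k := fun q =>
      if (Quotient.mk (MulAction.orbitRel (P : Subgroup G) (G ⧸ N)) q).out = q then 1 else 0
    have hq₀w : ∀ w : (P : Subgroup G), w • q₀ = q₀ := fun w => by
      show ((w : G) • q₀) = q₀
      rw [hq₀, MulAction.Quotient.smul_mk, QuotientGroup.eq, smul_eq_mul, mul_one, mul_one,
        inv_mem_iff]
      exact Subgroup.le_normalizer w.2
    have hind : ∀ q, q ≠ q₀ → ∑ w : (P : Subgroup G), ind (w • q) = 1 := by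
      intro q hq
      obtain ⟨w₀, hw₀⟩ : (Quotient.mk (MulAction.orbitRel (P : Subgroup G) (G ⧸ N)) q).out ∈
          MulAction.orbit (P : Subgroup G) q := MulAction.orbitRel_apply.1 (Quotient.exact
            (Quotient.out_eq (Quotient.mk (MulAction.orbitRel (P : Subgroup G) (G ⧸ N)) q)))
      simp only at hw₀
      have hmk : ∀ w : (P : Subgroup G),
          Quotient.mk (MulAction.orbitRel (P : Subgroup G) (G ⧸ N)) (w • q) =
            Quotient.mk _ q := fun w => Quotient.sound ⟨w, rfl⟩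
      rw [Finset.sum_eq_single w₀]
      · simp only [ind, hmk]
        rw [if_pos hw₀.symm]
      · intro w _ hw
        simp only [ind, hmk]
        rw [if_neg fun e => hw ?_]
        have := hfree (w₀⁻¹ * w) q hq (by rw [mul_smul, ← e, ← hw₀, inv_smul_smul])
        exact (inv_mul_eq_one.1 this).symm
      · exact fun hh => absurd (Finset.mem_univ _) hh
    refine ⟨∑ q ∈ Finset.univ.erase q₀, ind q • H q u, ?_⟩
    rw [← g.sum_P ρ, LinearMap.sum_apply, LinearMap.sum_apply,
      ← Finset.add_sum_erase _ _ (Finset.mem_univ q₀)]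
    have h0 : H q₀ u = f u := by rw [hq₀, hH]; simp [c]
    rw [h0, add_sub_cancel_left]
    have hHu : ∀ (w : (P : Subgroup G)) (q : G ⧸ N), ρ (w : G) (H q u) = H (w • q) u := by
      intro w q
      show ρ (w : G) (H q u) = H ((w : G) • q) u
      rw [hHsmul]
      exact (congrArg (fun z => ρ (w : G) (H q z)) (hfix _ (inv_mem w.2))).symm
    have e1 : ∀ w : (P : Subgroup G), ρ (w : G) (∑ q ∈ Finset.univ.erase q₀, ind q • H q u) =
        ∑ q ∈ Finset.univ.erase q₀, ind (w⁻¹ • q) • H q u := by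
      intro w
      rw [map_sum]
      refine Finset.sum_bij (fun q _ => w • q) ?_ ?_ ?_ fun q _ => by
        rw [map_smul, hHu, inv_smul_smul]
      · intro q hq
        refine Finset.mem_erase.2 ⟨fun e => (Finset.mem_erase.1 hq).1 ?_, Finset.mem_univ _⟩
        rw [← inv_smul_smul w q, e, hq₀w]
      · exact fun a _ b _ e => MulAction.injective w e
      · intro q hq
        exact ⟨w⁻¹ • q, Finset.mem_erase.2 ⟨fun e => (Finset.mem_erase.1 hq).1
          (by rw [← smul_inv_smul w q, e, hq₀w]), Finset.mem_univ _⟩, smul_inv_smul w q⟩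
    simp only [e1]
    rw [Finset.sum_comm]
    refine Finset.sum_congr rfl fun q hq => ?_
    rw [← Finset.sum_smul,
      Fintype.sum_equiv (Equiv.inv (P : Subgroup G)) (fun w => ind (w⁻¹ • q)) (fun w => ind (w • q))
        (fun w => rfl), hind q (Finset.mem_erase.1 hq).1, one_smul]

variable [FiniteDimensional k V]

/-- Data of a longest chain for a representation of `G`. -/
theorem exists_chain (g : Gens p P E y x m M) (h : Hyp p G P E) [CharP k p] [Nontrivial V]
    (ρ : G →* Module.End k V) :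
    ∃ (n : ℕ) (v : V) (a : ℕ) (C : Submodule k V), n + 1 ≤ p ∧ n + 1 ≤ Module.finrank k V ∧
      (ρ y - 1) ^ (n + 1) = 0 ∧ ρ x v = ((m : k) ^ a) • v ∧ ((ρ y - 1) ^ n) v ≠ 0 ∧
      IsCompl (Submodule.span k (Set.range fun i : Fin (n + 1) => ((ρ y - 1) ^ (i : ℕ)) v)) C ∧
      (∀ u ∈ C, ρ y u ∈ C) ∧ (∀ u ∈ C, ρ x u ∈ C) := by
  classical
  have hex : ∃ n, (ρ y - 1) ^ (n + 1) = 0 :=
    ⟨p - 1, by rw [Nat.sub_add_cancel hp.out.pos, g.sub_one_pow_p ρ]⟩
  have hn1 := Nat.find_spec hex
  have hn : (ρ y - 1) ^ Nat.find hex ≠ 0 := by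
    rcases Nat.eq_zero_or_pos (Nat.find hex) with e | e
    · rw [e, pow_zero]; exact one_ne_zero
    · intro h0
      refine Nat.find_min hex (m := Nat.find hex - 1) (by omega) ?_
      rwa [Nat.sub_add_cancel e]
  have hAY : ρ x * ρ y = ρ y ^ m * ρ x := by
    have := g.map_AY ρ 1; rwa [pow_one, pow_one] at this
  obtain ⟨v, a, C, hva, hvn, hC, hCy, hCx⟩ := exists_block hAY (g.map_YA ρ) (g.map_x_pow ρ)
    (g.prim h k) (g.card_ne_zero h k) hn1 hn
  refine ⟨_, v, a, C, ?_, ?_, hn1, hva, hvn, hC, hCy, hCx⟩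
  · by_contra hlt
    exact hn (pow_eq_zero_of_le (by omega) (g.sub_one_pow_p ρ))
  · have := LinearIndependent.fintype_card_le_finrank (chain_linearIndependent hn1 hvn)
    rwa [Fintype.card_fin] at this

theorem apply_eigen_pow (g : Gens p P E y x m M) (ρ : G →* Module.End k V) {v : V} {μ : k}
    (hv : ρ x v = μ • v) (j : ℕ) : ρ (x ^ j) v = μ ^ j • v := by
  induction j with
  | zero => simp
  | succ j ih => rw [pow_succ', map_mul, Module.End.mul_apply, ih, map_smul, hv, smul_smul, ← pow_succ]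

/-- If the sum over `P` vanishes, the complement of a longest chain is trivial. -/
theorem compl_eq_bot (g : Gens p P E y x m M) (h : Hyp p G P E) [CharP k p] [IsAlgClosed k]
    {ρ : G →* Module.End k V} (hρ : Irr ρ) (hT : (ρ y - 1) ^ (p - 1) = 0) {n a : ℕ} {v : V}
    {C : Submodule k V} (hn1 : (ρ y - 1) ^ (n + 1) = 0) (hva : ρ x v = ((m : k) ^ a) • v)
    (hvn : ((ρ y - 1) ^ n) v ≠ 0)
    (hC : IsCompl (Submodule.span k (Set.range fun i : Fin (n + 1) => ((ρ y - 1) ^ (i : ℕ)) v)) C)
    (hCy : ∀ u ∈ C, ρ y u ∈ C) (hCx : ∀ u ∈ C, ρ x u ∈ C) : C = ⊥ := by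
  classical
  by_contra hne
  set S := Submodule.span k (Set.range fun i : Fin (n + 1) => ((ρ y - 1) ^ (i : ℕ)) v) with hS
  have hXS : ∀ u ∈ S, (ρ y - 1) u ∈ S := by
    intro u hu
    induction hu using Submodule.span_induction with
    | mem z hz =>
      obtain ⟨i, rfl⟩ := hz
      simp only
      rw [← Module.End.mul_apply, ← pow_succ']
      by_cases hi : (i : ℕ) + 1 < n + 1
      · exact Submodule.subset_span ⟨⟨(i : ℕ) + 1, hi⟩, rfl⟩
      · rw [pow_eq_zero_of_le (not_lt.1 hi) hn1, LinearMap.zero_apply]; exact zero_mem _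
    | zero => simp
    | add a b _ _ ha hb => rw [map_add]; exact add_mem ha hb
    | smul c a _ ha => rw [map_smul]; exact Submodule.smul_mem _ c ha
  have hyS : ∀ u ∈ S, ρ y u ∈ S := fun u hu => by
    simpa using add_mem (hXS u hu) hu
  have hpS : ∀ i : ℕ, ∀ u ∈ S, ((ρ y - 1) ^ i) u ∈ S := by
    intro i
    induction i with
    | zero => exact fun u hu => by simpa using hu
    | succ i ih =>
      intro u hu
      rw [pow_succ', Module.End.mul_apply]
      exact hXS _ (ih u hu)
  have hxS : ∀ u ∈ S, ρ x u ∈ S := by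
    intro u hu
    induction hu using Submodule.span_induction with
    | mem z hz =>
      obtain ⟨i, rfl⟩ := hz
      have hAY : ρ x * ρ y = ρ y ^ m * ρ x := by
        have := g.map_AY ρ 1; rwa [pow_one, pow_one] at this
      simp only
      rw [← Module.End.mul_apply, mul_sub_one_pow hAY, Module.End.mul_apply, hva, map_smul,
        Module.End.mul_apply]
      refine Submodule.smul_mem _ _ (hpS _ _ ?_)
      have hgeo : ∀ q, ∀ u ∈ S, (geo (ρ y) m ^ q) u ∈ S := by
        intro q
        induction q with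
        | zero => exact fun u hu => by simpa using hu
        | succ q ihq =>
          intro u hu
          rw [pow_succ', Module.End.mul_apply]
          show (∑ l ∈ Finset.range m, ρ y ^ l) ((geo (ρ y) m ^ q) u) ∈ S
          rw [LinearMap.sum_apply]
          refine Submodule.sum_mem _ fun l _ => ?_
          clear * - hyS ihq hu
          induction l with
          | zero => simpa using ihq u hu
          | succ l ihl => rw [pow_succ', Module.End.mul_apply]; exact hyS _ ihl
      exact hgeo _ _ (Submodule.subset_span ⟨0, by simp⟩)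
    | zero => simp
    | add a b _ _ ha hb => rw [map_add]; exact add_mem ha hb
    | smul c a _ ha => rw [map_smul]; exact Submodule.smul_mem _ c ha
  obtain ⟨f, hfS, hfC⟩ : ∃ f : Module.End k V, (∀ u ∈ S, f u = u) ∧ (∀ u ∈ C, f u = 0) :=
    ⟨S.projection C hC, fun u hu => Submodule.projection_apply_left hC ⟨u, hu⟩,
      fun u hu => (Submodule.projection_apply_eq_zero_iff hC).2 hu⟩
  have hcomm : ∀ z : Module.End k V, (∀ u ∈ S, z u ∈ S) → (∀ u ∈ C, z u ∈ C) → Commute f z := by
    intro z hzS hzC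
    refine LinearMap.ext fun u => ?_
    obtain ⟨s, hs, c, hc, rfl⟩ :=
      Submodule.mem_sup.1 (hC.sup_eq_top ▸ Submodule.mem_top : u ∈ S ⊔ C)
    simp only [Module.End.mul_apply, map_add, hfS s hs, hfC c hc, map_zero, add_zero,
      hfS _ (hzS s hs), hfC _ (hzC c hc)]
  obtain ⟨F, hF, -, hF'⟩ := g.green h ρ f (hcomm _ hyS hCy) (hcomm _ hxS hCx)
  obtain ⟨c, hc⟩ := hρ.exists_scalar hF
  have key : ∀ u, ρ y u = u → f u = c • u := by
    intro u hu
    obtain ⟨z, hz⟩ := hF' u hu
    rw [hT, LinearMap.zero_apply, sub_eq_zero, hc] at hz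
    exact hz.symm
  have hfix : ∀ u, (ρ y - 1) u = 0 → ρ y u = u := fun u hu => by
    rwa [LinearMap.sub_apply, Module.End.one_apply, sub_eq_zero] at hu
  have hw := key _ (hfix (((ρ y - 1) ^ n) v)
    (by rw [← Module.End.mul_apply, ← pow_succ', hn1, LinearMap.zero_apply]))
  rw [hfS _ (Submodule.subset_span ⟨Fin.last n, by simp⟩)] at hw
  have hc1 : c = 1 := by
    have h2 : (c - 1) • ((ρ y - 1) ^ n) v = 0 := by rw [sub_smul, one_smul, ← hw, sub_self]
    exact sub_eq_zero.1 ((smul_eq_zero.1 h2).resolve_right hvn)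
  obtain ⟨u, huC, hu0⟩ := Submodule.exists_mem_ne_zero_of_ne_bot hne
  have hexu : ∃ q : ℕ, ((ρ y - 1) ^ (q + 1)) u = 0 := ⟨n, by rw [hn1, LinearMap.zero_apply]⟩
  obtain ⟨u', hu'⟩ : ∃ u', u' = ((ρ y - 1) ^ Nat.find hexu) u := ⟨_, rfl⟩
  have hu'C : u' ∈ C := by
    rw [hu']
    clear * - hCy huC
    induction Nat.find hexu with
    | zero => simpa using huC
    | succ q ihq =>
      rw [pow_succ', Module.End.mul_apply, LinearMap.sub_apply, Module.End.one_apply]
      exact sub_mem (hCy _ ihq) ihq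
  have hu'0 : u' ≠ 0 := by
    rw [hu']
    rcases Nat.eq_zero_or_pos (Nat.find hexu) with e | e
    · rw [e, pow_zero]; simpa using hu0
    · intro h0
      refine Nat.find_min hexu (m := Nat.find hexu - 1) (by omega) ?_
      rwa [Nat.sub_add_cancel e]
  have h1 := key u' (hfix u' (by
    rw [hu', ← Module.End.mul_apply, ← pow_succ']; exact Nat.find_spec hexu))
  rw [hfC _ hu'C, hc1, one_smul] at h1
  exact hu'0 h1.symm

/-- An irreducible representation of dimension at most `p` is a single chain. -/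
theorem single_block (g : Gens p P E y x m M) (h : Hyp p G P E) [CharP k p] [IsAlgClosed k]
    {ρ : G →* Module.End k V} (hρ : Irr ρ) (hd : Module.finrank k V ≤ p) :
    ∃ (v : V) (a : ℕ), ρ x v = ((m : k) ^ a) • v ∧
      (ρ y - 1) ^ Module.finrank k V = 0 ∧ ((ρ y - 1) ^ (Module.finrank k V - 1)) v ≠ 0 ∧
      (∀ j, LinearMap.trace k V (ρ (x ^ j)) =
        ∑ i ∈ Finset.range (Module.finrank k V), ((m : k) ^ (a + i)) ^ j) ∧
      LinearMap.det (ρ x) = ∏ i ∈ Finset.range (Module.finrank k V), (m : k) ^ (a + i) := by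
  classical
  have := hρ.1
  obtain ⟨n, v, a, C, hnp, hnd, hn1, hva, hvn, hC, hCy, hCx⟩ := g.exists_chain h ρ
  have hli := chain_linearIndependent hn1 hvn
  have hCfin : (n + 1) + Module.finrank k C = Module.finrank k V := by
    rw [← Submodule.finrank_add_eq_of_isCompl hC, finrank_span_eq_card hli, Fintype.card_fin]
  have hbot : C = ⊥ := by
    by_cases hn : n + 1 < p
    · exact g.compl_eq_bot h hρ (pow_eq_zero_of_le (by omega) hn1) hn1 hva hvn hC hCy hCx
    · exact Submodule.finrank_eq_zero.1 (by omega)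
  subst hbot
  have hdim : Module.finrank k V = n + 1 := by rw [← hCfin, finrank_bot, add_zero]
  rw [hdim]
  have htop := hC.sup_eq_top
  rw [sup_bot_eq] at htop
  let b₀ : Module.Basis (Fin (n + 1)) k V := Module.Basis.mk hli htop.ge
  have hb₀ : ∀ i : Fin (n + 1), b₀ i = ((ρ y - 1) ^ (i : ℕ)) v := fun i => by
    simp [b₀, Module.Basis.mk_apply]
  refine ⟨v, a, hva, hn1, by simpa using hvn, fun j => ?_, ?_⟩
  · let b : Module.Basis (Fin (n + 1) ⊕ Empty) k V := b₀.reindex (Equiv.sumEmpty _ _).symm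
    have := trace_chain b (fun i => by simp [b, hb₀]) (fun l => l.elim) hn1 (g.map_AY ρ j)
      (g.apply_eigen_pow ρ hva j) Empty.elim (fun l => l.elim)
    rw [this]
    simp only [Finset.univ_eq_empty, Finset.sum_empty, add_zero, Nat.cast_pow]
    refine Finset.sum_congr rfl fun i _ => ?_
    rw [pow_add, mul_pow, ← pow_mul _ j i, mul_comm j i, pow_mul]
  · rw [det_chain b₀ hb₀ hn1 (by have := g.map_AY ρ 1; rwa [pow_one, pow_one] at this) hva]
    exact Finset.prod_congr rfl fun i _ => (pow_add _ _ _).symm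

/-- A representation of dimension `p + 1` that is irreducible has a chain of length `p` and a
fixed line; the eigenvalue on the socle equals that of the generator of the chain. -/
theorem big_block (g : Gens p P E y x m M) (h : Hyp p G P E) [CharP k p] [IsAlgClosed k]
    {ρ : G →* Module.End k V} (hρ : Irr ρ) (hd : Module.finrank k V = p + 1) :
    ∃ μ κ : k, (∀ j, ¬ Nat.card E ∣ j → LinearMap.trace k V (ρ (x ^ j)) = μ ^ j + κ ^ j) ∧
      ρ x * (ρ y - 1) ^ (p - 1) = μ • (ρ y - 1) ^ (p - 1) ∧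
      (ρ y - 1) ^ (p - 1) ≠ 0 ∧
      ρ x * (ρ y - 1) ^ (p - 1) = (ρ y - 1) ^ (p - 1) * ρ x := by
  classical
  have := hρ.1
  obtain ⟨n, v, a, C, hnp, hnd, hn1, hva, hvn, hC, hCy, hCx⟩ := g.exists_chain h ρ
  have hli := chain_linearIndependent hn1 hvn
  have hCfin : (n + 1) + Module.finrank k C = Module.finrank k V := by
    rw [← Submodule.finrank_add_eq_of_isCompl hC, finrank_span_eq_card hli, Fintype.card_fin]
  -- the chain is longest possible
  have hn : n = p - 1 := by
    by_contra hne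
    have hb := g.compl_eq_bot h hρ (pow_eq_zero_of_le (by omega) hn1) hn1 hva hvn hC hCy hCx
    rw [hb, finrank_bot] at hCfin
    omega
  have hpos := hp.out.pos
  obtain ⟨bC⟩ : Nonempty (Module.Basis (Fin 1) k C) :=
    ⟨Module.finBasisOfFinrankEq k C (by omega)⟩
  let b : Module.Basis (Fin (n + 1) ⊕ Fin 1) k V :=
    ((Module.Basis.span hli).prod bC).map (Submodule.prodEquivOfIsCompl _ _ hC)
  have hbl : ∀ i : Fin (n + 1), b (Sum.inl i) = ((ρ y - 1) ^ (i : ℕ)) v := fun i => by
    simp [b, Module.Basis.span_apply]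
  have hbr : ∀ l, b (Sum.inr l) = (bC l : V) := fun l => by simp [b]
  have hline : ∀ (z : Module.End k V), (∀ u ∈ C, z u ∈ C) → ∃ c : k, z (bC 0 : V) = c • (bC 0 : V) := by
    intro z hz
    refine ⟨bC.repr ⟨_, hz _ (bC 0).2⟩ 0, ?_⟩
    have h1 := bC.sum_repr ⟨_, hz _ (bC 0).2⟩
    rw [Fin.sum_univ_one] at h1
    exact (congrArg Subtype.val h1).symm
  obtain ⟨c, hc⟩ := hline (ρ y - 1) (fun u hu => by
    rw [LinearMap.sub_apply, Module.End.one_apply]; exact sub_mem (hCy u hu) hu)
  have hc0 : c = 0 := by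
    have hpow : ∀ q, ((ρ y - 1) ^ q) (bC 0 : V) = c ^ q • (bC 0 : V) := by
      intro q
      induction q with
      | zero => simp
      | succ q ih => rw [pow_succ', Module.End.mul_apply, ih, map_smul, hc, smul_smul, ← pow_succ]
    have h1 := hpow (n + 1)
    rw [hn1, LinearMap.zero_apply, eq_comm, smul_eq_zero] at h1
    refine (pow_eq_zero_iff (Nat.succ_ne_zero n)).1 (h1.resolve_right fun h2 => ?_)
    exact bC.ne_zero 0 (Subtype.ext h2)
  obtain ⟨κ, hκ⟩ := hline (ρ x) hCx
  have hu0 : ∀ l, (ρ y - 1) (b (Sum.inr l)) = 0 := fun l => by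
    rw [Subsingleton.elim l 0, hbr, hc, hc0, zero_smul]
  obtain ⟨μ, hμ⟩ : ∃ μ, μ = (m : k) ^ a := ⟨_, rfl⟩
  rw [← hμ] at hva
  have hζ := g.prim h k
  have hpe : ∀ z : k, z ^ Nat.card E = 1 → z ^ (p - 1) = 1 := fun z hz => by
    obtain ⟨t, ht⟩ := h.dvd
    rw [ht, pow_mul, hz, one_pow]
  have hAY : ρ x * ρ y = ρ y ^ m * ρ x := by
    have := g.map_AY ρ 1; rwa [pow_one, pow_one] at this
  refine ⟨μ, κ, fun j hj => ?_, ?_, ?_, ?_⟩
  · have hκj := g.apply_eigen_pow ρ hκ j
    have htr := trace_chain b hbl hu0 hn1 (g.map_AY ρ j) (g.apply_eigen_pow ρ hva j)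
      (fun _ => κ ^ j) (fun l => by rw [Subsingleton.elim l 0, hbr]; exact hκj)
    rw [htr, Fin.sum_univ_one, hn, Nat.sub_add_cancel hpos, ← Finset.mul_sum, Nat.cast_pow]
    have hz : (m : k) ^ j ≠ 1 := fun h1 => hj (hζ.dvd_of_pow_eq_one j h1)
    have hze : ((m : k) ^ j) ^ Nat.card E = 1 := by
      rw [← pow_mul, mul_comm, pow_mul, hζ.pow_eq_one, one_pow]
    have hzp : ((m : k) ^ j) ^ p = (m : k) ^ j := by
      conv_lhs => rw [← Nat.sub_add_cancel hpos, pow_succ, hpe _ hze, one_mul]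
    rw [geom_sum_eq hz, hzp, div_self (sub_ne_zero.2 hz), mul_one]
  · refine b.ext fun s => ?_
    rcases s with i | l
    · rw [Module.End.mul_apply, hbl, LinearMap.smul_apply,
        ← Module.End.mul_apply ((ρ y - 1) ^ (p - 1)) ((ρ y - 1) ^ (i : ℕ)), ← pow_add]
      by_cases hi : (i : ℕ) = 0
      · rw [hi, Nat.add_zero, ← hn]
        obtain ⟨z, hz⟩ := apply_chain hAY hva n
        rw [hn1, LinearMap.zero_apply, add_zero] at hz
        rw [← Module.End.mul_apply, Module.End.mul_apply, hz, hn, hpe _ hζ.pow_eq_one, mul_one]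
      · rw [pow_eq_zero_of_le (by omega) hn1, LinearMap.zero_apply, map_zero, smul_zero]
    · have h0 : ((ρ y - 1) ^ (p - 1)) (b (Sum.inr l)) = 0 := by
        rw [show p - 1 = p - 2 + 1 by have := h.five; omega, pow_succ, Module.End.mul_apply, hu0,
          map_zero]
      rw [Module.End.mul_apply, LinearMap.smul_apply, h0, map_zero, smul_zero]
  · intro h0
    refine hvn ?_
    rw [hn, h0, LinearMap.zero_apply]
  · obtain ⟨W, hW⟩ := geo_pow (ρ y) m (p - 1)
    rw [hpe _ hζ.pow_eq_one, one_smul] at hW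
    rw [mul_sub_one_pow hAY, hW, mul_add, mul_one, ← mul_assoc, ← pow_succ,
      Nat.sub_add_cancel hpos, g.sub_one_pow_p ρ, zero_mul, add_zero]

end Gens

end Cfsg.Agent.Lib.UniqueDegree79
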