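import Cfsg.Agent.Lib.UniqueDegree79.Setup
import Cfsg.Agent.Lib.BSW.Setup
import Cfsg.Agent.Lib.Fusion.Thompson
import Cfsg.Agent.S0112
import Cfsg.Agent.S0113

/-!
# Involutions: every element of `N(E) \ E` inverts `E`

For odd parts this is Burnside's transfer theorem.  If `#E` is even, a transfer argument on a
Sylow 2-subgroup gives the hypothesis of the Brauer–Suzuki–Wall theorem.
-/

namespace Cfsg.Agent.Lib.UniqueDegree79

open Subgroup

universe u

variable {G : Type u} [Group G]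

/-- In a cyclic subgroup a subgroup contains everything whose order divides its order. -/
theorem mem_of_orderOf_dvd [Finite G] {E I : Subgroup G} (hE : IsCyclic E) (hI : I ≤ E) {y : G}
    (hy : y ∈ E) (hd : orderOf y ∣ Nat.card I) : y ∈ I := by
  classical
  let := Fintype.ofFinite E
  let S : Finset E := Finset.univ.filter fun a => a ^ Nat.card I = 1
  let T : Finset E := Finset.univ.filter fun a => (a : G) ∈ I
  have hTS : T ⊆ S := fun a ha => by
    simp only [T, Finset.mem_filter, Finset.mem_univ, true_and] at ha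
    simp only [S, Finset.mem_filter, Finset.mem_univ, true_and]
    refine Subtype.ext ?_
    rw [SubmonoidClass.coe_pow, OneMemClass.coe_one]
    exact congrArg Subtype.val (pow_card_eq_one' (G := I) (x := ⟨a, ha⟩))
  have hT : T.card = Nat.card I := by
    rw [← Nat.card_congr (Subgroup.subgroupOfEquivOfLe hI).toEquiv]
    show _ = Nat.card {a : E // (a : G) ∈ I}
    rw [Nat.card_eq_fintype_card, Fintype.card_subtype]
  have hS : S.card ≤ T.card :=
    hT ▸ IsCyclic.card_pow_eq_one_le (α := E) Nat.card_pos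
  have hyS : (⟨y, hy⟩ : E) ∈ S := by
    simp only [S, Finset.mem_filter, Finset.mem_univ, true_and]
    exact orderOf_dvd_iff_pow_eq_one.1 (by rwa [Subgroup.orderOf_mk])
  rw [← Finset.eq_of_subset_of_card_le hTS hS] at hyS
  simpa [T] using hyS

variable {p : ℕ} [hp : Fact p.Prime] [Finite G] {P : Sylow p G} {E : Subgroup G}

namespace Hyp

theorem comm (h : Hyp p G P E) {a b : G} (ha : a ∈ E) (hb : b ∈ E) : a * b = b * a := by
  have := h.cyclic
  exact congrArg Subtype.val (mul_comm' (⟨a, ha⟩ : E) ⟨b, hb⟩)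

theorem prime_dvd_card (h : Hyp p G P E) : p ∣ Nat.card G :=
  h.card_P ▸ Subgroup.card_subgroup_dvd_card _

theorem noncomm (h : Hyp p G P E) : ¬ ∀ a b : G, a * b = b * a := fun hc => by
  have hb : commutator G = ⊥ := by
    rw [_root_.commutator_def, Subgroup.commutator_eq_bot_iff_le_centralizer]
    exact fun a _ => Subgroup.mem_centralizer_iff.2 fun b _ => hc b a
  have := h.simple.toNontrivial
  rw [h.perfect] at hb
  exact top_ne_bot hb

theorem not_isCyclic (h : Hyp p G P E) : ¬ IsCyclic G := fun _ => h.noncomm fun a b => mul_comm' a b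

theorem no_index_two (h : Hyp p G P E) (N : Subgroup G) : N.index ≠ 2 := fun hN => by
  have := Subgroup.normal_of_index_eq_two hN
  rcases h.simple.eq_bot_or_eq_top_of_normal N this with rfl | rfl
  · rw [Subgroup.index_bot] at hN
    have := Nat.le_of_dvd two_pos (hN ▸ h.prime_dvd_card)
    have := h.five
    omega
  · simp at hN

/-- A Sylow subgroup is never central in its normaliser. -/
theorem not_normalizer_le_centralizer (h : Hyp p G P E) {q : ℕ} [Fact q.Prime] (Q : Sylow q G)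
    (hQ : (Q : Subgroup G) ≠ ⊥) (hQ' : IsMulCommutative (Q : Subgroup G)) :
    ¬ normalizer ((Q : Subgroup G) : Set G) ≤ centralizer ((Q : Subgroup G) : Set G) := fun hle => by
  have hK := MonoidHom.ker_transferSylow_isComplement' Q hle
  rcases h.simple.eq_bot_or_eq_top_of_normal _
      (MonoidHom.normal_ker (MonoidHom.transferSylow Q hle)) with hb | ht
  · rw [hb] at hK
    have htop := Subgroup.isComplement'_bot_left.1 hK
    refine h.noncomm fun a b => ?_
    have ha : a ∈ (Q : Subgroup G) := htop ▸ mem_top a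
    have hb : b ∈ (Q : Subgroup G) := htop ▸ mem_top b
    exact congrArg Subtype.val (hQ'.is_comm.comm (⟨a, ha⟩ : (Q : Subgroup G)) ⟨b, hb⟩)
  · rw [ht] at hK
    exact hQ (Subgroup.isComplement'_top_left.1 hK)

theorem conj_mem (h : Hyp p G P E) {x g : G} (hx : x ∈ E) (hx1 : x ≠ 1)
    (hg : g * x * g⁻¹ ∈ E) : g ∈ normalizer (E : Set G) := by
  by_contra hn
  have hmem : g * x * g⁻¹ ∈ E ⊓ E.map (MulAut.conj g).toMonoidHom :=
    ⟨hg, x, hx, rfl⟩
  rw [h.ti g hn, mem_bot, conj_eq_one_iff] at hmem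
  exact hx1 hmem

theorem mem_normalizer_of_commute (h : Hyp p G P E) {x g : G} (hx : x ∈ E) (hx1 : x ≠ 1)
    (hg : g * x = x * g) : g ∈ normalizer (E : Set G) :=
  h.conj_mem hx hx1 (by rwa [hg, mul_inv_cancel_right])

theorem normalizer_le (h : Hyp p G P E) {X : Subgroup G} (hX : X ≤ E) (hX1 : X ≠ ⊥) :
    normalizer (X : Set G) ≤ normalizer (E : Set G) := by
  intro g hg
  obtain ⟨x, hx, hx1⟩ := (Subgroup.bot_or_exists_ne_one X).resolve_left hX1
  exact h.conj_mem (hX hx) hx1 (hX ((Subgroup.mem_normalizer_iff.1 hg x).1 hx))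

theorem fpf (h : Hyp p G P E) {x y : G} (hx : x ∈ E) (hx1 : x ≠ 1)
    (hy : y ∈ (P : Subgroup G)) (hc : x * y = y * x) : y = 1 := by
  by_contra hy1
  have hz : Subgroup.zpowers y = (P : Subgroup G) := by
    refine Subgroup.eq_of_le_of_card_ge (Subgroup.zpowers_le.2 hy) (le_of_eq ?_)
    rw [h.card_P, Nat.card_zpowers]
    have := (hp.out.eq_one_or_self_of_dvd _ (h.card_P ▸ Subgroup.orderOf_dvd_natCard _ hy))
    exact (this.resolve_left fun h1 => hy1 (orderOf_eq_one_iff.1 h1)).symm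
  have hxP : x ∈ centralizer ((P : Subgroup G) : Set G) := by
    rw [Subgroup.mem_centralizer_iff]
    intro w hw
    rw [SetLike.mem_coe, ← hz] at hw
    obtain ⟨k, rfl⟩ := hw
    exact ((show Commute x y from hc).zpow_right k).eq.symm
  rw [h.cent] at hxP
  have : x ∈ (P : Subgroup G) ⊓ E := ⟨hxP, hx⟩
  rw [h.inf, mem_bot] at this
  exact hx1 this

theorem index_two (h : Hyp p G P E) : (E.subgroupOf (normalizer (E : Set G))).index = 2 := by
  have h1 := Subgroup.card_mul_index (E.subgroupOf (normalizer (E : Set G)))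
  rw [Nat.card_congr (Subgroup.subgroupOfEquivOfLe Subgroup.le_normalizer).toEquiv, h.nE] at h1
  have := Nat.card_pos (α := E)
  exact Nat.eq_of_mul_eq_mul_left this (by linarith)

theorem mul_mem_iff (h : Hyp p G P E) {a b : G} (ha : a ∈ normalizer (E : Set G))
    (hb : b ∈ normalizer (E : Set G)) : a * b ∈ E ↔ (a ∈ E ↔ b ∈ E) := by
  simpa [Subgroup.mem_subgroupOf] using
    Subgroup.mul_mem_iff_of_index_two h.index_two (a := ⟨a, ha⟩) (b := ⟨b, hb⟩)

theorem sq_mem (h : Hyp p G P E) {a : G} (ha : a ∈ normalizer (E : Set G)) : a * a ∈ E :=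
  (h.mul_mem_iff ha ha).2 Iff.rfl

theorem exists_not_mem (h : Hyp p G P E) : ∃ g ∈ normalizer (E : Set G), g ∉ E := by
  by_contra! hc
  have := Subgroup.card_le_of_le hc
  have := h.nE
  have := Nat.card_pos (α := E)
  omega

theorem conj_eq (h : Hyp p G P E) {g g' : G} (hg : g ∈ normalizer (E : Set G)) (hgE : g ∉ E)
    (hg' : g' ∈ normalizer (E : Set G)) (hgE' : g' ∉ E) {a : G} (ha : a ∈ E) :
    g' * a * g'⁻¹ = g * a * g⁻¹ := by
  have hu : g⁻¹ * g' ∈ E := (h.mul_mem_iff (inv_mem hg) hg').2 (by simp [hgE, hgE'])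
  calc g' * a * g'⁻¹ = g * ((g⁻¹ * g') * a * (g⁻¹ * g')⁻¹) * g⁻¹ := by group
    _ = _ := by rw [h.comm hu ha, mul_inv_cancel_right]

/-- The elements of `E` inverted by `g`. -/
def inverted (h : Hyp p G P E) (g : G) : Subgroup G where
  carrier := {a | a ∈ E ∧ g * a * g⁻¹ = a⁻¹}
  one_mem' := ⟨one_mem E, by simp⟩
  mul_mem' := fun {a b} ha hb => ⟨mul_mem ha.1 hb.1, by
    rw [mul_inv_rev, ← h.comm (inv_mem ha.1) (inv_mem hb.1)]
    calc g * (a * b) * g⁻¹ = (g * a * g⁻¹) * (g * b * g⁻¹) := by group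
      _ = _ := by rw [ha.2, hb.2]⟩
  inv_mem' := fun {a} ha => ⟨inv_mem ha.1, by
    rw [inv_inv]
    calc g * a⁻¹ * g⁻¹ = (g * a * g⁻¹)⁻¹ := by group
      _ = _ := by rw [ha.2, inv_inv]⟩

theorem inverted_le (h : Hyp p G P E) (g : G) : h.inverted g ≤ E := fun _ ha => ha.1

/-- Every element of `N(E) \ E` inverts the Sylow `q`-subgroup of `E` for odd `q`. -/
theorem prime_part (h : Hyp p G P E) {q v : ℕ} [hq : Fact q.Prime] (hq2 : q ≠ 2)
    (hv : q ^ v ∣ Nat.card E) {g : G} (hg : g ∈ normalizer (E : Set G)) (hgE : g ∉ E) :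
    q ^ v ∣ Nat.card (h.inverted g) := by
  classical
  by_cases hv0 : v = 0
  · simp [hv0]
  obtain ⟨Q₀⟩ : Nonempty (Sylow q E) := inferInstance
  let Q : Subgroup G := (Q₀ : Subgroup E).map E.subtype
  have hQE : Q ≤ E := Subgroup.map_subtype_le _
  have hQc : Nat.card Q = q ^ (Nat.card E).factorization q := by
    rw [Subgroup.card_map_of_injective E.subtype_injective, Q₀.card_eq_multiplicity]
  have hvv : v ≤ (Nat.card E).factorization q :=
    (hq.out.pow_dvd_iff_le_factorization Nat.card_pos.ne').1 hv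
  have hQ1 : Q ≠ ⊥ := fun hb => by
    rw [hb, Subgroup.card_bot] at hQc
    exact (Nat.one_lt_pow (by omega) hq.out.one_lt).ne hQc
  suffices hQI : Q ≤ h.inverted g from
    (hQc ▸ Nat.pow_dvd_pow q hvv).trans (Subgroup.card_dvd_of_le hQI)
  have hQp : IsPGroup q Q := Q₀.isPGroup'.map _
  obtain ⟨S, hS⟩ := hQp.exists_le_sylow
  have hSQ : (S : Subgroup G) = Q := by
    by_contra hne
    have := S.isPGroup'.isNilpotent
    have hlt : Q.subgroupOf S < ⊤ := lt_top_iff_ne_top.2 fun ht =>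
      hne (le_antisymm (Subgroup.subgroupOf_eq_top.1 ht) hS)
    obtain ⟨-, w, hw, hwQ⟩ := SetLike.lt_iff_le_and_exists.1
      (Group.normalizerCondition_of_isNilpotent _ hlt)
    have hwN : (w : G) ∈ normalizer (Q : Set G) := by
      refine Subgroup.mem_normalizer_iff.2 fun a => ?_
      by_cases haS : a ∈ (S : Subgroup G)
      · simpa [Subgroup.mem_subgroupOf] using Subgroup.mem_normalizer_iff.1 hw ⟨a, haS⟩
      · refine ⟨fun ha => absurd (hS ha) haS, fun ha => absurd ?_ haS⟩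
        have := mul_mem (mul_mem (inv_mem w.2) (hS ha)) w.2
        simpa [mul_assoc] using this
    have hwE : (w : G) ∈ normalizer (E : Set G) := h.normalizer_le hQE hQ1 hwN
    let R : Subgroup G := (S : Subgroup G) ⊓ normalizer (E : Set G)
    have hQR : Q ≤ R := le_inf hS (hQE.trans Subgroup.le_normalizer)
    obtain ⟨j, hj⟩ := (S.isPGroup'.to_le (inf_le_left : R ≤ S)).exists_card_eq
    have hdvd : q ^ j ∣ 2 * Nat.card E := hj ▸ h.nE ▸ Subgroup.card_dvd_of_le inf_le_right
    have hdvd' : q ^ j ∣ Nat.card E :=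
      (Nat.Coprime.pow_left j ((Nat.coprime_primes hq.out Nat.prime_two).2 hq2)).dvd_of_dvd_mul_left
        hdvd
    have hle := Nat.pow_le_pow_right hq.out.pos
      ((hq.out.pow_dvd_iff_le_factorization Nat.card_pos.ne').1 hdvd')
    rw [← hQc, ← hj] at hle
    have := Subgroup.eq_of_le_of_card_ge hQR hle
    exact hwQ (Subgroup.mem_subgroupOf.2 (this.ge ⟨w.2, hwE⟩))
  have hQcomm : IsMulCommutative (S : Subgroup G) := by
    rw [hSQ]
    exact ⟨⟨fun a b => Subtype.ext (h.comm (hQE a.2) (hQE b.2))⟩⟩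
  obtain ⟨g₀, hg₀, hg₀C⟩ := SetLike.not_le_iff_exists.1
    (h.not_normalizer_le_centralizer S (hSQ ▸ hQ1) hQcomm)
  rw [hSQ] at hg₀ hg₀C
  have hg₀N := h.normalizer_le hQE hQ1 hg₀
  have hg₀E : g₀ ∉ E := fun hm => hg₀C <| Subgroup.mem_centralizer_iff.2 fun a ha =>
    h.comm (hQE ha) hm
  have hφ : ∀ a ∈ Q, g * a * g⁻¹ ∈ Q := fun a ha => by
    rw [h.conj_eq hg₀N hg₀E hg hgE (hQE ha)]
    exact (Subgroup.mem_normalizer_iff.1 hg₀ a).1 ha
  have hφ2 : ∀ a ∈ Q, g * (g * a * g⁻¹) * g⁻¹ = a := fun a ha => by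
    calc g * (g * a * g⁻¹) * g⁻¹ = (g * g) * a * (g * g)⁻¹ := by group
      _ = a := by rw [h.comm (h.sq_mem hg) (hQE ha), mul_inv_cancel_right]
  intro y hy
  refine ⟨hQE hy, ?_⟩
  by_contra hne
  -- `u` is fixed by `g` and different from `1`
  let u := (g * y * g⁻¹) * y
  have huQ : u ∈ Q := mul_mem (hφ y hy) hy
  have hu : g * u * g⁻¹ = u := by
    calc g * u * g⁻¹ = (g * (g * y * g⁻¹) * g⁻¹) * (g * y * g⁻¹) := by
          simp only [u]; group
      _ = u := by rw [hφ2 y hy]; exact h.comm (hQE hy) (hQE (hφ y hy))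
  have hu1 : u ≠ 1 := fun h1 => hne (eq_inv_of_mul_eq_one_left h1)
  obtain ⟨y', hy', hy'1⟩ : ∃ a ∈ Q, g * a * g⁻¹ ≠ a := by
    by_contra! hc
    refine hg₀C (Subgroup.mem_centralizer_iff.2 fun a ha => ?_)
    have := hc a ha
    rw [h.conj_eq hg₀N hg₀E hg hgE (hQE ha)] at this
    exact (mul_inv_eq_iff_eq_mul.1 this).symm
  let w := (g * y' * g⁻¹) * y'⁻¹
  have hwQ : w ∈ Q := mul_mem (hφ y' hy') (inv_mem hy')
  have hw1 : w ≠ 1 := fun h1 => hy'1 (mul_inv_eq_one.1 h1)
  have hwi : g * w * g⁻¹ = w⁻¹ := by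
    calc g * w * g⁻¹ = (g * (g * y' * g⁻¹) * g⁻¹) * (g * y' * g⁻¹)⁻¹ := by
          simp only [w]; group
      _ = w⁻¹ := by rw [hφ2 y' hy']; simp only [w]; group
  -- powers of order `q`
  have key : ∀ a ∈ Q, a ≠ 1 → ∃ k : ℕ, orderOf (a ^ k) = q := by
    intro a ha ha1
    have hd : q ∣ orderOf a := by
      obtain ⟨i, hi⟩ := IsPGroup.iff_orderOf.1 hQp ⟨a, ha⟩
      rw [Subgroup.orderOf_mk] at hi
      rw [hi]
      refine dvd_pow_self q ?_
      rintro rfl
      exact ha1 (orderOf_eq_one_iff.1 (by simpa using hi))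
    exact ⟨orderOf a / q, orderOf_pow_orderOf_div (orderOf_pos a).ne' hd⟩
  obtain ⟨k, hk⟩ := key u huQ hu1
  obtain ⟨l, hl⟩ := key w hwQ hw1
  have hmem : w ^ l ∈ Subgroup.zpowers (u ^ k) :=
    mem_of_orderOf_dvd h.cyclic (Subgroup.zpowers_le.2 (pow_mem (hQE huQ) k))
      (pow_mem (hQE hwQ) l) (by rw [hl, Nat.card_zpowers, hk])
  obtain ⟨m, hm⟩ := hmem
  have hfix : g * w ^ l * g⁻¹ = w ^ l := by
    rw [← hm]
    simp only
    rw [← conj_zpow, ← conj_pow, hu]
  have hinv : g * w ^ l * g⁻¹ = (w ^ l)⁻¹ := by rw [← conj_pow, hwi, inv_pow]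
  have hsq : (w ^ l) ^ 2 = 1 := by
    have := hfix.symm.trans hinv
    rw [pow_two]
    exact mul_eq_one_iff_eq_inv.2 this
  have := orderOf_dvd_of_pow_eq_one hsq
  rw [hl] at this
  exact hq2 ((Nat.prime_dvd_prime_iff_eq hq.out Nat.prime_two).1 this)

/-- Every element of `N(E) \ E` inverts the elements of odd order of `E`. -/
theorem inverts_odd (h : Hyp p G P E) {g x : G} (hg : g ∈ normalizer (E : Set G)) (hgE : g ∉ E)
    (hx : x ∈ E) (hodd : Odd (orderOf x)) : g * x * g⁻¹ = x⁻¹ := by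
  refine (mem_of_orderOf_dvd h.cyclic (h.inverted_le g) hx ?_).2
  rw [Nat.dvd_iff_prime_pow_dvd_dvd]
  intro q v hq hv
  have : Fact q.Prime := ⟨hq⟩
  by_cases hv0 : v = 0
  · simp [hv0]
  refine h.prime_part ?_ (hv.trans (Subgroup.orderOf_dvd_natCard _ hx)) hg hgE
  rintro rfl
  exact (Nat.not_even_iff_odd.2 hodd) (even_iff_two_dvd.2 ((dvd_pow_self 2 hv0).trans hv))

/-- For odd `#E`, an involution inverts `E`. -/
theorem exists_inverter (h : Hyp p G P E) (hodd : Odd (Nat.card E)) :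
    ∃ w : G, orderOf w = 2 ∧ w ∈ normalizer (E : Set G) ∧ w ∉ E ∧ ∀ x ∈ E, w * x * w⁻¹ = x⁻¹ := by
  obtain ⟨w, hw⟩ := exists_prime_orderOf_dvd_card' (G := normalizer (E : Set G)) 2
    (h.nE ▸ dvd_mul_right 2 _)
  have hw' : orderOf (w : G) = 2 := by rw [Subgroup.orderOf_coe, hw]
  have hwE : (w : G) ∉ E := fun hm => by
    have := Subgroup.orderOf_dvd_natCard _ hm
    rw [hw'] at this
    exact (Nat.not_even_iff_odd.2 hodd) (even_iff_two_dvd.2 this)
  exact ⟨w, hw', w.2, hwE, fun x hx =>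
    h.inverts_odd w.2 hwE hx (hodd.of_dvd_nat (Subgroup.orderOf_dvd_natCard _ hx))⟩

/-- For even `#E`, the hypothesis of the Brauer–Suzuki–Wall theorem. -/
theorem bsw_of_even (h : Hyp p G P E) (heven : Even (Nat.card E)) :
    ∃ z s : G, BSW.Hyp z s E := by
  classical
  obtain ⟨z₀, hz₀⟩ := exists_prime_orderOf_dvd_card' (G := E) 2 heven.two_dvd
  obtain ⟨z, hzdef⟩ : ∃ z : G, z = z₀ := ⟨_, rfl⟩
  have hz : orderOf z = 2 := by rw [hzdef, Subgroup.orderOf_coe, hz₀]
  have hzE : z ∈ E := hzdef ▸ z₀.2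
  have hz1 : z ≠ 1 := Involutions.Basic.invol_ne_one hz
  have hzu : ∀ a ∈ E, a * a = 1 → a = 1 ∨ a = z := by
    intro a ha ha2
    have hm : a ∈ Subgroup.zpowers z := mem_of_orderOf_dvd h.cyclic (Subgroup.zpowers_le.2 hzE) ha
      (by rw [Nat.card_zpowers, hz]; exact orderOf_dvd_of_pow_eq_one (by rw [pow_two, ha2]))
    rw [← mem_powers_iff_mem_zpowers, mem_powers_iff_mem_range_orderOf, hz] at hm
    simpa [Finset.range_add_one, eq_comm, or_comm] using hm
  have hzc : ∀ g : G, g * z = z * g ↔ g ∈ normalizer (E : Set G) := by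
    refine fun g => ⟨fun hg => h.mem_normalizer_of_commute hzE hz1 hg, fun hg => ?_⟩
    have h1 : g * z * g⁻¹ ∈ E := (Subgroup.mem_normalizer_iff.1 hg z).1 hzE
    rcases hzu _ h1 (by
      rw [← pow_two, conj_pow, ← hz, pow_orderOf_eq_one, mul_one, mul_inv_cancel]) with h2 | h2
    · exact absurd (conj_eq_one_iff.1 h2) hz1
    · exact mul_inv_eq_iff_eq_mul.1 h2
  obtain ⟨T₀⟩ : Nonempty (Sylow 2 (normalizer (E : Set G))) := inferInstance
  obtain ⟨T, hTdef⟩ : ∃ T : Subgroup G, T = (T₀ : Subgroup _).map (normalizer (E : Set G)).subtype :=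
    ⟨_, rfl⟩
  have hTN : T ≤ normalizer (E : Set G) := hTdef ▸ Subgroup.map_subtype_le _
  obtain ⟨a, hadef⟩ : ∃ a, a = (Nat.card E).factorization 2 := ⟨_, rfl⟩
  have he0 : Nat.card E ≠ 0 := Nat.card_pos.ne'
  have ha1 : 1 ≤ a := hadef ▸ (Nat.prime_two.dvd_iff_one_le_factorization he0).1 heven.two_dvd
  have hTc : Nat.card T = 2 ^ (a + 1) := by
    rw [hTdef, Subgroup.card_map_of_injective (Subgroup.subtype_injective _),
      T₀.card_eq_multiplicity, h.nE, Nat.factorization_mul two_ne_zero he0, Finsupp.add_apply,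
      Nat.Prime.factorization_self Nat.prime_two, hadef, add_comm]
  have hTp : IsPGroup 2 T := IsPGroup.of_card hTc
  obtain ⟨TE, hTEdef⟩ : ∃ TE : Subgroup G, TE = T ⊓ E := ⟨_, rfl⟩
  obtain ⟨v₀, hv₀T, hv₀E⟩ : ∃ v ∈ T, v ∉ E := by
    by_contra! hc
    have hd := Subgroup.card_dvd_of_le hc
    rw [hTc] at hd
    have := (Nat.prime_two.pow_dvd_iff_le_factorization he0).1 hd
    omega
  have hrel : (E.subgroupOf T).index = 2 := by
    rw [Subgroup.index_eq_two_iff]
    refine ⟨⟨v₀, hv₀T⟩, fun b => ?_⟩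
    simp only [Subgroup.mem_subgroupOf, Subgroup.coe_mul]
    rw [h.mul_mem_iff (hTN b.2) (hTN hv₀T)]
    by_cases hb : (b : G) ∈ E <;> simp [hb, hv₀E, Xor]
  have hTEc : Nat.card TE = 2 ^ a := by
    have h1 := Subgroup.card_mul_index (E.subgroupOf T)
    rw [hrel, hTc, pow_succ] at h1
    have h2 : Nat.card (E.subgroupOf T) = Nat.card TE := by
      rw [← Subgroup.card_map_of_injective T.subtype_injective, Subgroup.subgroupOf_map_subtype,
        hTEdef, inf_comm]
    omega
  have hTEcyc : IsCyclic TE := by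
    have := h.cyclic
    exact isCyclic_of_injective (Subgroup.inclusion (hTEdef ▸ inf_le_right : TE ≤ E))
      (Subgroup.inclusion_injective _)
  obtain ⟨r₀, hr₀⟩ := IsCyclic.exists_ofOrder_eq_natCard (α := TE)
  obtain ⟨r, hrdef⟩ : ∃ r : G, r = r₀ := ⟨_, rfl⟩
  have hr : orderOf r = 2 ^ a := by rw [hrdef, Subgroup.orderOf_coe, hr₀, hTEc]
  have hrT : r ∈ T := hrdef ▸ ((hTEdef ▸ r₀.2 : (r₀ : G) ∈ T ⊓ E)).1
  have hrE : r ∈ E := hrdef ▸ ((hTEdef ▸ r₀.2 : (r₀ : G) ∈ T ⊓ E)).2
  have hTE : ∀ x ∈ T, x ∈ E → ∃ n : ℤ, x = r ^ n := by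
    intro x hxT hxE
    have hz' : Subgroup.zpowers r = TE := by
      refine Subgroup.eq_of_le_of_card_ge (Subgroup.zpowers_le.2 (hTEdef ▸ ⟨hrT, hrE⟩)) ?_
      rw [hTEc, Nat.card_zpowers, hr]
    obtain ⟨n, hn⟩ : x ∈ Subgroup.zpowers r := hz'.symm ▸ hTEdef.symm ▸ ⟨hxT, hxE⟩
    exact ⟨n, hn.symm⟩
  have hrz : r ^ 2 ^ (a - 1) = z := by
    have h2 : r ^ 2 ^ (a - 1) * r ^ 2 ^ (a - 1) = 1 := by
      rw [← pow_add, ← two_mul, ← pow_succ', show a - 1 + 1 = a by omega, ← hr, pow_orderOf_eq_one]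
    rcases hzu _ (pow_mem hrE _) h2 with h3 | h3
    · exfalso
      have := Nat.le_of_dvd (by positivity) (hr ▸ orderOf_dvd_of_pow_eq_one h3)
      exact (Nat.pow_lt_pow_right one_lt_two (by omega : a - 1 < a)).not_ge this
    · exact h3
  have hzT : z ∈ T := hrz ▸ pow_mem hrT _
  -- `T` is a Sylow 2-subgroup of `G`
  obtain ⟨S, hS⟩ := hTp.exists_le_sylow
  have hSN : ∀ g ∈ (S : Subgroup G), g ∈ normalizer (E : Set G) → g ∈ T := by
    intro g hgS hgN
    have hp' : IsPGroup 2 ((S : Subgroup G) ⊓ normalizer (E : Set G) : Subgroup G) :=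
      S.isPGroup'.to_le inf_le_left
    obtain ⟨j, hj⟩ := hp'.exists_card_eq
    have hd : 2 ^ j ∣ Nat.card (normalizer (E : Set G)) :=
      hj ▸ Subgroup.card_dvd_of_le inf_le_right
    rw [h.nE, Nat.prime_two.pow_dvd_iff_le_factorization (by omega),
      Nat.factorization_mul two_ne_zero he0, Finsupp.add_apply,
      Nat.Prime.factorization_self Nat.prime_two, ← hadef] at hd
    have := Subgroup.eq_of_le_of_card_ge (le_inf hS hTN)
      (by rw [hj, hTc]; exact Nat.pow_le_pow_right two_pos (by omega))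
    exact this.ge ⟨hgS, hgN⟩
  have hST : (S : Subgroup G) = T := by
    by_contra hne
    obtain ⟨n, hn⟩ := S.isPGroup'.exists_card_eq
    have hn' : a + 2 ≤ n := by
      have hlt : Nat.card T < Nat.card (S : Subgroup G) :=
        lt_of_le_of_ne (Subgroup.card_le_of_le hS) fun he =>
          hne (Subgroup.eq_of_le_of_card_ge hS he.ge).symm
      rw [hTc, hn] at hlt
      have := (Nat.pow_lt_pow_iff_right one_lt_two).1 hlt
      omega
    rcases Nat.lt_or_ge a 2 with ha2 | ha2
    · have ha : a = 1 := by omega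
      let A : Subgroup (S : Subgroup G) := T.subgroupOf S
      have hAc : Nat.card A = 2 ^ 2 := by
        rw [Nat.card_congr (Subgroup.subgroupOfEquivOfLe hS).toEquiv, hTc, ha]
      have hTab : ∀ x ∈ T, ∀ y ∈ T, x * y = y * x := by
        have := IsPGroup.isMulCommutative_of_card_eq_prime_sq (p := 2) (G := T)
          (by rw [hTc, ha])
        exact fun x hx y hy => congrArg Subtype.val (this.is_comm.comm (⟨x, hx⟩ : T) ⟨y, hy⟩)
      have hA : centralizer (A : Set (S : Subgroup G)) = A := by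
        refine le_antisymm (fun w hw => ?_) fun w hw => Subgroup.mem_centralizer_iff.2
          fun u hu => Subtype.ext (hTab _ hu _ hw)
        have h1 := Subgroup.mem_centralizer_iff.1 hw ⟨z, hS hzT⟩ hzT
        exact hSN _ w.2 ((hzc _).1 (congrArg Subtype.val h1).symm)
      have hcl := S0112.result n hn A hAc hA
      obtain ⟨C, hC, hCi⟩ := S0113.result n (by omega) hn hcl
      have hCn : C.Normal := Subgroup.normal_of_index_eq_two hCi
      have hzC : ∀ c ∈ C, orderOf c = 2 → (∀ w, w * c = c * w) := by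
        intro c hc hc2 w
        have h1 : w * c * w⁻¹ ∈ C := hCn.conj_mem c hc w
        have hm : (⟨w * c * w⁻¹, h1⟩ : C) ∈ Subgroup.zpowers (⟨c, hc⟩ : C) :=
          mem_of_orderOf_dvd (G := C) (E := ⊤)
            (isCyclic_of_surjective Subgroup.topEquiv.symm.toMonoidHom (MulEquiv.surjective _))
            le_top (mem_top _)
            (by
              rw [Nat.card_zpowers, ← Subgroup.orderOf_coe, ← Subgroup.orderOf_coe (⟨c, hc⟩ : C)]
              exact dvd_of_eq (Involutions.Basic.orderOf_conj_eq w c))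
        rw [← mem_powers_iff_mem_zpowers, mem_powers_iff_mem_range_orderOf, Subgroup.orderOf_mk,
          hc2] at hm
        simp [Finset.range_add_one, eq_comm] at hm
        rcases hm with h2 | h2
        · exact mul_inv_eq_iff_eq_mul.1 h2.symm
        · exact absurd h2 (Involutions.Basic.invol_ne_one hc2)
      obtain ⟨g, hg⟩ := Fusion.Thompson.exists_conj_mem_maximal S (C.map (S : Subgroup G).subtype)
        (Subgroup.map_subtype_le _) (by
          rw [Subgroup.relIndex, Subgroup.subgroupOf,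
            Subgroup.comap_map_eq_self_of_injective (Subgroup.subtype_injective _), hCi])
        h.no_index_two z hz
      obtain ⟨c, hcC, hcg⟩ := hg
      have hc2 : orderOf c = 2 := by
        rw [← Subgroup.orderOf_coe, show (c : G) = g * z * g⁻¹ from hcg,
          Involutions.Basic.orderOf_conj_eq, hz]
      have hScent : (S : Subgroup G) ≤ (normalizer (E : Set G)).map (MulAut.conj g).toMonoidHom := by
        intro w hw
        have h1 : w * (g * z * g⁻¹) = g * z * g⁻¹ * w := by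
          have := congrArg Subtype.val (hzC c hcC hc2 ⟨w, hw⟩)
          simpa [show (c : G) = g * z * g⁻¹ from hcg] using this
        refine ⟨g⁻¹ * w * g, (hzc _).1 ?_, by simp [MulAut.conj_apply, mul_assoc]⟩
        calc g⁻¹ * w * g * z = g⁻¹ * (w * (g * z * g⁻¹)) * g := by group
          _ = z * (g⁻¹ * w * g) := by rw [h1]; group
      have hd := Subgroup.card_dvd_of_le hScent
      rw [Subgroup.card_map_of_injective (MulAut.conj g).injective, h.nE, hn,
        Nat.prime_two.pow_dvd_iff_le_factorization (by omega),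
        Nat.factorization_mul two_ne_zero he0, Finsupp.add_apply,
        Nat.Prime.factorization_self Nat.prime_two, ← hadef] at hd
      omega
    · have := S.isPGroup'.isNilpotent
      have hlt : T.subgroupOf S < ⊤ := lt_top_iff_ne_top.2 fun ht =>
        hne (le_antisymm (Subgroup.subgroupOf_eq_top.1 ht) hS)
      obtain ⟨-, w, hw, hwT⟩ := SetLike.lt_iff_le_and_exists.1
        (Group.normalizerCondition_of_isNilpotent _ hlt)
      have hr' : (w : G) * r * (w : G)⁻¹ ∈ T := by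
        simpa [Subgroup.mem_subgroupOf] using
          (Subgroup.mem_normalizer_iff.1 hw ⟨r, hS hrT⟩).1 (Subgroup.mem_subgroupOf.2 hrT)
      have hzE' : (w : G) * z * (w : G)⁻¹ ∈ E := by
        rw [← hrz, ← conj_pow, show 2 ^ (a - 1) = 2 * 2 ^ (a - 2) by
          rw [← pow_succ']; congr 1; omega, pow_mul, pow_two]
        exact pow_mem (h.sq_mem (hTN hr')) _
      exact hwT (Subgroup.mem_subgroupOf.2 (hSN _ w.2 (h.conj_mem hzE hz1 hzE')))
  -- it is not cyclic
  have hncyc : ¬ IsCyclic T := by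
    intro hc
    have hc' : IsCyclic (S : Subgroup G) := hST ▸ hc
    refine h.not_normalizer_le_centralizer S ?_ inferInstance
      (IsCyclic.normalizer_le_centralizer ?_ hc')
    · intro hb
      rw [hST] at hb
      rw [hb, mem_bot] at hzT
      exact hz1 hzT
    · rw [Nat.minFac_eq_two_iff]
      exact hz ▸ orderOf_dvd_natCard z
  have hsplit : ∀ v ∈ T, v ∉ E → ∀ x ∈ T, ∃ n : ℤ, x = r ^ n ∨ x = v * r ^ n := by
    intro v hv hvE x hx
    by_cases hxE : x ∈ E
    · obtain ⟨n, hn⟩ := hTE x hx hxE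
      exact ⟨n, Or.inl hn⟩
    · obtain ⟨n, hn⟩ := hTE (v⁻¹ * x) (mul_mem (inv_mem hv) hx)
        ((h.mul_mem_iff (inv_mem (hTN hv)) (hTN hx)).2 (by simp [hvE, hxE]))
      exact ⟨n, Or.inr (by rw [← hn, mul_inv_cancel_left])⟩
  have horder4 : ∀ v ∈ T, v ∉ E → ∀ k : ℤ, Odd k → v * v ≠ r ^ k := by
    intro v hv hvE k hk he
    refine hncyc ?_
    have hdd : orderOf (r ^ k) = 2 ^ a := by
      rw [← hr, ← Nat.card_zpowers, ← Nat.card_zpowers]
      congr 2
      refine le_antisymm (Subgroup.zpowers_le.2 (zpow_mem (Subgroup.mem_zpowers r) k))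
        (Subgroup.zpowers_le.2 ?_)
      have hco : IsCoprime k ((orderOf r : ℕ) : ℤ) := by
        rw [hr, Nat.cast_pow]
        refine IsCoprime.pow_right ?_
        obtain ⟨j, rfl⟩ := hk
        exact ⟨1, -j, by push_cast; ring⟩
      obtain ⟨u, w, huw⟩ := hco
      refine ⟨u, ?_⟩
      simp only [← zpow_mul]
      conv_rhs => rw [← zpow_one r]
      rw [← huw, zpow_add, mul_comm w, zpow_mul r _ w, zpow_natCast, pow_orderOf_eq_one,
        one_zpow, mul_one, mul_comm k u]
    have hv2 : orderOf v = 2 ^ (a + 1) := by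
      have h1 : orderOf (v ^ 2) = 2 ^ a := by rw [pow_two, he, hdd]
      have h2 : v ^ 2 ^ (a + 1) = 1 := by
        rw [pow_succ', pow_mul, ← h1, pow_orderOf_eq_one]
      obtain ⟨j, hj, hj'⟩ := (Nat.dvd_prime_pow Nat.prime_two).1 (orderOf_dvd_of_pow_eq_one h2)
      rcases Nat.eq_or_lt_of_le hj with rfl | hlt
      · exact hj'
      exfalso
      have h3 : (v ^ 2) ^ 2 ^ (a - 1) = 1 := by
        rw [← pow_mul, ← pow_succ', show a - 1 + 1 = a by omega]
        exact orderOf_dvd_iff_pow_eq_one.1 (hj' ▸ Nat.pow_dvd_pow 2 (by omega))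
      have := Nat.le_of_dvd (by positivity) (h1 ▸ orderOf_dvd_of_pow_eq_one h3)
      exact (Nat.pow_lt_pow_right one_lt_two (by omega : a - 1 < a)).not_ge this
    exact isCyclic_of_orderOf_eq_card (⟨v, hv⟩ : T) (by rw [Subgroup.orderOf_mk, hv2, hTc])
  -- an involution outside `E` inverts `r`
  obtain ⟨s, hs2, hsT, hsE, hsr⟩ : ∃ s : G, orderOf s = 2 ∧ s ∈ T ∧ s ∉ E ∧
      s * r * s⁻¹ = r⁻¹ := by
    rcases Nat.lt_or_ge a 2 with ha2 | ha2
    · have ha : a = 1 := by omega
      have hrz' : r = z := by simpa [ha] using hrz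
      refine ⟨v₀, ?_, hv₀T, hv₀E, ?_⟩
      · refine Involutions.Basic.invol_iff.2 ⟨?_, fun h1 => hv₀E (h1 ▸ one_mem E)⟩
        rcases hzu _ (h.sq_mem (hTN hv₀T)) (by
          rw [← pow_two, ← pow_two, ← pow_mul]
          have := orderOf_dvd_iff_pow_eq_one.1 (Subgroup.orderOf_dvd_natCard _ hv₀T)
          rwa [hTc, ha] at this) with h1 | h1
        · exact h1
        · exact absurd (by simpa [hrz'] using h1) (horder4 v₀ hv₀T hv₀E 1 odd_one)
      · rw [hrz', (hzc v₀).2 (hTN hv₀T), mul_inv_cancel_right, Involutions.Basic.invol_inv hz]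
    by_contra hcon
    push Not at hcon
    obtain ⟨v, hvT, hvE, hv⟩ : ∃ v ∈ T, v ∉ E ∧ ∀ u ∈ T, orderOf u = 2 → u ∉ E →
        ∃ n : ℤ, Even n ∧ u = v * r ^ n := by
      by_cases hex : ∃ v ∈ T, v ∉ E ∧ orderOf v = 2
      · obtain ⟨v, hvT, hvE, hv2⟩ := hex
        refine ⟨v, hvT, hvE, fun u huT hu2 huE => ?_⟩
        obtain ⟨n, hn | hn⟩ := hsplit v hvT hvE u huT
        · exact absurd (hn ▸ zpow_mem hrE n) huE
        refine ⟨n, ?_, hn⟩
        by_contra hodd
        rw [Int.not_even_iff_odd] at hodd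
        refine hcon v hv2 hvT hvE ?_
        have h1 : v * r ^ n * (v * r ^ n) = 1 := hn ▸ Involutions.Basic.invol_mul_self hu2
        have h2 : v * r ^ n * v⁻¹ = (r ^ n)⁻¹ := by
          rw [Involutions.Basic.invol_inv hv2]
          exact eq_inv_of_mul_eq_one_left (by rw [mul_assoc]; exact h1)
        obtain ⟨u', w', huw⟩ : IsCoprime n ((orderOf r : ℕ) : ℤ) := by
          rw [hr, Nat.cast_pow]
          refine IsCoprime.pow_right ?_
          obtain ⟨j, rfl⟩ := hodd
          exact ⟨1, -j, by push_cast; ring⟩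
        have hr1 : r = (r ^ n) ^ u' := by
          rw [← zpow_mul]
          conv_lhs => rw [← zpow_one r]
          rw [← huw, zpow_add, mul_comm w', zpow_mul r _ w', zpow_natCast, pow_orderOf_eq_one,
            one_zpow, mul_one, mul_comm n u']
        rw [hr1, ← conj_zpow, h2, inv_zpow]
      · push Not at hex
        exact ⟨v₀, hv₀T, hv₀E, fun u huT hu2 huE => absurd hu2 (hex u huT huE)⟩
    obtain ⟨m, hm⟩ : ∃ m : ℤ, v * r * v⁻¹ = r ^ m := by
      refine hTE _ (mul_mem (mul_mem hvT hrT) (inv_mem hvT)) ?_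
      exact (Subgroup.mem_normalizer_iff.1 (hTN hvT) r).1 hrE
    obtain ⟨k, hk⟩ := hTE _ (mul_mem hvT hvT) (h.sq_mem (hTN hvT))
    have hk2 : Even k := by
      by_contra hodd
      exact horder4 v hvT hvE k (Int.not_even_iff_odd.1 hodd) hk
    have hev : ∀ n : ℤ, Even n ↔ r ^ n ∈ Subgroup.zpowers (r ^ (2 : ℤ)) := by
      intro n
      constructor
      · rintro ⟨j, rfl⟩
        exact ⟨j, by simp only; rw [← zpow_mul, two_mul]⟩
      · rintro ⟨j, hj⟩
        simp only [← zpow_mul] at hj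
        have := orderOf_dvd_sub_iff_zpow_eq_zpow.2 hj
        rw [hr, Nat.cast_pow] at this
        have h2 : (2 : ℤ) ∣ 2 * j - n := (dvd_pow_self (2 : ℤ) (by omega)).trans this
        exact even_iff_two_dvd.2 (by omega)
    have hconjv : ∀ n : ℤ, v * r ^ n * v⁻¹ = r ^ (m * n) := fun n => by
      rw [← conj_zpow, hm, ← zpow_mul]
    -- the subgroup `R = ⟨r², v⟩`
    let R : Subgroup G :=
      { carrier := {x | ∃ n : ℤ, Even n ∧ (x = r ^ n ∨ x = v * r ^ n)}
        one_mem' := ⟨0, Even.zero, Or.inl (by simp)⟩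
        mul_mem' := by
          rintro x y ⟨i, hi, rfl | rfl⟩ ⟨j, hj, rfl | rfl⟩
          · exact ⟨i + j, hi.add hj, Or.inl (zpow_add r i j).symm⟩
          · obtain ⟨m', hm'⟩ : ∃ m' : ℤ, v⁻¹ * r * v = r ^ m' := by
              refine hTE _ (mul_mem (mul_mem (inv_mem hvT) hrT) hvT) ?_
              simpa using (Subgroup.mem_normalizer_iff.1 (inv_mem (hTN hvT)) r).1 hrE
            refine ⟨m' * i + j, (hi.mul_left m').add hj, Or.inr ?_⟩
            rw [zpow_add, zpow_mul, ← hm']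
            have : (v⁻¹ * r * v) ^ i = v⁻¹ * r ^ i * v := by
              rw [show v⁻¹ * r * v = v⁻¹ * r * v⁻¹⁻¹ by rw [inv_inv], conj_zpow, inv_inv]
            rw [this]
            group
          · exact ⟨i + j, hi.add hj, Or.inr (by rw [mul_assoc, ← zpow_add])⟩
          · refine ⟨m * i + k + j, (((hi.mul_left m).add hk2).add hj), Or.inl ?_⟩
            rw [zpow_add, zpow_add, ← hconjv, ← hk]
            group
        inv_mem' := by
          rintro x ⟨i, hi, rfl | rfl⟩
          · exact ⟨-i, hi.neg, Or.inl (zpow_neg r i).symm⟩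
          · refine ⟨-(m * i) - k, (hi.mul_left m).neg.sub hk2, Or.inr ?_⟩
            refine inv_eq_of_mul_eq_one_right ?_
            calc v * r ^ i * (v * r ^ (-(m * i) - k))
                = (v * r ^ i * v⁻¹) * (v * v) * r ^ (-(m * i) - k) := by group
              _ = 1 := by
                rw [hconjv, hk, ← zpow_add, ← zpow_add,
                  show m * i + k + (-(m * i) - k) = 0 by ring, zpow_zero] }
    have hrR : r ∉ R := by
      rintro ⟨n, hn, h1 | h1⟩
      · have : r ^ (1 : ℤ) = r ^ n := by rwa [zpow_one]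
        have h2 := orderOf_dvd_sub_iff_zpow_eq_zpow.2 this
        rw [hr, Nat.cast_pow] at h2
        have h3 : (2 : ℤ) ∣ 1 - n := (dvd_pow_self (2 : ℤ) (by omega)).trans h2
        obtain ⟨j, rfl⟩ := hn
        omega
      · exact hvE (by
          rw [← mul_inv_eq_iff_eq_mul.2 h1]
          exact mul_mem hrE (inv_mem (zpow_mem hrE n)))
    have hRi : (R.subgroupOf T).index = 2 := by
      rw [Subgroup.index_eq_two_iff]
      refine ⟨⟨r, hrT⟩, fun b => ?_⟩
      simp only [Subgroup.mem_subgroupOf, Subgroup.coe_mul]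
      obtain ⟨n, hn⟩ := hsplit v hvT hvE b b.2
      rcases Int.even_or_odd n with hn' | hn'
      · refine Or.inr ⟨⟨n, hn', hn⟩, fun h1 => hrR ?_⟩
        simpa using mul_mem (inv_mem (show (b : G) ∈ R from ⟨n, hn', hn⟩)) h1
      · have hb : (b : G) * r ∈ R := by
          refine ⟨n + 1, hn'.add_odd odd_one, ?_⟩
          rcases hn with h1 | h1
          · exact Or.inl (by rw [h1, zpow_add_one])
          · exact Or.inr (by rw [h1, mul_assoc, zpow_add_one])
        refine Or.inl ⟨hb, fun h1 => hrR ?_⟩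
        simpa using mul_mem (inv_mem h1) hb
    let φ : T →* ℤˣ := MonoidHom.mk' (fun x => if (x : G) ∈ R then 1 else -1) (by
      intro x y
      have := Subgroup.mul_mem_iff_of_index_two hRi (a := x) (b := y)
      simp only [Subgroup.mem_subgroupOf] at this
      simp only [this]
      by_cases hx : (x : G) ∈ R <;> by_cases hy : (y : G) ∈ R <;> simp [hx, hy])
    have hφ : ∀ x : T, φ x = if (x : G) ∈ R then 1 else -1 := fun _ => rfl
    have hφr : φ ⟨r, hrT⟩ = -1 := by rw [hφ, if_neg hrR]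
    have hzR : z ∈ R := ⟨((2 ^ (a - 1) : ℕ) : ℤ), by
      rw [show a - 1 = a - 2 + 1 by omega, pow_succ]
      push_cast
      exact even_two.mul_left _, Or.inl (by rw [zpow_natCast, hrz])⟩
    have hev' : ∀ n : ℤ, r ^ n ∈ R ↔ Even n := by
      refine fun n => ⟨fun hn => ?_, fun hn => ⟨n, hn, Or.inl rfl⟩⟩
      by_contra hodd
      obtain ⟨j, rfl⟩ := Int.not_even_iff_odd.1 hodd
      refine hrR ?_
      have h1 : r ^ (2 * j) ∈ R := ⟨2 * j, even_two_mul j, Or.inl rfl⟩
      simpa [zpow_add_one] using mul_mem (inv_mem h1) hn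
    have hpar : ∀ n : ℤ, (r ^ n) ^ 2 ^ (a - 1) = 1 ↔ Even n := by
      intro n
      rw [← zpow_natCast (r ^ n), ← zpow_mul, mul_comm n, zpow_mul, zpow_natCast, hrz,
        ← orderOf_dvd_iff_zpow_eq_one, hz, even_iff_two_dvd]
      rfl
    have hctrl : ∀ (m : ℕ) (b : G) (hb : b * r ^ m * b⁻¹ ∈ T),
        φ ⟨b * r ^ m * b⁻¹, hb⟩ = φ ⟨r, hrT⟩ ^ m := by
      intro m b hb
      rw [hφr, hφ]
      simp only
      by_cases hc : r ^ m * r ^ m = 1
      · have hm2 : Even m := by
          have h1 : (r ^ (m : ℤ)) ^ 2 ^ (a - 1) = 1 := by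
            rw [zpow_natCast, show 2 ^ (a - 1) = 2 * 2 ^ (a - 2) by
              rw [← pow_succ']; congr 1; omega, pow_mul, pow_two, hc, one_pow]
          exact_mod_cast (hpar m).1 h1
        rw [hm2.neg_one_pow, if_pos]
        have hu : b * r ^ m * b⁻¹ * (b * r ^ m * b⁻¹) = 1 := by
          calc _ = b * (r ^ m * r ^ m) * b⁻¹ := by group
            _ = 1 := by rw [hc]; group
        by_cases hu1 : b * r ^ m * b⁻¹ = 1
        · rw [hu1]; exact one_mem R
        by_cases huE : b * r ^ m * b⁻¹ ∈ E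
        · rw [(hzu _ huE hu).resolve_left hu1]; exact hzR
        obtain ⟨n, hn, hn'⟩ := hv _ hb (Involutions.Basic.invol_iff.2 ⟨hu, hu1⟩) huE
        exact ⟨n, hn, Or.inr hn'⟩
      · have hbN : b ∈ normalizer (E : Set G) := by
          refine h.conj_mem (mul_mem (pow_mem hrE m) (pow_mem hrE m)) hc ?_
          have := h.sq_mem (hTN hb)
          convert this using 1
          group
        obtain ⟨n, hn⟩ := hTE _ hb ((Subgroup.mem_normalizer_iff.1 hbN _).1 (pow_mem hrE m))
        have h1 : Even n ↔ Even (m : ℤ) := by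
          rw [← hpar, ← hpar, ← hn, conj_pow, conj_eq_one_iff, zpow_natCast]
        rw [Int.even_coe_nat] at h1
        rcases Nat.even_or_odd m with hm' | hm'
        · rw [if_pos (by rw [hn]; exact (hev' n).2 (h1.2 hm')), hm'.neg_one_pow]
        · rw [if_neg (by rw [hn, hev', h1]; exact Nat.not_even_iff_odd.2 hm'), hm'.neg_one_pow]
    have htr := Fusion.Thompson.transfer_controlled φ r hrT hctrl
    have h1 : MonoidHom.transfer φ r = 1 := by
      have := Abelianization.commutator_subset_ker (MonoidHom.transfer φ)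
      exact this (by rw [h.perfect]; exact mem_top r)
    have hodd : Odd T.index := by
      rw [← hST, Nat.odd_iff, ← Nat.two_dvd_ne_zero]
      exact S.not_dvd_index
    rw [h1, hφr, hodd.neg_one_pow] at htr
    exact absurd htr (by decide)
  -- all involutions are conjugate
  have hall : ∀ x : G, orderOf x = 2 → IsConj x z := by
    intro x hx
    obtain ⟨g, hg⟩ := Fusion.Thompson.exists_conj_mem_maximal S TE
      (by rw [hST, hTEdef]; exact inf_le_left)
      (by rw [hST, hTEdef, Subgroup.inf_relIndex_left]; exact hrel) h.no_index_two x hx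
    rw [hTEdef] at hg
    have hgx := hzu _ hg.2 (by
      calc g * x * g⁻¹ * (g * x * g⁻¹) = g * (x * x) * g⁻¹ := by group
        _ = 1 := by rw [Involutions.Basic.invol_mul_self hx]; group)
    exact isConj_iff.2 ⟨g, hgx.resolve_left fun h1 =>
      Involutions.Basic.invol_ne_one hx (conj_eq_one_iff.1 h1)⟩
  have hinv : ∀ x ∈ E, s * x * s⁻¹ = x⁻¹ := by
    intro x hx
    refine (mem_of_orderOf_dvd h.cyclic (h.inverted_le s) hx ?_).2
    rw [Nat.dvd_iff_prime_pow_dvd_dvd]
    intro q v hq hv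
    have := Fact.mk hq
    have hv' := hv.trans (Subgroup.orderOf_dvd_natCard _ hx)
    by_cases hq2 : q = 2
    · subst hq2
      have hle : Subgroup.zpowers r ≤ h.inverted s := Subgroup.zpowers_le.2 ⟨hrE, hsr⟩
      refine dvd_trans ?_ (Subgroup.card_dvd_of_le hle)
      rw [Nat.card_zpowers, hr, hadef]
      exact Nat.pow_dvd_pow 2 ((Nat.prime_two.pow_dvd_iff_le_factorization he0).1 hv')
    · exact h.prime_part hq2 hv' (hTN hsT) hsE
  refine ⟨z, s, ⟨hz, hs2, hzE, hsE, (hzc s).2 (hTN hsT), fun a ha b hb => h.comm ha hb, hinv,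
    fun g hg => ?_, hzu, fun b hb hb1 g hg => (hzc g).2 (h.conj_mem hb hb1 hg),
    fun x y hx hy => (hall x hx).trans (hall y hy).symm⟩⟩
  by_cases hgE : g ∈ E
  · exact Or.inl hgE
  · exact Or.inr ((h.mul_mem_iff (hTN hsT) ((hzc g).1 hg)).2 (by simp [hsE, hgE]))

end Hyp

end Cfsg.Agent.Lib.UniqueDegree79
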