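import Cfsg.Agent.Lib.UniqueDegree79.Green
import Cfsg.Agent.Lib.UniqueDegree79.Factors
import Cfsg.Agent.Lib.UniqueDegree79.Chars
import Cfsg.Agent.Lib.BrauerChar.Lifting

/-!
# The reduction of the exceptional character has a small constituent
-/

namespace Cfsg.Agent.Lib.UniqueDegree79

open Finset

universe u v w

variable {G : Type u} [Group G] {p : ℕ} [hp : Fact p.Prime] [Fintype G] {P : Sylow p G}
  {E : Subgroup G} {y x : G} {m M : ℕ} {k : Type v} [Field k] [CharP k p] [IsAlgClosed k]

/-- Residue classes in an interval: two counts differ by at most one. -/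
theorem count_le_succ {e n a b : ℕ} (he : 0 < e) (hb : b < e) :
    ((Finset.range n).filter fun i => (a + i) % e = b).card ≤
      ((Finset.range n).filter fun i => (a + i) % e = 0).card + 1 := by
  classical
  set S := (Finset.range n).filter fun i => (a + i) % e = b with hS
  have hsplit := Finset.card_filter_add_card_filter_not (s := S) (fun i => i + (e - b) < n)
  have h1 : (S.filter fun i => i + (e - b) < n).card ≤
      ((Finset.range n).filter fun i => (a + i) % e = 0).card := by
    refine Finset.card_le_card_of_injOn (fun i => i + (e - b)) (fun i hi => ?_)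
      (fun i _ j _ hij => by simp only at hij; omega)
    simp only [hS, Finset.mem_coe, Finset.mem_filter, Finset.mem_range] at hi ⊢
    refine ⟨hi.2, ?_⟩
    rw [← add_assoc, Nat.add_mod, hi.1.2, Nat.add_mod_mod, show b + (e - b) = e by omega,
      Nat.mod_self]
  have h2 : (S.filter fun i => ¬ i + (e - b) < n).card ≤ 1 := by
    refine Finset.card_le_one.2 fun i hi j hj => ?_
    simp only [hS, Finset.mem_filter, Finset.mem_range] at hi hj
    have hd : ((a + i : ℕ) : ℤ) % e = ((a + j : ℕ) : ℤ) % e := by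
      rw [← Int.natCast_mod, ← Int.natCast_mod, hi.1.2, hj.1.2]
    have hd' := Int.emod_eq_emod_iff_emod_sub_eq_zero.1 hd
    have := Int.eq_zero_of_dvd_of_natAbs_lt_natAbs (Int.dvd_of_emod_eq_zero hd') (by omega)
    omega
  omega

omit hp [CharP k p] [IsAlgClosed k] in
/-- The finite Fourier sum. -/
theorem sum_root_pow {ζ : k} {e : ℕ} (hζ : IsPrimitiveRoot ζ e) (he : 0 < e) (r c : ℕ) (hc : c < e) :
    ∑ j ∈ Finset.range e, (ζ ^ r) ^ j * (ζ ^ (e - c)) ^ j = if r % e = c then (e : k) else 0 := by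
  simp only [← mul_pow, ← pow_add]
  have hiff : ζ ^ (r + (e - c)) = 1 ↔ r % e = c := by
    rw [hζ.pow_eq_one_iff_dvd, Nat.dvd_iff_mod_eq_zero]
    constructor
    · intro h
      have h3 := Nat.mod_add_div r e
      have h4 : (r % e + (e - c)) % e = 0 := by rwa [Nat.mod_add_mod]
      have hlt := Nat.mod_lt r he
      obtain ⟨q, hq⟩ := Nat.dvd_of_mod_eq_zero h4
      rcases q with _ | _ | q
      · omega
      · omega
      · nlinarith [Nat.sub_le e c]
    · intro h
      rw [Nat.add_mod, h, Nat.add_mod_mod, show c + (e - c) = e by omega, Nat.mod_self]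
  split_ifs with h
  · rw [hiff.2 h]; simp
  · have h1 : (ζ ^ (r + (e - c))) ^ e = 1 := by rw [← pow_mul, mul_comm, pow_mul, hζ.pow_eq_one, one_pow]
    rw [geom_sum_eq fun h' => h (hiff.1 h'), h1, sub_self, zero_div]

namespace Gens

variable {V : Type w} [AddCommGroup V] [Module k V] [FiniteDimensional k V]

omit hp [Fintype G] [CharP k p] [IsAlgClosed k] [FiniteDimensional k V] in
/-- In a perfect group an abelian image is trivial. -/
theorem map_eq_one_of_perfect (hperf : commutator G = ⊤) {C : Type*} [CommGroup C] (f : G →* C)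
    (a : G) : f a = 1 :=
  Abelianization.commutator_subset_ker f (hperf ▸ Subgroup.mem_top a)

omit [CharP k p] [IsAlgClosed k] [Fintype G] in
theorem det_eq_one (h : Hyp p G P E) (ρ : G →* Module.End k V) (a : G) :
    LinearMap.det (ρ a) = 1 := by
  have := map_eq_one_of_perfect h.perfect ((LinearMap.det.comp ρ).toHomUnits) a
  simpa using congrArg Units.val this

omit [CharP k p] [IsAlgClosed k] [Fintype G] in
theorem trace_of_dim_one (h : Hyp p G P E) (ρ : G →* Module.End k V)
    (hd : Module.finrank k V = 1) (a : G) : LinearMap.trace k V (ρ a) = 1 := by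
  let b := Module.finBasisOfFinrankEq k V hd
  have h1 : LinearMap.trace k V (ρ a) = LinearMap.det (ρ a) := by
    rw [LinearMap.trace_eq_matrix_trace k b, ← LinearMap.det_toMatrix b, Matrix.det_fin_one,
      Matrix.trace_fin_one]
  rw [h1, det_eq_one h]

/-- An irreducible representation of dimension `(p + 1) / 2` has trace one on `E \ {1}`. -/
theorem trace_half (g : Gens p P E y x m M) (h : Hyp p G P E) (hodd : Odd (Nat.card E))
    {ρ : G →* Module.End k V} (hρ : Irr ρ) (hd : 2 * Module.finrank k V = p + 1) {j : ℕ}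
    (hj : ¬ Nat.card E ∣ j) : LinearMap.trace k V (ρ (x ^ j)) = 1 := by
  have h5 := h.five
  obtain ⟨v, a, -, -, -, htr, hdet⟩ := g.single_block h hρ (by omega)
  obtain ⟨n, hn⟩ : ∃ n, n = Module.finrank k V := ⟨_, rfl⟩
  rw [← hn] at hd htr hdet
  obtain ⟨q, hq⟩ := h.dvd
  have hq2 : 2 ∣ q := by
    refine ((Nat.coprime_two_left.2 hodd).dvd_of_dvd_mul_left ?_)
    rw [← hq]; omega
  obtain ⟨s, rfl⟩ := hq2
  have hn1 : n = Nat.card E * s + 1 := by
    have : 2 * n = 2 * (Nat.card E * s + 1) := by rw [hd, mul_add, mul_left_comm, ← hq]; omega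
    omega
  have hζ := g.prim h k
  rw [det_eq_one h, Finset.prod_pow_eq_pow_sum] at hdet
  have hsum : Nat.card E ∣ ∑ i ∈ Finset.range n, i := by
    refine (Nat.coprime_two_right.2 hodd).dvd_of_dvd_mul_right ?_
    rw [Finset.sum_range_id_mul_two, hn1, Nat.add_sub_cancel]
    exact dvd_mul_of_dvd_right (dvd_mul_right _ _) _
  have ha : (m : k) ^ a = 1 := by
    rw [Finset.sum_add_distrib, Finset.sum_const, Finset.card_range, smul_eq_mul, pow_add,
      (hζ.pow_eq_one_iff_dvd _).2 hsum, mul_one, hn1, add_mul, one_mul, pow_add, mul_assoc,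
      pow_mul, hζ.pow_eq_one, one_pow, one_mul] at hdet
    exact hdet.symm
  rw [htr j, hn1]
  simp only [pow_add, ha, one_mul]
  have hz : (m : k) ^ j ≠ 1 := fun h1 => hj (hζ.dvd_of_pow_eq_one j h1)
  simp only [← pow_mul, mul_comm _ j]
  simp only [pow_mul]
  have hze : ((m : k) ^ j) ^ Nat.card E = 1 := by
    rw [← pow_mul, mul_comm, pow_mul, hζ.pow_eq_one, one_pow]
  rw [geom_sum_eq hz, pow_succ, pow_mul, hze, one_pow, one_mul, div_self (sub_ne_zero.2 hz)]

/-- The irreducible case is impossible. -/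
theorem not_irr_big (g : Gens p P E y x m M) (h : Hyp p G P E) (hodd : Odd (Nat.card E))
    {ρ : G →* Module.End k V} (hρ : Irr ρ) (hd : Module.finrank k V = p + 1) {lam : k}
    (hlam : IsPrimitiveRoot lam (Nat.card E))
    (htr : ∀ j, ¬ Nat.card E ∣ j → LinearMap.trace k V (ρ (x ^ j)) = lam ^ j + lam⁻¹ ^ j)
    (hsym : ∀ a, LinearMap.trace k V (ρ a⁻¹) = LinearMap.trace k V (ρ a)) : False := by
  classical
  obtain ⟨μ, κ, hμκ, hxT, hT, hcomm⟩ := g.big_block h hρ hd
  have he3 := h.three_le hodd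
  have h5 := h.five
  have hl0 : lam ≠ 0 := hlam.ne_zero (by omega)
  have h2 : (2 : k) ≠ 0 := by
    intro h0
    have := (CharP.cast_eq_zero_iff k p 2).1 (by exact_mod_cast h0)
    have := Nat.le_of_dvd two_pos this
    omega
  have hnd : ∀ j, 0 < j → j < Nat.card E → ¬ Nat.card E ∣ j := fun j hj hje hd' => by
    have := Nat.le_of_dvd hj hd'; omega
  have e1 := (hμκ 1 (hnd 1 one_pos (by omega))).symm.trans (htr 1 (hnd 1 one_pos (by omega)))
  have e2 := (hμκ 2 (hnd 2 two_pos (by omega))).symm.trans (htr 2 (hnd 2 two_pos (by omega)))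
  simp only [pow_one] at e1
  have hll : lam * lam⁻¹ = 1 := mul_inv_cancel₀ hl0
  have hprod : 2 * (μ * κ) = 2 * 1 := by
    linear_combination (μ + κ + lam + lam⁻¹) * e1 - e2 + (2 : k) * hll
  have hmk := mul_left_cancel₀ h2 hprod
  have hroot : (μ - lam) * (μ - lam⁻¹) = 0 := by linear_combination μ * e1 + hll - hmk
  have hμsq : μ * μ ≠ 1 := by
    intro hsq
    have hl2 : lam ^ 2 ≠ 1 := hlam.pow_ne_one_of_pos_of_lt two_ne_zero (by omega)
    rcases mul_eq_zero.1 hroot with h1 | h1 <;> rw [sub_eq_zero] at h1 <;> rw [h1] at hsq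
    · exact hl2 (by rw [pow_two, hsq])
    · exact hl2 (by rw [pow_two, ← inv_inv (lam * lam), mul_inv, hsq, inv_one])
  have hrel : ∑ s ∈ (Finset.univ : Finset ((P : Subgroup G) ⊕ (P : Subgroup G))),
      (Sum.elim (fun _ => (1 : k)) (fun _ => -μ) s) •
        ρ (Sum.elim (fun u : (P : Subgroup G) => x * (u : G)) (fun u : (P : Subgroup G) => (u : G)) s) = 0 := by
    rw [Fintype.sum_sum_type]
    simp only [Sum.elim_inl, Sum.elim_inr, one_smul, map_mul, ← Finset.mul_sum, ← Finset.smul_sum,
      g.sum_P ρ]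
    rw [hxT, neg_smul, add_neg_cancel]
  have hinv := hρ.inv_relation hsym _ _ _ hrel
  rw [Fintype.sum_sum_type] at hinv
  simp only [Sum.elim_inl, Sum.elim_inr, one_smul, mul_inv_rev, map_mul, ← Finset.sum_mul,
    ← Finset.smul_sum] at hinv
  rw [Fintype.sum_equiv (Equiv.inv (P : Subgroup G)) (fun u => ρ (u : G)⁻¹) (fun u => ρ (u : G))
    (fun u => by simp), g.sum_P ρ] at hinv
  obtain ⟨T, hTdef⟩ : ∃ T, T = (ρ y - 1) ^ (p - 1) := ⟨_, rfl⟩
  rw [← hTdef] at hinv hxT hT hcomm
  have h1 : T * ρ x⁻¹ = μ • T := by rwa [neg_smul, add_neg_eq_zero] at hinv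
  have h3 : T = (μ * μ) • T := by
    calc T = T * ρ x⁻¹ * ρ x := by rw [mul_assoc, ← map_mul, inv_mul_cancel, map_one, mul_one]
      _ = μ • (ρ x * T) := by rw [h1, smul_mul_assoc, hcomm]
      _ = (μ * μ) • T := by rw [hxT, smul_smul]
  refine hμsq ?_
  have h4 : (μ * μ - 1) • T = 0 := by rw [sub_smul, one_smul, ← h3, sub_self]
  exact sub_eq_zero.1 ((smul_eq_zero.1 h4).resolve_right hT)

set_option maxHeartbeats 1000000 in
/-- A representation with the traces of the exceptional character has a small faithful factor. -/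
theorem exists_small (g : Gens p P E y x m M) (h : Hyp p G P E) (hodd : Odd (Nat.card E))
    (ρ : G →* Module.End k V) (hd : Module.finrank k V = p + 1) {lam : k}
    (hlam : IsPrimitiveRoot lam (Nat.card E))
    (htr : ∀ j, ¬ Nat.card E ∣ j → LinearMap.trace k V (ρ (x ^ j)) = lam ^ j + lam⁻¹ ^ j)
    (hsym : ∀ a, LinearMap.trace k V (ρ a⁻¹) = LinearMap.trace k V (ρ a)) :
    ∃ (l : ℕ) (σ : G →* Module.End k (Fin l → k)), 2 ≤ l ∧ 2 * l + 1 ≤ p ∧ Irr σ := by
  classical
  have hρ : ¬ Irr ρ := fun hρ => g.not_irr_big h hodd hρ hd hlam htr hsym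
  obtain ⟨L, hL, hLd, hLt, hLlt⟩ := exists_factors _ ρ hd
  replace hLlt := hLlt hρ
  by_contra hcon
  push Not at hcon
  have he3 := h.three_le hodd
  have h5 := h.five
  have hl0 : lam ≠ 0 := hlam.ne_zero (by omega)
  have hnd : ∀ j, 0 < j → j < Nat.card E → ¬ Nat.card E ∣ j := fun j hj hje hd' => by
    have := Nat.le_of_dvd hj hd'; omega
  have hone : ∀ s ∈ L, 1 ≤ s.1 := fun s hs => by
    have := (hL s hs).1
    rcases Nat.eq_zero_or_pos s.1 with h0 | h0
    · obtain ⟨n, σ⟩ := s
      simp only at h0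
      subst h0
      exact absurd this (not_nontrivial_iff_subsingleton.2 inferInstance)
    · exact h0
  obtain ⟨L2, hL2⟩ : ∃ L2, L2 = L.filter fun s => decide (2 ≤ s.1) := ⟨_, rfl⟩
  obtain ⟨L1, hL1⟩ : ∃ L1, L1 = L.filter fun s => !decide (2 ≤ s.1) := ⟨_, rfl⟩
  have hperm : (L2 ++ L1).Perm L := hL2 ▸ hL1 ▸ List.filter_append_perm _ L
  have hL1mem : ∀ s ∈ L1, s.1 = 1 := fun s hs => by
    rw [hL1, List.mem_filter] at hs
    have := hone s hs.1
    simp only [Bool.not_eq_true', decide_eq_false_iff_not] at hs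
    omega
  have hL2mem : ∀ s ∈ L2, s ∈ L ∧ 2 ≤ s.1 ∧ p < 2 * s.1 + 1 := fun s hs => by
    rw [hL2, List.mem_filter, decide_eq_true_iff] at hs
    refine ⟨hs.1, hs.2, ?_⟩
    by_contra hle
    exact hcon s.1 s.2 hs.2 (by omega) (hL s hs.1)
  have htr' : ∀ a, LinearMap.trace k V (ρ a) =
      (L2.map fun s => LinearMap.trace k (Fin s.1 → k) (s.2 a)).sum + (L1.length : k) := by
    intro a
    rw [hLt, ← (hperm.map _).sum_eq, List.map_append, List.sum_append]
    congr 1
    rw [List.map_eq_replicate_iff.2 (fun s hs =>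
      trace_of_dim_one h s.2 (by rw [Module.finrank_fin_fun]; exact hL1mem s hs) a)]
    simp
  have hdim : (L2.map fun s => s.1).sum + L1.length = p + 1 := by
    rw [← hLd, ← (hperm.map _).sum_eq, List.map_append, List.sum_append]
    congr 1
    rw [List.map_eq_replicate_iff.2 (fun s hs => hL1mem s hs)]
    simp
  rcases L2 with _ | ⟨s₁, _ | ⟨s₂, L3⟩⟩
  · -- only trivial factors
    simp only [List.map_nil, List.sum_nil, zero_add] at hdim htr'
    rw [hdim] at htr'
    have e1 := (htr 1 (hnd 1 one_pos (by omega))).symm.trans (htr' (x ^ 1))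
    have e2 := (htr 2 (hnd 2 two_pos (by omega))).symm.trans (htr' (x ^ 2))
    rw [Nat.cast_add, CharP.cast_eq_zero, zero_add, Nat.cast_one] at e1 e2
    simp only [pow_one] at e1
    have h2 : (2 : k) = 0 := by
      linear_combination (lam + lam⁻¹ + 1) * e1 - e2 - (2 : k) * (mul_inv_cancel₀ hl0)
    have := (CharP.cast_eq_zero_iff k p 2).1 (by exact_mod_cast h2)
    have := Nat.le_of_dvd two_pos this
    omega
  · -- one non-trivial factor and at least one trivial one
    simp only [List.map_cons, List.map_nil, List.sum_cons, List.sum_nil, add_zero] at hdim htr'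
    obtain ⟨hs, hs2, hs3⟩ := hL2mem s₁ (List.mem_singleton_self _)
    have hslt := hLlt s₁ hs
    obtain ⟨v, a, -, -, -, hst, -⟩ := g.single_block h (hL s₁ hs)
      (by rw [Module.finrank_fin_fun]; omega)
    rw [Module.finrank_fin_fun] at hst
    obtain ⟨n, σ₁⟩ := s₁
    simp only at hdim hst hslt hs2 hs3 htr'
    obtain ⟨a₀, ha₀⟩ : ∃ a₀, a₀ = L1.length := ⟨_, rfl⟩
    rw [← ha₀] at hdim htr'
    have hζ := g.prim h k
    have hepos : 0 < Nat.card E := by omega
    have : NeZero (Nat.card E) := ⟨by omega⟩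
    obtain ⟨b, hbe, hb⟩ := hζ.eq_pow_of_pow_eq_one hlam.pow_eq_one
    have hbinv : lam⁻¹ = (m : k) ^ (Nat.card E - b) := by
      rw [← hb, inv_eq_iff_eq_inv]
      refine eq_inv_of_mul_eq_one_left ?_
      rw [← pow_add, show b + (Nat.card E - b) = Nat.card E by omega, hζ.pow_eq_one]
    have hb0 : b ≠ 0 := fun h0 => by
      rw [h0, pow_zero] at hb
      exact hlam.ne_one (by omega) hb.symm
    -- Fourier coefficients
    have hF : ∀ c, c < Nat.card E →
        ((Finset.range n).filter fun i => (a + i) % Nat.card E = c).card * (Nat.card E : k) +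
            (if c = 0 then (Nat.card E : k) else 0) * a₀ + 1 =
          (if b % Nat.card E = c then (Nat.card E : k) else 0) +
            (if (Nat.card E - b) % Nat.card E = c then (Nat.card E : k) else 0) := by
      intro c hc
      obtain ⟨Φ, hΦ⟩ : ∃ Φ : ℕ → k, ∀ j, Φ j =
          (∑ i ∈ Finset.range n, ((m : k) ^ (a + i)) ^ j) + (a₀ : k) * ((m : k) ^ 0) ^ j -
            (((m : k) ^ b) ^ j + ((m : k) ^ (Nat.card E - b)) ^ j) := ⟨_, fun _ => rfl⟩
      have hΦ0 : Φ 0 = -1 := by
        rw [hΦ]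
        simp only [pow_zero, Finset.sum_const, Finset.card_range, nsmul_eq_mul, mul_one]
        rw [← Nat.cast_add, hdim, Nat.cast_add, CharP.cast_eq_zero]
        norm_num
      have hΦj : ∀ j ∈ Finset.range (Nat.card E), j ≠ 0 → Φ j = 0 := by
        intro j hj hj0
        have hjd := hnd j (Nat.pos_of_ne_zero hj0) (Finset.mem_range.1 hj)
        rw [hΦ, pow_zero, one_pow, mul_one, ← hst j, ← htr' (x ^ j), htr j hjd, hbinv, ← hb]
        exact sub_self _
      have hsum : ∑ j ∈ Finset.range (Nat.card E), Φ j * ((m : k) ^ (Nat.card E - c)) ^ j = -1 := by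
        rw [Finset.sum_eq_single 0]
        · simp [hΦ0]
        · intro j hj hj0; rw [hΦj j hj hj0, zero_mul]
        · intro hh; exact absurd (Finset.mem_range.2 hepos) hh
      simp only [hΦ, sub_mul, add_mul, Finset.sum_mul, mul_assoc, Finset.sum_sub_distrib,
        Finset.sum_add_distrib, ← Finset.mul_sum] at hsum
      rw [Finset.sum_comm] at hsum
      simp only [sum_root_pow hζ hepos _ c hc, ← Finset.sum_filter, Finset.sum_const,
        nsmul_eq_mul] at hsum
      simp only [Nat.zero_mod, eq_comm (a := 0)] at hsum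
      linear_combination hsum
    obtain ⟨q, hq⟩ := h.dvd
    have hq2 : 2 ∣ q := by
      refine ((Nat.coprime_two_left.2 hodd).dvd_of_dvd_mul_left ?_)
      rw [← hq]
      have := hp.out.eq_two_or_odd
      omega
    have hq2' : 2 ≤ q := by
      refine Nat.le_of_dvd (Nat.pos_of_ne_zero fun h0 => ?_) hq2
      rw [h0, mul_zero] at hq
      omega
    have hqe : 3 * q ≤ p - 1 := hq ▸ Nat.mul_le_mul_right q he3
    have hq' : (p : k) = (Nat.card E : k) * q + 1 := by
      rw [← Nat.cast_mul, ← hq, Nat.cast_sub hp.out.pos, Nat.cast_one, sub_add_cancel]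
    rw [CharP.cast_eq_zero] at hq'
    have hne := g.card_ne_zero h k
    have hexact : ∀ t t' : ℕ, t ≤ p + 1 → t' + p > p + 1 → t' < p → (t : k) = t' → t = t' := by
      intro t t' ht ht' ht'p he
      rw [CharP.natCast_eq_natCast k p] at he
      have h1 := Nat.mod_add_div t p
      rw [he, Nat.mod_eq_of_lt ht'p] at h1
      rcases Nat.eq_zero_or_pos (t / p) with h0 | h0
      · rw [h0, mul_zero, add_zero] at h1; exact h1.symm
      · have := Nat.le_mul_of_pos_right p h0
        omega
    have h0 := hF 0 hepos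
    have hbm : b % Nat.card E = b := Nat.mod_eq_of_lt hbe
    have hbm' : (Nat.card E - b) % Nat.card E = Nat.card E - b := Nat.mod_eq_of_lt (by omega)
    rw [hbm, hbm', if_neg hb0, if_neg (show Nat.card E - b ≠ 0 by omega), if_pos rfl] at h0
    have hb' := hF b hbe
    have hne2 : Nat.card E - b ≠ b := fun h2 => by
      obtain ⟨r, hr⟩ := hodd
      omega
    rw [hbm, hbm', if_pos rfl, if_neg hne2, if_neg hb0, zero_mul, add_zero, add_zero] at hb'
    have hfle : ∀ c, ((Finset.range n).filter fun i => (a + i) % Nat.card E = c).card ≤ n :=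
      fun c => (Finset.card_filter_le _ _).trans (Finset.card_range n).le
    have e0 := hexact (((Finset.range n).filter fun i => (a + i) % Nat.card E = 0).card + a₀) q
      (by have := hfle 0; omega) (by omega) (by omega)
      (mul_left_cancel₀ hne (by push_cast; linear_combination h0 + hq'))
    have eb := hexact ((Finset.range n).filter fun i => (a + i) % Nat.card E = b).card (q + 1)
      (by have := hfle b; omega) (by omega) (by omega)
      (mul_left_cancel₀ hne (by push_cast; linear_combination hb' + hq'))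
    have := count_le_succ (n := n) (a := a) hepos hbe
    omega
  · -- at least two non-trivial factors
    obtain ⟨hs1, -, hs13⟩ := hL2mem s₁ (List.mem_cons_self)
    obtain ⟨hs2, -, hs23⟩ := hL2mem s₂ (List.mem_cons_of_mem _ List.mem_cons_self)
    simp only [List.map_cons, List.sum_cons] at hdim htr'
    have hL3 : L3 = [] := by
      rcases L3 with _ | ⟨s₃, L4⟩
      · rfl
      · have := (hL2mem s₃ (by simp)).2.1
        have := hp.out.eq_two_or_odd
        simp only [List.map_cons, List.sum_cons] at hdim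
        omega
    subst hL3
    simp only [List.map_nil, List.sum_nil, add_zero] at hdim htr'
    have hpo := hp.out.eq_two_or_odd
    have h0 : L1.length = 0 := by omega
    have e1 := (htr 1 (hnd 1 one_pos (by omega))).symm.trans (htr' (x ^ 1))
    rw [g.trace_half h hodd (hL s₁ hs1) (by rw [Module.finrank_fin_fun]; omega)
        (hnd 1 one_pos (by omega)),
      g.trace_half h hodd (hL s₂ hs2) (by rw [Module.finrank_fin_fun]; omega)
        (hnd 1 one_pos (by omega)), h0, Nat.cast_zero, add_zero, pow_one, pow_one] at e1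
    refine hlam.ne_one (by omega) ?_
    have : (lam - 1) * (lam - 1) = 0 := by
      linear_combination lam * e1 - mul_inv_cancel₀ hl0
    simpa [sub_eq_zero] using this

end Gens

open Cfsg.Agent.Lib.Blocks in
/-- Over some algebraically closed field of characteristic `p` there is an irreducible
representation of dimension between `2` and `(p - 1) / 2`. -/
theorem Hyp.exists_small_rep (h : Hyp p G P E) (hodd : Odd (Nat.card E)) :
    ∃ (k : Type) (_ : Field k) (_ : CharP k p) (_ : IsAlgClosed k) (l : ℕ)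
      (σ : G →* Module.End k (Fin l → k)), 2 ≤ l ∧ 2 * l + 1 ≤ p ∧ Irr σ := by
  classical
  obtain ⟨M', hM'⟩ := exists_isPModular p hp.out
  haveI : M'.IsMaximal := hM'.2.1
  letI : Field (Cfsg.AlgInt ⧸ M') := Ideal.Quotient.field M'
  haveI := charP_residue hM'
  haveI : IsAlgClosed (Cfsg.AlgInt ⧸ M') := isAlgClosed_residueField (M := M')
  obtain ⟨y, x, m, M, g⟩ := h.exists_gens
  obtain ⟨ψ, Φ, hψ, hΦ1, hΦE, hΦinv⟩ := h.exists_exceptional hodd
  obtain ⟨n, T, hT⟩ := BrauerChar.exists_matrix_localRing hM'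
    (Characters.Basic.isCharacter_irr Φ)
  have hn : n = p + 1 := by
    have h1 := hT 1
    rw [map_one, Matrix.trace_one, Fintype.card_fin, hΦ1] at h1
    push_cast at h1
    exact_mod_cast h1
  let A : G →* Module.End (Cfsg.AlgInt ⧸ M') (Fin n → Cfsg.AlgInt ⧸ M') :=
    (Matrix.toLinAlgEquiv'.toMulEquiv.toMonoidHom).comp
      (((residue M').mapMatrix.toMonoidHom).comp T)
  have hA : ∀ a, LinearMap.trace (Cfsg.AlgInt ⧸ M') _ (A a) = residue M' (T a).trace := by
    intro a
    show LinearMap.trace _ _ (Matrix.toLinAlgEquiv' ((residue M').mapMatrix (T a))) = _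
    rw [show Matrix.toLinAlgEquiv' ((residue M').mapMatrix (T a)) =
      Matrix.toLin' ((residue M').mapMatrix (T a)) from rfl, Matrix.trace_toLin'_eq]
    simp [Matrix.trace]
  obtain ⟨j1, hj1⟩ : ∃ ζ : E, (ζ : G) = x := ⟨⟨x, g.mem_x⟩, rfl⟩
  have hordj : orderOf j1 = Nat.card E := by rw [← Subgroup.orderOf_coe, hj1, g.ord_x]
  have hpow : (ψ j1 : ℂ) ^ Nat.card E = 1 := by
    rw [← Units.val_pow_eq_pow_val, ← map_pow, pow_card_eq_one', map_one, Units.val_one]
  have he3 := h.three_le hodd
  have hint : IsIntegral ℤ (ψ j1 : ℂ) :=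
    IsIntegral.of_pow (by omega : 0 < Nat.card E) (hpow ▸ isIntegral_one)
  have hint' : IsIntegral ℤ ((ψ j1 : ℂ)⁻¹) := by
    refine IsIntegral.of_pow (by omega : 0 < Nat.card E) ?_
    rw [inv_pow, hpow, inv_one]; exact isIntegral_one
  obtain ⟨z, hz⟩ : ∃ z : localRing M', (z : ℂ) = ψ j1 :=
    ⟨⟨_, mem_localRing_of_isIntegral hint⟩, rfl⟩
  obtain ⟨z', hz'⟩ : ∃ z : localRing M', (z : ℂ) = (ψ j1 : ℂ)⁻¹ :=
    ⟨⟨_, mem_localRing_of_isIntegral hint'⟩, rfl⟩
  have hzz : residue M' z' = (residue M' z)⁻¹ := by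
    refine eq_inv_of_mul_eq_one_left ?_
    rw [← map_mul, ← map_one (residue M')]
    congr 1
    exact Subtype.ext (by push_cast; rw [hz, hz', inv_mul_cancel₀ (Units.ne_zero _)])
  have hze : z ^ Nat.card E = 1 := Subtype.ext (by push_cast; rw [hz]; exact hpow)
  have hlam : IsPrimitiveRoot (residue M' z) (Nat.card E) := by
    refine IsPrimitiveRoot.mk_of_lt _ Nat.card_pos (by rw [← map_pow, hze, map_one])
      fun j hj hje hj1' => ?_
    have hne : (z : ℂ) ^ j ≠ 1 := by
      intro h1
      have h2 : j1 ^ j = 1 := hψ (Units.ext (by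
        rw [map_pow, map_one, Units.val_pow_eq_pow_val, Units.val_one, ← hz, h1]))
      have := Nat.le_of_dvd hj (hordj ▸ orderOf_dvd_of_pow_eq_one h2)
      omega
    have hsum : ∑ i ∈ Finset.range (Nat.card E), (z ^ j) ^ i = (0 : localRing M') := by
      refine Subtype.ext ?_
      push_cast
      rw [geom_sum_eq hne, ← pow_mul, mul_comm, pow_mul, hz, hpow, one_pow, sub_self, zero_div]
    have h2 := congrArg (residue M') hsum
    simp only [map_sum, map_pow, hj1', one_pow, Finset.sum_const, Finset.card_range, map_zero,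
      nsmul_eq_mul, mul_one] at h2
    exact g.card_ne_zero h _ h2
  have htr : ∀ j, ¬ Nat.card E ∣ j → LinearMap.trace _ _ (A (x ^ j)) =
      residue M' z ^ j + (residue M' z)⁻¹ ^ j := fun j hj => by
    rw [hA, ← hzz, ← map_pow, ← map_pow, ← map_add]
    congr 1
    refine Subtype.ext ?_
    have hx : x ^ j ∈ E := pow_mem g.mem_x j
    have hx1 : x ^ j ≠ 1 := fun h1 => hj (g.ord_x ▸ orderOf_dvd_of_pow_eq_one h1)
    rw [hT, hΦE _ hx hx1, show (⟨x ^ j, hx⟩ : E) = j1 ^ j from Subtype.ext (by simp [hj1])]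
    push_cast
    rw [hz, hz', map_pow, map_pow, MonoidHom.inv_apply, inv_pow]
    simp
  have hsym : ∀ a, LinearMap.trace _ _ (A a⁻¹) = LinearMap.trace _ _ (A a) := fun a => by
    rw [hA, hA]
    congr 1
    exact Subtype.ext (by rw [hT, hT, hΦinv])
  obtain ⟨l, σ, hl, hl', hσ⟩ := g.exists_small h hodd A
    (by rw [Module.finrank_fin_fun, hn]) hlam htr hsym
  exact ⟨_, inferInstance, inferInstance, inferInstance, l, σ, hl, hl', hσ⟩

end Cfsg.Agent.Lib.UniqueDegree79
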