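import Cfsg.Agent.Lib.UniqueDegree79.Modular
import Cfsg.Agent.Lib.UniqueDegree79.Adjoint
import Mathlib.RingTheory.IntegralDomain
import Mathlib.FieldTheory.IsAlgClosed.Basic

/-!
# The centraliser of an involution in a three-dimensional orthogonal group

An involution fixes a line and negates a plane with two isotropic lines; the elements keeping
both isotropic lines form a cyclic group inverted by the others.  This gives the hypothesis of the
Brauer–Suzuki–Wall theorem.
-/

namespace Cfsg.Agent.Lib.UniqueDegree79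

open Subgroup Finset

universe u v w

section Frame

variable {k : Type v} [Field k] {V : Type w} [AddCommGroup V] [Module k V]

/-- An adapted basis: an anisotropic vector and a hyperbolic pair. -/
structure Frame (B : LinearMap.BilinForm k V) (b : Module.Basis (Fin 3) k V) : Prop where
  h00 : B (b 0) (b 0) ≠ 0
  h01 : B (b 0) (b 1) = 0
  h02 : B (b 0) (b 2) = 0
  h11 : B (b 1) (b 1) = 0
  h22 : B (b 2) (b 2) = 0
  h12 : B (b 1) (b 2) = 1

variable [FiniteDimensional k V] [IsAlgClosed k]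

/-- An isometry of square one and determinant one other than `1` has a frame. -/
theorem exists_frame (h2 : (2 : k) ≠ 0) (hd : Module.finrank k V = 3)
    (B : LinearMap.BilinForm k V) (hsym : ∀ a b, B a b = B b a)
    (hnd : ∀ a, (∀ b, B a b = 0) → a = 0) (T : Module.End k V) (hT : T * T = 1) (hT1 : T ≠ 1)
    (hinv : ∀ a b, B (T a) (T b) = B a b) (hdet : LinearMap.det T = 1) :
    ∃ b : Module.Basis (Fin 3) k V, Frame B b ∧ T (b 0) = b 0 ∧ T (b 1) = -b 1 ∧ T (b 2) = -b 2 := by
  classical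
  obtain ⟨Pl, hPl⟩ : ∃ Pl, Pl = LinearMap.ker (T - 1) := ⟨_, rfl⟩
  obtain ⟨Mi, hMi⟩ : ∃ Mi, Mi = LinearMap.ker (T + 1) := ⟨_, rfl⟩
  have hTT : ∀ u, T (T u) = u := fun u => by rw [← Module.End.mul_apply, hT, Module.End.one_apply]
  have hPlm : ∀ u, u ∈ Pl ↔ T u = u := fun u => by
    rw [hPl, LinearMap.mem_ker, LinearMap.sub_apply, Module.End.one_apply, sub_eq_zero]
  have hMim : ∀ u, u ∈ Mi ↔ T u = -u := fun u => by
    rw [hMi, LinearMap.mem_ker, LinearMap.add_apply, Module.End.one_apply, add_eq_zero_iff_eq_neg]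
  have hcompl : IsCompl Pl Mi := by
    refine ⟨Submodule.disjoint_def.2 fun u hu hu' => ?_, codisjoint_iff.2 ?_⟩
    · rw [hPlm] at hu
      rw [hMim, hu] at hu'
      have h3 : (2 : k) • u = 0 := by rw [two_smul]; nth_rw 2 [hu']; exact add_neg_cancel u
      exact (smul_eq_zero.1 h3).resolve_left h2
    · refine eq_top_iff.2 fun u _ => Submodule.mem_sup.2
        ⟨(2 : k)⁻¹ • (u + T u), ?_, (2 : k)⁻¹ • (u - T u), ?_, ?_⟩
      · rw [hPlm, map_smul, map_add, hTT, add_comm]
      · rw [hMim, map_smul, map_sub, hTT, ← smul_neg, neg_sub]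
      · rw [← smul_add, show u + T u + (u - T u) = (2 : k) • u by rw [two_smul]; abel, smul_smul,
          inv_mul_cancel₀ h2, one_smul]
  have hsum := Submodule.finrank_add_eq_of_isCompl hcompl
  rw [hd] at hsum
  have hdet' : LinearMap.det T = (-1 : k) ^ Module.finrank k Mi := by
    let bb := ((Module.finBasis k Pl).prod (Module.finBasis k Mi)).map
      (Submodule.prodEquivOfIsCompl _ _ hcompl)
    rw [← LinearMap.det_toMatrix bb, show LinearMap.toMatrix bb bb T =
      Matrix.diagonal (Sum.elim (fun _ => (1 : k)) (fun _ => -1)) from ?_, Matrix.det_diagonal,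
      Fintype.prod_sum_type]
    · simp
    · ext i j
      rw [LinearMap.toMatrix_apply]
      rcases j with j | j
      · have : T (bb (Sum.inl j)) = bb (Sum.inl j) := by
          refine (hPlm _).1 ?_
          simp [bb]
        rw [this, Module.Basis.repr_self, Finsupp.single_apply]
        by_cases hij : i = Sum.inl j
        · subst hij; simp
        · rw [Matrix.diagonal_apply_ne _ hij, if_neg (Ne.symm hij)]
      · have : T (bb (Sum.inr j)) = -bb (Sum.inr j) := by
          refine (hMim _).1 ?_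
          simp [bb]
        rw [this, map_neg, Finsupp.neg_apply, Module.Basis.repr_self, Finsupp.single_apply]
        by_cases hij : i = Sum.inr j
        · subst hij; simp
        · rw [Matrix.diagonal_apply_ne _ hij, if_neg (Ne.symm hij), neg_zero]
  have hMi2 : Module.finrank k Mi = 2 := by
    have hle : Module.finrank k Mi ≤ 3 := by omega
    interval_cases hi : Module.finrank k Mi
    · exfalso
      refine hT1 (LinearMap.ext fun u => ?_)
      have hbot := Submodule.finrank_eq_zero.1 hi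
      have := hcompl.sup_eq_top
      rw [hbot, sup_bot_eq] at this
      exact (hPlm u).1 (this ▸ Submodule.mem_top)
    · rw [hdet'] at hdet; norm_num at hdet
      exact absurd (show (2 : k) = 0 by linear_combination (-1 : k) * hdet) h2
    · rfl
    · rw [hdet'] at hdet; norm_num at hdet
      exact absurd (show (2 : k) = 0 by linear_combination (-1 : k) * hdet) h2
  obtain ⟨v0, hv0⟩ : ∃ v0, v0 = ((Module.finBasisOfFinrankEq k Pl (show _ = 1 by omega)) 0 : V) :=
    ⟨_, rfl⟩
  have hv0P : v0 ∈ Pl := hv0 ▸ Subtype.mem _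
  have hv0ne : v0 ≠ 0 := by
    rw [hv0]
    exact fun h0 => (Module.finBasisOfFinrankEq k Pl (show _ = 1 by omega)).ne_zero 0 (Subtype.ext h0)
  have hPlspan : ∀ u ∈ Pl, ∃ c : k, u = c • v0 := fun u hu => by
    let bP := Module.finBasisOfFinrankEq k Pl (show _ = 1 by omega)
    refine ⟨bP.repr ⟨u, hu⟩ 0, ?_⟩
    have h1 := bP.sum_repr ⟨u, hu⟩
    rw [Fin.sum_univ_one] at h1
    rw [hv0]
    exact (congrArg Subtype.val h1).symm
  have horth : ∀ a ∈ Pl, ∀ c ∈ Mi, B a c = 0 := fun a ha c hc => by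
    have h1 := hinv a c
    rw [(hPlm a).1 ha, (hMim c).1 hc, map_neg] at h1
    have h3 : (2 : k) * B a c = 0 := by linear_combination -h1
    exact (mul_eq_zero.1 h3).resolve_left h2
  have hdecomp : ∀ u, ∃ a ∈ Pl, ∃ c ∈ Mi, a + c = u := fun u =>
    Submodule.mem_sup.1 (hcompl.sup_eq_top ▸ Submodule.mem_top : u ∈ Pl ⊔ Mi)
  have h00 : B v0 v0 ≠ 0 := fun h0 => hv0ne (hnd _ fun u => by
    obtain ⟨a, ha, c, hc, rfl⟩ := hdecomp u
    obtain ⟨t, rfl⟩ := hPlspan a ha
    rw [map_add, map_smul, h0, smul_zero, horth _ hv0P c hc, add_zero])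
  have hndM : ∀ c ∈ Mi, (∀ d ∈ Mi, B c d = 0) → c = 0 := fun c hc hall => hnd _ fun u => by
    obtain ⟨a, ha, d, hd', rfl⟩ := hdecomp u
    rw [map_add, hsym c a, horth a ha c hc, hall d hd', add_zero]
  let bM := Module.finBasisOfFinrankEq k Mi hMi2
  obtain ⟨p1, hp1, hp1ne, hp11⟩ : ∃ p1 ∈ Mi, p1 ≠ 0 ∧ B p1 p1 = 0 := by
    by_cases haa : B (bM 0 : V) (bM 0 : V) = 0
    · exact ⟨_, (bM 0).2, fun h0 => bM.ne_zero 0 (Subtype.ext h0), haa⟩
    obtain ⟨r, hr⟩ := IsAlgClosed.exists_eq_mul_self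
      (B (bM 0 : V) (bM 1 : V) ^ 2 - B (bM 0 : V) (bM 0 : V) * B (bM 1 : V) (bM 1 : V))
    obtain ⟨z, hz⟩ : ∃ z, z = (-B (bM 0 : V) (bM 1 : V) + r) / B (bM 0 : V) (bM 0 : V) := ⟨_, rfl⟩
    refine ⟨((z • bM 0 + bM 1 : Mi) : V), Subtype.mem _, fun h0 => ?_, ?_⟩
    · have h1 : z • bM 0 + bM 1 = 0 := Subtype.ext h0
      have h3 := congrArg (fun u => bM.repr u 1) h1
      simp at h3
    · simp only [Submodule.coe_add, Submodule.coe_smul, map_add, map_smul, LinearMap.add_apply,
        LinearMap.smul_apply, smul_eq_mul, hsym (bM 1 : V) (bM 0 : V)]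
      rw [hz]
      field_simp
      linear_combination -hr
  obtain ⟨q, hq, hq1⟩ : ∃ q ∈ Mi, B p1 q = 1 := by
    obtain ⟨d, hd', hd1⟩ : ∃ d ∈ Mi, B p1 d ≠ 0 := by
      by_contra! hc
      exact hp1ne (hndM p1 hp1 hc)
    exact ⟨(B p1 d)⁻¹ • d, Submodule.smul_mem _ _ hd', by rw [map_smul, smul_eq_mul, inv_mul_cancel₀ hd1]⟩
  obtain ⟨p2, hp2def⟩ : ∃ p2, p2 = q - (B q q / 2) • p1 := ⟨_, rfl⟩
  have hp2 : p2 ∈ Mi := hp2def ▸ Mi.sub_mem hq (Mi.smul_mem _ hp1)
  have hp12 : B p1 p2 = 1 := by rw [hp2def, map_sub, map_smul, hq1, hp11, smul_zero, sub_zero]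
  have hp22 : B p2 p2 = 0 := by
    rw [hp2def]
    simp only [map_sub, map_smul, LinearMap.sub_apply, LinearMap.smul_apply, smul_eq_mul, hq1, hp11,
      hsym q p1]
    field_simp
    ring
  have hli : LinearIndependent k ![v0, p1, p2] := by
    rw [Fintype.linearIndependent_iff]
    intro c hc
    simp only [Fin.sum_univ_three, Matrix.cons_val_zero, Matrix.cons_val_one, Matrix.cons_val_two,
      Matrix.tail_cons, Matrix.head_cons] at hc
    have e1 := congrArg (B p1) hc
    have e2 := congrArg (B p2) hc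
    simp only [map_add, map_smul, map_zero, hp11, hp12, hp22, hsym p2 p1, hsym p1 v0, hsym p2 v0,
      horth _ hv0P _ hp1, horth _ hv0P _ hp2, smul_zero, zero_add, add_zero, smul_eq_mul,
      mul_one, mul_zero] at e1 e2
    have e0 : c 0 = 0 := by
      rw [e1, e2, zero_smul, zero_smul, add_zero, add_zero] at hc
      exact (smul_eq_zero.1 hc).resolve_right hv0ne
    intro i
    fin_cases i <;> assumption
  let b := basisOfLinearIndependentOfCardEqFinrank hli (by rw [Fintype.card_fin, hd])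
  have hb0 : b 0 = v0 := by simp [b]
  have hb1 : b 1 = p1 := by simp [b]
  have hb2 : b 2 = p2 := by simp [b]
  refine ⟨b, ⟨?_, ?_, ?_, ?_, ?_, ?_⟩, ?_, ?_, ?_⟩ <;> simp only [hb0, hb1, hb2]
  exacts [h00, horth _ hv0P _ hp1, horth _ hv0P _ hp2, hp11, hp22, hp12, (hPlm _).1 hv0P,
    (hMim _).1 hp1, (hMim _).1 hp2]

end Frame

variable {G : Type u} [Group G] {p : ℕ} [hp : Fact p.Prime] [Fintype G] {P : Sylow p G}
  {E : Subgroup G} {k : Type v} [Field k] [CharP k p] [IsAlgClosed k]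

set_option maxHeartbeats 2000000 in
/-- A nontrivial three-dimensional orthogonal representation gives the hypothesis of the
Brauer–Suzuki–Wall theorem. -/
theorem Hyp.bsw_of_three (h : Hyp p G P E) (τ : G →* Module.End k (Fin 3 → k))
    (B : LinearMap.BilinForm k (Fin 3 → k)) (hsym : ∀ a b, B a b = B b a)
    (hnd : ∀ a, (∀ b, B a b = 0) → a = 0) (hinv : ∀ c a b, B (τ c a) (τ c b) = B a b)
    {x : G} (hx : τ x ≠ 1) : ∃ (z s : G) (K : Subgroup G), BSW.Hyp z s K := by
  classical
  have h5 := h.five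
  have h2 : (2 : k) ≠ 0 := by
    intro h0
    have := Nat.le_of_dvd two_pos ((CharP.cast_eq_zero_iff k p 2).1 (by exact_mod_cast h0))
    omega
  -- faithfulness
  have hfaith : ∀ g, τ g = 1 → g = 1 := by
    intro g hg
    rcases h.simple.eq_bot_or_eq_top_of_normal τ.ker (MonoidHom.normal_ker τ) with hb | ht
    · exact Subgroup.mem_bot.1 (hb ▸ MonoidHom.mem_ker.2 hg)
    · exact absurd (MonoidHom.mem_ker.1 (ht ▸ mem_top x : x ∈ τ.ker)) hx
  have hfaith' : ∀ g g', τ g = τ g' → g = g' := fun g g' e => inv_mul_eq_one.1 (hfaith _ (by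
    rw [map_mul, ← e, ← map_mul, inv_mul_cancel, map_one])) |>.symm |> Eq.symm
  -- a central involution of a Sylow 2-subgroup
  obtain ⟨S⟩ : Nonempty (Sylow 2 G) := inferInstance
  have hSne : (S : Subgroup G) ≠ ⊥ := by
    refine S.ne_bot_of_dvd_card ?_
    exact (dvd_mul_right 2 _).trans (h.nE ▸ Subgroup.card_subgroup_dvd_card _)
  have : Nontrivial (S : Subgroup G) := (Subgroup.nontrivial_iff_ne_bot _).2 hSne
  have := S.isPGroup'.center_nontrivial
  obtain ⟨c₀, hc₀⟩ := exists_prime_orderOf_dvd_card' (G := Subgroup.center (S : Subgroup G)) 2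
    (by
      obtain ⟨j, hj⟩ := (S.isPGroup'.to_subgroup (Subgroup.center _)).exists_card_eq
      have := Finite.one_lt_card (α := Subgroup.center (S : Subgroup G))
      rw [hj] at this ⊢
      exact dvd_pow_self 2 (by rintro rfl; simp at this))
  obtain ⟨v, hvdef⟩ : ∃ v : G, v = ((c₀ : (S : Subgroup G)) : G) := ⟨_, rfl⟩
  have hv : orderOf v = 2 := by rw [hvdef, Subgroup.orderOf_coe, Subgroup.orderOf_coe, hc₀]
  have hvS : ∀ g ∈ (S : Subgroup G), g * v = v * g := fun g hg => by
    have h1 := (Subgroup.mem_center_iff.1 c₀.2) ⟨g, hg⟩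
    rw [hvdef]
    exact congrArg Subtype.val h1
  obtain ⟨b, hF, hT0, hT1, hT2⟩ := exists_frame h2 (Module.finrank_fin_fun k) B hsym hnd (τ v)
    (by rw [← map_mul, Involutions.Basic.invol_mul_self hv, map_one])
    (fun e => Involutions.Basic.invol_ne_one hv (hfaith v e)) (hinv v)
    (Gens.det_eq_one h τ v)
  -- coordinates
  have h21 : B (b 2) (b 1) = 1 := (hsym _ _).trans hF.h12
  have h10 : B (b 1) (b 0) = 0 := (hsym _ _).trans hF.h01
  have h20 : B (b 2) (b 0) = 0 := (hsym _ _).trans hF.h02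
  have hcoord : ∀ u : Fin 3 → k, u = (B u (b 0) / B (b 0) (b 0)) • b 0 + B u (b 2) • b 1 +
      B u (b 1) • b 2 := by
    intro u
    obtain ⟨c, hc⟩ : ∃ c : Fin 3 → k, c 0 • b 0 + c 1 • b 1 + c 2 • b 2 = u :=
      ⟨fun i => b.repr u i, by rw [← Fin.sum_univ_three (fun i => b.repr u i • b i), b.sum_repr]⟩
    subst hc
    simp only [map_add, map_smul, LinearMap.add_apply, LinearMap.smul_apply, smul_eq_mul, hF.h01,
      hF.h02, hF.h11, hF.h22, hF.h12, h21, h10, h20, mul_zero, mul_one, add_zero, zero_add]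
    rw [mul_div_assoc, div_self hF.h00, mul_one]
  have hext : ∀ g g', τ g (b 0) = τ g' (b 0) → τ g (b 1) = τ g' (b 1) → τ g (b 2) = τ g' (b 2) →
      g = g' := by
    intro g g' e0 e1 e2
    refine hfaith' g g' (b.ext fun i => ?_)
    fin_cases i <;> assumption
  -- elements commuting with `v`
  have hvap : ∀ g, g * v = v * g → ∀ u, τ v (τ g u) = τ g (τ v u) := fun g hg u => by
    rw [← Module.End.mul_apply, ← Module.End.mul_apply, ← map_mul, ← map_mul, hg]
  have hvB : ∀ u, B (τ v u) (b 0) = B u (b 0) ∧ B (τ v u) (b 1) = -B u (b 1) ∧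
      B (τ v u) (b 2) = -B u (b 2) := by
    intro u
    have e0 := hinv v u (b 0)
    have e1 := hinv v u (b 1)
    have e2 := hinv v u (b 2)
    rw [hT0] at e0
    rw [hT1, map_neg] at e1
    rw [hT2, map_neg] at e2
    exact ⟨e0, by linear_combination -e1, by linear_combination -e2⟩
  have hdouble : ∀ c : k, c = -c → c = 0 := fun c hc =>
    (mul_eq_zero.1 (show (2 : k) * c = 0 by linear_combination hc)).resolve_left h2
  have hC0 : ∀ g, g * v = v * g → τ g (b 0) = (B (τ g (b 0)) (b 0) / B (b 0) (b 0)) • b 0 := by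
    intro g hg
    have hfix : τ v (τ g (b 0)) = τ g (b 0) := by rw [hvap g hg, hT0]
    obtain ⟨-, e1, e2⟩ := hvB (τ g (b 0))
    rw [hfix] at e1 e2
    conv_lhs => rw [hcoord (τ g (b 0)), hdouble _ e1, hdouble _ e2, zero_smul, zero_smul, add_zero,
      add_zero]
  have hCi : ∀ g, g * v = v * g → ∀ i : Fin 3, i ≠ 0 →
      τ g (b i) = B (τ g (b i)) (b 2) • b 1 + B (τ g (b i)) (b 1) • b 2 := by
    intro g hg i hi
    have hneg : τ v (τ g (b i)) = -τ g (b i) := by
      rw [hvap g hg]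
      fin_cases i
      · exact absurd rfl hi
      · exact (congrArg (τ g) hT1).trans (map_neg _ _)
      · exact (congrArg (τ g) hT2).trans (map_neg _ _)
    obtain ⟨e0, -, -⟩ := hvB (τ g (b i))
    rw [hneg, map_neg, LinearMap.neg_apply] at e0
    conv_lhs => rw [hcoord (τ g (b i)), hdouble _ e0.symm, zero_div, zero_smul, zero_add]
  have hshape : ∀ g, g * v = v * g → (∃ t : k, t ≠ 0 ∧ τ g (b 1) = t • b 1 ∧ τ g (b 2) = t⁻¹ • b 2) ∨
      (∃ t : k, t ≠ 0 ∧ τ g (b 1) = t • b 2 ∧ τ g (b 2) = t⁻¹ • b 1) := by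
    intro g hg
    have e1 := hCi g hg 1 (by decide)
    have e2 := hCi g hg 2 (by decide)
    obtain ⟨a1, ha1⟩ : ∃ a, a = B (τ g (b 1)) (b 2) := ⟨_, rfl⟩
    obtain ⟨a2, ha2⟩ : ∃ a, a = B (τ g (b 1)) (b 1) := ⟨_, rfl⟩
    obtain ⟨c1, hc1⟩ : ∃ a, a = B (τ g (b 2)) (b 2) := ⟨_, rfl⟩
    obtain ⟨c2, hc2⟩ : ∃ a, a = B (τ g (b 2)) (b 1) := ⟨_, rfl⟩
    rw [← ha1, ← ha2] at e1
    rw [← hc1, ← hc2] at e2
    have i11 := hinv g (b 1) (b 1)
    have i22 := hinv g (b 2) (b 2)
    have i12 := hinv g (b 1) (b 2)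
    rw [e1] at i11 i12
    rw [e2] at i22 i12
    simp only [map_add, map_smul, LinearMap.add_apply, LinearMap.smul_apply, smul_eq_mul, hF.h11,
      hF.h22, hF.h12, h21, mul_zero, mul_one, add_zero, zero_add] at i11 i22 i12
    have p11 : a1 * a2 = 0 :=
      (mul_eq_zero.1 (show (2 : k) * (a1 * a2) = 0 by linear_combination i11)).resolve_left h2
    have p22 : c1 * c2 = 0 :=
      (mul_eq_zero.1 (show (2 : k) * (c1 * c2) = 0 by linear_combination i22)).resolve_left h2
    rcases mul_eq_zero.1 p11 with h0 | h0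
    · right
      have ha : a2 * c1 = 1 := by rw [h0] at i12; linear_combination i12
      have ha2' : a2 ≠ 0 := left_ne_zero_of_mul_eq_one ha
      have hc : c2 = 0 := (mul_eq_zero.1 p22).resolve_left (right_ne_zero_of_mul_eq_one ha)
      refine ⟨a2, ha2', by rw [e1, h0, zero_smul, zero_add], ?_⟩
      rw [e2, hc, zero_smul, add_zero, eq_inv_of_mul_eq_one_right ha]
    · left
      have ha : a1 * c2 = 1 := by rw [h0] at i12; linear_combination i12
      have ha1' : a1 ≠ 0 := left_ne_zero_of_mul_eq_one ha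
      have hc : c1 = 0 := (mul_eq_zero.1 p22).resolve_right (right_ne_zero_of_mul_eq_one ha)
      refine ⟨a1, ha1', by rw [e1, h0, zero_smul, add_zero], ?_⟩
      rw [e2, hc, zero_smul, zero_add, eq_inv_of_mul_eq_one_right ha]
  have hswap : ∀ (g : G) (t : k), t ≠ 0 → τ g (b 1) = t • b 2 → ∀ t' : k, τ g (b 1) ≠ t' • b 1 := by
    intro g t ht e t' e'
    have h1 := congrArg (fun u => B u (b 1)) (e.symm.trans e')
    simp only [map_smul, LinearMap.smul_apply, smul_eq_mul, hF.h11, h21, mul_zero, mul_one] at h1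
    exact ht h1
  -- the torus
  let A : Subgroup G :=
    { carrier := {g | g * v = v * g ∧ ∃ t : k, τ g (b 1) = t • b 1}
      one_mem' := ⟨by simp, 1, by simp⟩
      mul_mem' := by
        rintro g g' ⟨hg, t, ht⟩ ⟨hg', t', ht'⟩
        refine ⟨by rw [mul_assoc, hg', ← mul_assoc, hg, mul_assoc], t' * t, ?_⟩
        rw [map_mul, Module.End.mul_apply, ht', map_smul, ht, smul_smul]
      inv_mem' := by
        rintro g ⟨hg, t, ht⟩
        refine ⟨?_, t⁻¹, ?_⟩
        · exact ((show Commute g v from hg).inv_left).eq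
        · have ht0 : t ≠ 0 := fun h0 => by
            have h1 := congrArg (τ g⁻¹) ht
            rw [← Module.End.mul_apply, ← map_mul, inv_mul_cancel, map_one, h0, zero_smul,
              map_zero] at h1
            exact b.ne_zero 1 h1
          have h1 := congrArg (τ g⁻¹) ht
          rw [← Module.End.mul_apply, ← map_mul, inv_mul_cancel, map_one, map_smul,
            Module.End.one_apply] at h1
          conv_rhs => rw [h1, smul_smul, inv_mul_cancel₀ ht0, one_smul] }
  have hAdata : ∀ g ∈ A, ∃ t : k, t ≠ 0 ∧ τ g (b 1) = t • b 1 ∧ τ g (b 2) = t⁻¹ • b 2 ∧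
      τ g (b 0) = b 0 := by
    rintro g ⟨hg, t', ht'⟩
    rcases hshape g hg with ⟨t, ht, e1, e2⟩ | ⟨t, ht, e1, -⟩
    · refine ⟨t, ht, e1, e2, ?_⟩
      obtain ⟨c, hc⟩ : ∃ c, c = B (τ g (b 0)) (b 0) / B (b 0) (b 0) := ⟨_, rfl⟩
      have e0 := hC0 g hg
      rw [← hc] at e0
      have hdet := Gens.det_eq_one h τ g
      rw [← LinearMap.det_toMatrix b, show LinearMap.toMatrix b b (τ g) =
        Matrix.diagonal ![c, t, t⁻¹] from ?_, Matrix.det_diagonal, Fin.prod_univ_three] at hdet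
      · simp only [Matrix.cons_val_zero, Matrix.cons_val_one, Matrix.cons_val_two, Matrix.tail_cons,
          Matrix.head_cons, mul_assoc, mul_inv_cancel₀ ht, mul_one] at hdet
        rw [e0, hdet, one_smul]
      · ext i j
        rw [LinearMap.toMatrix_apply]
        fin_cases j <;> fin_cases i <;> simp [e0, e1, e2]
    · exact absurd ht' (hswap g t ht e1 t')
  have hAinj : ∀ g ∈ A, ∀ g' ∈ A, ∀ t : k, τ g (b 1) = t • b 1 → τ g' (b 1) = t • b 1 → g = g' := by
    intro g hg g' hg' t e e'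
    obtain ⟨s, -, s1, s2, s0⟩ := hAdata g hg
    obtain ⟨s', -, s1', s2', s0'⟩ := hAdata g' hg'
    have hs : s = t := smul_left_injective k (b.ne_zero 1) (s1.symm.trans e)
    have hs' : s' = t := smul_left_injective k (b.ne_zero 1) (s1'.symm.trans e')
    exact hext g g' (s0.trans s0'.symm) (e.trans e'.symm) (by rw [s2, s2', hs, hs'])
  let tw : A →* k :=
    { toFun := fun g => B (τ (g : G) (b 1)) (b 2)
      map_one' := by simp [hF.h12]
      map_mul' := fun g g' => by
        obtain ⟨t, -, e1, -⟩ := hAdata _ g.2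
        obtain ⟨t', -, e1', -⟩ := hAdata _ g'.2
        simp only [Subgroup.coe_mul, map_mul, Module.End.mul_apply, e1', e1, map_smul,
          LinearMap.smul_apply, smul_eq_mul, hF.h12, mul_one]
        exact mul_comm _ _ }
  have htw : ∀ g : A, τ (g : G) (b 1) = tw g • b 1 := fun g => by
    obtain ⟨t, -, e1, -⟩ := hAdata _ g.2
    show _ = B (τ (g : G) (b 1)) (b 2) • b 1
    simp only [e1, map_smul, LinearMap.smul_apply, smul_eq_mul, hF.h12, mul_one]
  have htwinj : Function.Injective tw := fun g g' e =>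
    Subtype.ext (hAinj _ g.2 _ g'.2 (tw g) (htw g) (e ▸ htw g'))
  have hAcyc : IsCyclic A := isCyclic_of_subgroup_isDomain tw htwinj
  have hAcomm : ∀ a ∈ A, ∀ c ∈ A, a * c = c * a := fun a ha c hc =>
    congrArg Subtype.val (mul_comm' (⟨a, ha⟩ : A) ⟨c, hc⟩)
  have hvA : v ∈ A := ⟨rfl, -1, by rw [hT1, neg_one_smul]⟩
  have hout : ∀ g, g * v = v * g → g ∉ A → ∃ t : k, t ≠ 0 ∧ τ g (b 1) = t • b 2 ∧
      τ g (b 2) = t⁻¹ • b 1 := fun g hg hgA =>
    (hshape g hg).resolve_left fun ⟨t, _, e1, _⟩ => hgA ⟨hg, t, e1⟩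
  have hprod : ∀ g g', g * v = v * g → g' * v = v * g' → g ∉ A → g' ∉ A → g * g' ∈ A := by
    intro g g' hg hg' hgA hgA'
    obtain ⟨t, -, -, e2⟩ := hout g hg hgA
    obtain ⟨t', -, e1', -⟩ := hout g' hg' hgA'
    refine ⟨by rw [mul_assoc, hg', ← mul_assoc, hg, mul_assoc], t' * t⁻¹, ?_⟩
    rw [map_mul, Module.End.mul_apply, e1', map_smul, e2, smul_smul]
  have hsq : ∀ g, g * v = v * g → g ∉ A → g * g = 1 := by
    intro g hg hgA
    obtain ⟨t, ht, e1, e2⟩ := hout g hg hgA
    obtain ⟨c, hc⟩ : ∃ c, c = B (τ g (b 0)) (b 0) / B (b 0) (b 0) := ⟨_, rfl⟩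
    have e0 := hC0 g hg
    rw [← hc] at e0
    have hc2 : c * c = 1 := by
      have h1 := hinv g (b 0) (b 0)
      simp only [e0, map_smul, LinearMap.smul_apply, smul_eq_mul] at h1
      exact mul_right_cancel₀ hF.h00 (by rw [one_mul]; linear_combination h1)
    refine hext _ 1 ?_ ?_ ?_ <;> rw [map_mul, map_one τ, Module.End.mul_apply, Module.End.one_apply]
    · rw [e0, map_smul, e0, smul_smul, hc2, one_smul]
    · rw [e1, map_smul, e2, smul_smul, mul_inv_cancel₀ ht, one_smul]
    · rw [e2, map_smul, e1, smul_smul, inv_mul_cancel₀ ht, one_smul]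
  -- the Sylow subgroup is not inside the torus
  obtain ⟨s, hsS, hsA⟩ : ∃ s ∈ (S : Subgroup G), s ∉ A := by
    by_contra! hc
    have hcyc : IsCyclic (S : Subgroup G) :=
      isCyclic_of_injective (Subgroup.inclusion hc) (Subgroup.inclusion_injective _)
    refine h.not_normalizer_le_centralizer S hSne inferInstance
      (IsCyclic.normalizer_le_centralizer ?_ hcyc)
    rw [Nat.minFac_eq_two_iff]
    exact hv ▸ orderOf_dvd_natCard v
  have hsv := hvS s hsS
  have hs2 : orderOf s = 2 := Involutions.Basic.invol_iff.2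
    ⟨hsq s hsv hsA, fun e => hsA (e ▸ one_mem A)⟩
  have hunique : ∀ a ∈ A, a * a = 1 → a = 1 ∨ a = v := by
    intro a ha haa
    obtain ⟨t, -, e1, -⟩ := hAdata a ha
    have h1 : t * t = 1 := by
      have h3 := congrArg (fun g => τ g (b 1)) haa
      simp only [map_mul, Module.End.mul_apply, e1, map_smul, smul_smul, map_one,
        Module.End.one_apply] at h3
      exact smul_left_injective k (b.ne_zero 1) (h3.trans (one_smul k (b 1)).symm)
    rcases mul_self_eq_one_iff.1 h1 with rfl | rfl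
    · exact Or.inl (hAinj a ha 1 (one_mem A) 1 e1 (by simp))
    · exact Or.inr (hAinj a ha v hvA (-1) e1 (by rw [hT1, neg_one_smul]))
  have hrel : ((S : Subgroup G) ⊓ A).relIndex S = 2 := by
    rw [Subgroup.inf_relIndex_left, Subgroup.relIndex, Subgroup.index_eq_two_iff]
    refine ⟨⟨s, hsS⟩, fun c => ?_⟩
    simp only [Subgroup.mem_subgroupOf, Subgroup.coe_mul]
    by_cases hc : (c : G) ∈ A
    · exact Or.inr ⟨hc, fun h' => hsA (by simpa using mul_mem (inv_mem hc) h')⟩
    · exact Or.inl ⟨hprod _ _ (hvS _ c.2) hsv hc hsA, hc⟩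
  have hall : ∀ w : G, orderOf w = 2 → IsConj w v := by
    intro w hw
    obtain ⟨g, hg⟩ := Fusion.Thompson.exists_conj_mem_maximal S ((S : Subgroup G) ⊓ A) inf_le_left
      hrel h.no_index_two w hw
    have h1 := hunique _ hg.2 (by
      calc g * w * g⁻¹ * (g * w * g⁻¹) = g * (w * w) * g⁻¹ := by group
        _ = 1 := by rw [Involutions.Basic.invol_mul_self hw]; group)
    exact isConj_iff.2 ⟨g, h1.resolve_left fun e =>
      Involutions.Basic.invol_ne_one hw (conj_eq_one_iff.1 e)⟩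
  refine ⟨v, s, A, ⟨hv, hs2, hvA, hsA, hsv, hAcomm, fun a ha => ?_, fun g hg => ?_, hunique,
    fun a ha ha1 g hg => ?_, fun a c ha hc => (hall a ha).trans (hall c hc).symm⟩⟩
  · have hsaA : s * a ∉ A := fun h' => hsA (by simpa using mul_mem h' (inv_mem ha))
    have hsav : s * a * v = v * (s * a) := by
      rw [mul_assoc, ha.1, ← mul_assoc, hsv, mul_assoc]
    have h1 := hsq _ hsav hsaA
    rw [Involutions.Basic.invol_inv hs2]
    exact eq_inv_of_mul_eq_one_left (by rw [← h1]; group)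
  · by_cases hgA : g ∈ A
    · exact Or.inl hgA
    · exact Or.inr (hprod s g hsv hg hsA hgA)
  · obtain ⟨t, -, -, -, a0⟩ := hAdata a ha
    obtain ⟨t', -, c1, c2, c0⟩ := hAdata _ hg
    have ht'1 : t' ≠ 1 := by
      intro e
      refine ha1 (conj_eq_one_iff.1 (hAinj _ hg 1 (one_mem A) t' c1 ?_))
      rw [e]; simp
    obtain ⟨u, hu⟩ : ∃ u, u = τ g (b 0) := ⟨_, rfl⟩
    have hufix : τ (g * a * g⁻¹) u = u := by
      rw [hu, ← Module.End.mul_apply, ← map_mul, inv_mul_cancel_right, map_mul,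
        Module.End.mul_apply, a0]
    have e1 : B u (b 1) = 0 := by
      have h1 := hinv (g * a * g⁻¹) u (b 1)
      rw [hufix, c1, map_smul, smul_eq_mul] at h1
      have h3 : (t' - 1) * B u (b 1) = 0 := by linear_combination h1
      exact (mul_eq_zero.1 h3).resolve_left (sub_ne_zero.2 ht'1)
    have e2 : B u (b 2) = 0 := by
      have h1 := hinv (g * a * g⁻¹) u (b 2)
      rw [hufix, c2, map_smul, smul_eq_mul] at h1
      have h3 : (t'⁻¹ - 1) * B u (b 2) = 0 := by linear_combination h1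
      exact (mul_eq_zero.1 h3).resolve_left (sub_ne_zero.2 fun e => ht'1 (inv_eq_one.1 e))
    obtain ⟨c, hc⟩ : ∃ c, c = B u (b 0) / B (b 0) (b 0) := ⟨_, rfl⟩
    have hgb : τ g (b 0) = c • b 0 := by
      conv_lhs => rw [← hu, hcoord u, e1, e2, zero_smul, zero_smul, add_zero, add_zero, ← hc]
    have hc0 : c ≠ 0 := fun h0 => by
      have h1 := hinv g (b 0) (b 0)
      rw [hgb, h0, zero_smul, map_zero, eq_comm] at h1
      exact hF.h00 h1
    have hperp : ∀ i : Fin 3, i ≠ 0 → τ g⁻¹ (b i) =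
        B (τ g⁻¹ (b i)) (b 2) • b 1 + B (τ g⁻¹ (b i)) (b 1) • b 2 := by
      intro i hi
      have h0 : B (τ g⁻¹ (b i)) (b 0) = 0 := by
        have h1 := hinv g (τ g⁻¹ (b i)) (b 0)
        rw [← Module.End.mul_apply, ← map_mul, mul_inv_cancel, map_one, Module.End.one_apply, hgb,
          map_smul] at h1
        rw [← h1]
        fin_cases i
        · exact absurd rfl hi
        · simp [h10]
        · simp [h20]
      conv_lhs => rw [hcoord (τ g⁻¹ (b i)), h0, zero_div, zero_smul, zero_add]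
    have hginv : τ g⁻¹ (b 0) = c⁻¹ • b 0 := by
      have h1 := congrArg (τ g⁻¹) hgb
      rw [← Module.End.mul_apply, ← map_mul, inv_mul_cancel, map_one, Module.End.one_apply,
        map_smul] at h1
      conv_rhs => rw [h1, smul_smul, inv_mul_cancel₀ hc0, one_smul]
    have hvneg : ∀ i : Fin 3, i ≠ 0 → τ v (τ g⁻¹ (b i)) = -τ g⁻¹ (b i) := fun i hi => by
      rw [hperp i hi, map_add, map_smul, map_smul, hT1, hT2, smul_neg, smul_neg, neg_add]
    have key : g * v * g⁻¹ = v := by
      refine hext _ v ?_ ?_ ?_ <;> rw [map_mul, map_mul, Module.End.mul_apply, Module.End.mul_apply]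
      · rw [hginv, map_smul, hT0, map_smul, hgb, smul_smul, inv_mul_cancel₀ hc0, one_smul]
      · rw [hvneg 1 (by decide), map_neg, ← Module.End.mul_apply, ← map_mul, mul_inv_cancel, map_one,
          Module.End.one_apply, hT1]
      · rw [hvneg 2 (by decide), map_neg, ← Module.End.mul_apply, ← map_mul, mul_inv_cancel, map_one,
          Module.End.one_apply, hT2]
    exact mul_inv_eq_iff_eq_mul.1 key

/-- In the odd case the hypothesis of the Brauer–Suzuki–Wall theorem holds. -/
theorem Hyp.bsw_of_odd {G : Type u} [Group G] {p : ℕ} [Fact p.Prime] [Fintype G] {P : Sylow p G}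
    {E : Subgroup G} (h : Hyp p G P E) (hodd : Odd (Nat.card E)) :
    ∃ (z s : G) (K : Subgroup G), BSW.Hyp z s K := by
  obtain ⟨k, _, _, _, l, σ, hl, hl', hσ⟩ := h.exists_small_rep hodd
  obtain ⟨y, x, m, M, g⟩ := h.exists_gens
  obtain ⟨τ, B, hsym, hnd, hinv, hx⟩ := g.exists_three h hσ
    (by rw [Module.finrank_fin_fun]; exact hl) (by rw [Module.finrank_fin_fun]; exact hl')
  exact h.bsw_of_three τ B hsym hnd hinv hx

end Cfsg.Agent.Lib.UniqueDegree79
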