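import Cfsg.Agent.Lib.Perm.PrimeDegreeSylow
import Cfsg.Agent.Lib.H80.LinearChar
import Cfsg.Agent.Lib.Clifford.Rep
import Cfsg.Agent.Lib.Characters.Linear
import Cfsg.Agent.Lib.DegreeBounds.Basic
import Mathlib.Algebra.Group.Pointwise.Set.Basic

/-!
# A unique irreducible character of prime degree: the standing hypotheses

`P` has prime order `p` and is its own centraliser, `N(P) = P E` with `E` a TI-subgroup of index
two in its normaliser, and exactly one irreducible character has degree `p`.  In a transitive
group of degree `p` this forces a perfect, simple group with `p ≥ 5` and `E` cyclic.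
-/

namespace Cfsg.Agent.Lib.UniqueDegree79

open scoped Pointwise commutatorElement
open Subgroup Cfsg.Agent.Lib.Characters.Basic Cfsg.Agent.Lib.Perm.PrimeDegreeSylow

universe u

/-- The standing hypotheses. -/
structure Hyp (p : ℕ) (G : Type u) [Group G] (P : Sylow p G) (E : Subgroup G) : Prop where
  card_P : Nat.card (P : Subgroup G) = p
  cent : centralizer ((P : Subgroup G) : Set G) = P
  sup : (P : Subgroup G) ⊔ E = normalizer ((P : Subgroup G) : Set G)
  inf : (P : Subgroup G) ⊓ E = ⊥
  card_normalizer : Nat.card (normalizer ((P : Subgroup G) : Set G)) = p * Nat.card E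
  nE : Nat.card (normalizer (E : Set G)) = 2 * Nat.card E
  ti : ∀ g : G, g ∉ normalizer (E : Set G) → E ⊓ E.map (MulAut.conj g).toMonoidHom = ⊥
  uniq : ∃! χ : Cfsg.IrrCharacter G, Cfsg.charDegree (χ : G → ℂ) = p
  five : 5 ≤ p
  two_le : 2 ≤ Nat.card E
  dvd : Nat.card E ∣ p - 1
  cyclic : IsCyclic E
  perfect : commutator G = ⊤
  simple : IsSimpleGroup G

variable {G : Type u} [Group G]

/-- The part of the facts that needs no character. -/
theorem card_and_cyclic {p : ℕ} [hp : Fact p.Prime] [Finite G] (P : Sylow p G) (E : Subgroup G)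
    (hP : Nat.card (P : Subgroup G) = p) (hC : centralizer ((P : Subgroup G) : Set G) = P)
    (hsup : (P : Subgroup G) ⊔ E = normalizer ((P : Subgroup G) : Set G))
    (hinf : (P : Subgroup G) ⊓ E = ⊥) :
    Nat.card E ∣ p - 1 ∧ IsCyclic E ∧
      Nat.card (normalizer ((P : Subgroup G) : Set G)) = p * Nat.card E := by
  have hPc : IsCyclic (P : Subgroup G) := isCyclic_of_prime_card hP
  have hle : E ≤ normalizer ((P : Subgroup G) : Set G) := hsup ▸ le_sup_right
  let φ : E →* MulAut (P : Subgroup G) :=
    (P : Subgroup G).normalizerMonoidHom.comp (Subgroup.inclusion hle)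
  have hinj : Function.Injective φ := by
    rw [injective_iff_map_eq_one]
    intro x hx
    have h1 : Subgroup.inclusion hle x ∈ (P : Subgroup G).normalizerMonoidHom.ker := hx
    rw [Subgroup.normalizerMonoidHom_ker, Subgroup.mem_subgroupOf, hC] at h1
    have h2 : (x : G) ∈ (P : Subgroup G) ⊓ E := ⟨h1, x.2⟩
    rw [hinf, Subgroup.mem_bot] at h2
    exact Subtype.ext h2
  have hcard : Nat.card (MulAut (P : Subgroup G)) = p - 1 := by
    rw [IsCyclic.card_mulAut, hP, Nat.totient_prime hp.out]
  have haut : IsCyclic (MulAut (P : Subgroup G)) := by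
    have := (IsCyclic.mulAutMulEquiv (G := (P : Subgroup G)))
    rw [hP] at this
    exact isCyclic_of_surjective this.symm.toMonoidHom this.symm.surjective
  refine ⟨hcard ▸ Subgroup.card_dvd_of_injective φ hinj, isCyclic_of_injective φ hinj, ?_⟩
  rw [← hsup]
  have hco : Disjoint (P : Subgroup G) E := disjoint_iff.2 hinf
  have h := Nat.card_congr (Equiv.ofBijective
    (fun x : ((P : Subgroup G) : Set G) × E => (⟨(x.1 : G) * x.2, mul_mem (mem_sup_left x.1.2)
      (mem_sup_right x.2.2)⟩ : ((P : Subgroup G) ⊔ E : Subgroup G))) ⟨?_, ?_⟩)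
  · rw [← h, Nat.card_prod]
    exact congrArg (· * Nat.card E) hP
  · intro a b hab
    exact Subgroup.mul_injective_of_disjoint hco (congrArg Subtype.val hab)
  · rintro ⟨x, hx⟩
    have : x ∈ (((P : Subgroup G) : Set G) * (E : Set G)) := by
      rw [← Subgroup.coe_mul_of_right_le_normalizer_left (P : Subgroup G) E hle]
      exact hx
    obtain ⟨a, ha, b, hb, rfl⟩ := this
    exact ⟨(⟨a, ha⟩, ⟨b, hb⟩), rfl⟩

/-- A linear character fixes the character of degree `p`, so its `p`-th power is trivial. -/
theorem linear_pow_eq_one {p : ℕ} [Finite G]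
    (huniq : ∃! χ : Cfsg.IrrCharacter G, Cfsg.charDegree (χ : G → ℂ) = p)
    (lam : G →* ℂˣ) (g : G) : lam g ^ p = 1 := by
  obtain ⟨σ, hσ, hu⟩ := huniq
  obtain ⟨n, ρ, hρ, hχ⟩ := exists_rep σ
  have hn : n = p := by
    have h1 := DegreeBounds.Basic.charDegree_cast (isCharacter_irr σ)
    rw [hσ, ← hχ, Representation.char_one, Module.finrank_fin_fun] at h1
    exact_mod_cast h1
  subst hn
  let ρ' : Representation ℂ G (Fin n → ℂ) :=
    { toFun := fun g => (lam g : ℂ) • ρ g
      map_one' := by simp
      map_mul' := fun a b => by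
        rw [map_mul, map_mul, Units.val_mul, smul_mul_smul_comm] }
  have hchar : ρ'.character = fun g => (lam g : ℂ) * ρ.character g := by
    funext a
    show LinearMap.trace ℂ _ ((lam a : ℂ) • ρ a) = _
    rw [map_smul, smul_eq_mul]
    rfl
  have hirr : Cfsg.IsIrrCharacter G (fun g => (lam g : ℂ) * (σ : G → ℂ) g) :=
    Characters.Linear.isIrrCharacter_linear_mul
      (Induced.Character.isCharacter_hom lam) (by simp) σ.2
  have heq : (⟨_, hirr⟩ : Cfsg.IrrCharacter G) = σ := by
    refine hu _ ?_
    show Cfsg.charDegree _ = n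
    rw [← hσ]
    simp [Cfsg.charDegree]
  have h := congrArg Subtype.val heq
  simp only at h
  rw [← hχ] at h
  have hd := Clifford.Rep.det_eq_of_char ρ ρ' (hchar.trans h) g
  rw [show ρ' g = (lam g : ℂ) • ρ g from rfl, LinearMap.det_smul, Module.finrank_fin_fun] at hd
  have hne : LinearMap.det (ρ g) ≠ 0 := by
    intro h0
    have h1 : LinearMap.det (ρ g⁻¹) * LinearMap.det (ρ g) = 1 := by
      rw [← map_mul, ← map_mul, inv_mul_cancel, map_one, map_one]
    rw [h0, mul_zero] at h1
    exact zero_ne_one h1
  exact Units.ext (by simpa using (mul_eq_right₀ hne).1 hd)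

variable {α : Type*} [Fintype α] {p : ℕ} [hp : Fact p.Prime]

/-- The standing hypotheses hold in the situation of the theorem. -/
theorem hyp_of_perm (hα : Fintype.card α = p) (G : Subgroup (Equiv.Perm α))
    [MulAction.IsPretransitive G α]
    (huniq : ∃! χ : Cfsg.IrrCharacter G, Cfsg.charDegree (χ : G → ℂ) = p) (P : Sylow p G)
    (E : Subgroup G) (hPE : (P : Subgroup G) ⊔ E = normalizer ((P : Subgroup G) : Set G))
    (hPE' : (P : Subgroup G) ⊓ E = ⊥)
    (hNE : Nat.card (normalizer (E : Set G)) = 2 * Nat.card E)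
    (hTI : ∀ g : G, g ∉ normalizer (E : Set G) → E ⊓ E.map (MulAut.conj g).toMonoidHom = ⊥) :
    Hyp p G P E := by
  classical
  have hP := card_sylow hα G P
  have hC := centralizer_sylow hα G P
  obtain ⟨hdvd, hcyc, hN⟩ := card_and_cyclic P E hP hC hPE hPE'
  have hnab : ¬ ∀ a b : G, a * b = b * a := by
    intro hc
    obtain ⟨σ, hσ, -⟩ := huniq
    have h1 := Characters.Linear.degree_eq_one_of_comm hc σ
    rw [Cfsg.charDegree, h1] at hσ
    simp at hσ
    exact hp.out.one_lt.ne hσ
  have htwo : 2 ≤ Nat.card E := by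
    by_contra h
    have hE : Nat.card E = 1 := by have := Nat.card_pos (α := E); omega
    rw [Subgroup.card_eq_one] at hE
    subst hE
    have hcard : Nat.card G = 2 := by
      have : normalizer ((⊥ : Subgroup G) : Set G) = ⊤ := normalizer_eq_top_iff.2 inferInstance
      rw [this, Subgroup.card_top, Subgroup.card_bot] at hNE
      omega
    have : IsCyclic G := isCyclic_of_prime_card (p := 2) hcard
    exact hnab fun a b => mul_comm' a b
  have hne1 : commutator G ≠ ⊥ := by
    intro h
    refine hnab fun a b => ?_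
    have := Subgroup.commutator_mem_commutator (mem_top a) (mem_top b)
    rw [← _root_.commutator_def, h, mem_bot, commutatorElement_eq_one_iff_commute] at this
    exact this
  have hperf : commutator G = ⊤ := by
    by_contra htop
    obtain ⟨g, hg⟩ : ∃ g, g ∉ commutator G := by
      by_contra! h
      exact htop (eq_top_iff' _ |>.2 h)
    obtain ⟨χ, hχ1, hχg⟩ := H80.LinearChar.exists_deg_one_apply_ne hg
    let lam : G →* ℂˣ := (Characters.Linear.degOneHom (isCharacter_irr χ) hχ1)
    have hlam : ∀ x, (lam x : ℂ) = (χ : G → ℂ) x := Characters.Linear.degOneHom_apply _ _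
    have hker : normalizer ((P : Subgroup G) : Set G) ≤ lam.ker := by
      rw [← hPE, sup_le_iff]
      refine ⟨fun x hx => ?_, fun x hx => ?_⟩
      · refine MonoidHom.mem_ker.2 (Units.ext ?_)
        rw [hlam, Units.val_one]
        exact H80.LinearChar.eq_one_of_mem_commutator χ hχ1 (sylow_le_normal hα G P _ hne1 hx)
      · refine MonoidHom.mem_ker.2 ?_
        have h1 := linear_pow_eq_one huniq lam x
        have h2 : lam x ^ Nat.card E = 1 := by
          rw [← map_pow]
          have h3 : (⟨x, hx⟩ : E) ^ Nat.card E = 1 := pow_card_eq_one'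
          have h4 := congrArg Subtype.val h3
          simp only [SubmonoidClass.coe_pow, OneMemClass.coe_one] at h4
          rw [h4, map_one]
        have hco : Nat.Coprime p (Nat.card E) := by
          refine (Nat.Prime.coprime_iff_not_dvd hp.out).2 fun h => ?_
          have := hp.out.one_lt
          have := Nat.le_of_dvd (by omega) (h.trans hdvd)
          omega
        have h5 : lam x ^ Nat.gcd p (Nat.card E) = 1 := pow_gcd_eq_one.2 ⟨h1, h2⟩
        rwa [hco.gcd_eq_one, pow_one] at h5
    have hcom : commutator G ≤ lam.ker := Abelianization.commutator_subset_ker lam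
    have hF := Sylow.normalizer_sup_eq_top' (N := commutator G) P
      (sylow_le_normal hα G P _ hne1)
    have hg' : g ∈ lam.ker := (hF.ge.trans (sup_le hker hcom)) (mem_top g)
    exact hχg (by rw [← hlam, MonoidHom.mem_ker.1 hg', Units.val_one])
  have hsimple : IsSimpleGroup G := by
    have : Nontrivial G := by
      by_contra h
      have := not_nontrivial_iff_subsingleton.mp h
      exact hnab fun a b => Subsingleton.elim _ _
    refine ⟨fun M hM => ?_⟩
    by_cases hMb : M = ⊥
    · exact Or.inl hMb
    refine Or.inr ?_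
    have hF := Sylow.normalizer_sup_eq_top' (N := M) P (sylow_le_normal hα G P M hMb)
    have htop : E ⊔ M = ⊤ := by
      refine top_le_iff.1 (hF.ge.trans ?_)
      show normalizer ((P : Subgroup G) : Set G) ⊔ M ≤ _
      rw [← hPE]
      exact sup_le (sup_le ((sylow_le_normal hα G P M hMb).trans le_sup_right) le_sup_left)
        le_sup_right
    rw [eq_top_iff, ← hperf, _root_.commutator_def, Subgroup.commutator_le]
    intro a _ b _
    rw [← QuotientGroup.eq_one_iff]
    have hmem : ∀ x : G, ∃ y ∈ E, (x : G ⧸ M) = (y : G ⧸ M) := by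
      intro x
      have hx : x ∈ E ⊔ M := htop ▸ mem_top x
      rw [← SetLike.mem_coe, Subgroup.mul_normal E M] at hx
      obtain ⟨y, hy, m, hm, rfl⟩ := hx
      exact ⟨y, hy, by rw [QuotientGroup.mk_mul, (QuotientGroup.eq_one_iff m).2 hm, mul_one]⟩
    obtain ⟨y, hy, hya⟩ := hmem a
    obtain ⟨z, hz, hzb⟩ := hmem b
    have hyz : y * z = z * y := congrArg Subtype.val (mul_comm' (⟨y, hy⟩ : E) ⟨z, hz⟩)
    have e : (((⁅a, b⁆ : G)) : G ⧸ M) = ((⁅y, z⁆ : G) : G ⧸ M) := by
      simp only [commutatorElement_def, QuotientGroup.mk_mul, QuotientGroup.mk_inv, hya, hzb]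
    rw [e, commutatorElement_eq_one_iff_commute.2 hyz, QuotientGroup.mk_one]
  have hfive : 5 ≤ p := by
    have h2 := hp.out.two_le
    by_contra h
    have h5 : p = 2 ∨ p = 3 ∨ p = 4 := by omega
    rcases h5 with rfl | rfl | rfl
    · have := Nat.le_of_dvd (by norm_num) hdvd
      omega
    · obtain ⟨k, e, hk, hk1, -, hNe⟩ := card_decomposition hα G P
      have hfac := card_dvd_factorial hα G
      rw [hN] at hNe
      have he : e = Nat.card E := by omega
      have hE2 : Nat.card E = 2 := by
        have := Nat.le_of_dvd (by norm_num) hdvd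
        omega
      have hk' : k = 1 := by
        have h6 := Nat.le_of_dvd (by decide) hfac
        rw [hk, he, hE2] at h6
        simp [Nat.factorial] at h6
        omega
      have htop : normalizer ((P : Subgroup G) : Set G) = ⊤ := by
        refine Subgroup.eq_top_of_card_eq _ ?_
        rw [hN, hk, hk', he, one_mul]
      rcases hsimple.eq_bot_or_eq_top_of_normal (P : Subgroup G) (normalizer_eq_top_iff.1 htop)
        with hb | ht
      · rw [hb, Subgroup.card_bot] at hP
        omega
      · have := isCyclic_of_prime_card (α := (P : Subgroup G)) hP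
        rw [ht] at this
        have : IsCyclic G := isCyclic_of_surjective (Subgroup.topEquiv (G := G)).toMonoidHom
          (MulEquiv.surjective _)
        exact hnab fun a b => mul_comm' a b
    · exact absurd hp.out (by decide)
  exact ⟨hP, hC, hPE, hPE', hN, hNE, hTI, huniq, hfive, htwo, hdvd, hcyc, hperf, hsimple⟩

end Cfsg.Agent.Lib.UniqueDegree79
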